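import Mathlib

set_option autoImplicit false
set_option linter.style.haveILetI false

/-!
Finite field extension tools: roots of unity descend, regular representation, norms,
Cayley–Hamilton consequences, power criterion in `PSL_n`.
-/

namespace Cfsg.Agent.Lib.Helper49

open Polynomial

/-- Roots of unity of order dividing `q - 1` in an extension of a finite field `F` lie in `F`. -/
theorem ff_mem_range_of_pow_eq_one {F K : Type*} [Field F] [Fintype F] [Field K] [Algebra F K]
    {m : ℕ} (hm : m ∣ Fintype.card F - 1) (y : K) (hy : y ^ m = 1) :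
    ∃ c : F, algebraMap F K c = y := by
  classical
  have hq1 : 1 < Fintype.card F := Fintype.one_lt_card
  have hm0 : m ≠ 0 := by
    rintro rfl
    rw [zero_dvd_iff] at hm
    omega
  haveI : NeZero m := ⟨hm0⟩
  obtain ⟨g, hg⟩ := IsCyclic.exists_generator (α := Fˣ)
  have hordg : orderOf (g : F) = Fintype.card F - 1 := by
    rw [orderOf_units, orderOf_eq_card_of_forall_mem_zpowers hg, Nat.card_units,
      Nat.card_eq_fintype_card]
  obtain ⟨e, he⟩ := hm
  have he0 : e ≠ 0 := by
    rintro rfl
    rw [mul_zero] at he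
    omega
  have hω : orderOf ((g : F) ^ e) = m := by
    rw [orderOf_pow_of_dvd he0 ⟨m, by rw [hordg, he, mul_comm]⟩, hordg, he]
    exact Nat.mul_div_cancel _ (Nat.pos_of_ne_zero he0)
  have hprim : IsPrimitiveRoot ((g : F) ^ e) m := by
    rw [← hω]
    exact IsPrimitiveRoot.orderOf _
  have hprimK : IsPrimitiveRoot (algebraMap F K ((g : F) ^ e)) m :=
    hprim.map_of_injective (algebraMap F K).injective
  obtain ⟨i, -, hi⟩ := hprimK.eq_pow_of_pow_eq_one hy
  exact ⟨((g : F) ^ e) ^ i, by rw [map_pow, hi]⟩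

/-- An element of an extension of the finite field `F` lies in `F` iff it is fixed by the
`q - 1`-st power (nonzero case). -/
theorem ff_mem_range_iff {F K : Type*} [Field F] [Fintype F] [Field K] [Algebra F K]
    (y : K) (hy : y ≠ 0) :
    (∃ c : F, algebraMap F K c = y) ↔ y ^ (Fintype.card F - 1) = 1 := by
  constructor
  · rintro ⟨c, rfl⟩
    have hc : c ≠ 0 := by
      rintro rfl
      simp at hy
    rw [← map_pow, FiniteField.pow_card_sub_one_eq_one c hc, map_one]
  · intro h
    exact ff_mem_range_of_pow_eq_one dvd_rfl y h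

/-- The regular representation sends exactly the base field to scalar matrices. -/
theorem leftMul_eq_smul_one_iff {F K : Type*} [Field F] [Field K] [Algebra F K] {n : ℕ}
    (b : Module.Basis (Fin n) F K) (x : K) (c : F) :
    Algebra.leftMulMatrix b x = c • (1 : Matrix (Fin n) (Fin n) F) ↔ x = algebraMap F K c := by
  constructor
  · intro h
    apply Algebra.leftMulMatrix_injective b
    rw [h, AlgHom.commutes, Algebra.algebraMap_eq_smul_one]
  · rintro rfl
    rw [AlgHom.commutes, Algebra.algebraMap_eq_smul_one]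

/-- The norm in an extension of finite fields, as a power. -/
theorem ff_norm_pow {F K : Type*} [Field F] [Fintype F] [Field K] [Finite K] [Algebra F K]
    (x : K) :
    algebraMap F K (Algebra.norm F x) =
      x ^ ∑ i ∈ Finset.range (Module.finrank F K), Fintype.card F ^ i := by
  rw [FiniteField.algebraMap_norm_eq_pow_sum, Nat.card_eq_fintype_card]

/-- In `F[X]/(h)` with `h` monic irreducible, the norm of the root as a power of the root. -/
theorem adjoinRoot_root_pow {F : Type*} [Field F] [Fintype F] (h : F[X]) (hm : h.Monic)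
    [Fact (Irreducible h)] :
    (AdjoinRoot.root h) ^ ∑ i ∈ Finset.range h.natDegree, Fintype.card F ^ i =
      AdjoinRoot.of h ((-1) ^ h.natDegree * h.coeff 0) := by
  have hne : h ≠ 0 := hm.ne_zero
  haveI : Module.Finite F (AdjoinRoot h) := (AdjoinRoot.powerBasis hne).finite
  haveI : Finite (AdjoinRoot h) := Module.finite_of_finite F
  have hfr : Module.finrank F (AdjoinRoot h) = h.natDegree := by
    rw [(AdjoinRoot.powerBasis hne).finrank, AdjoinRoot.powerBasis_dim]
  have h1 := ff_norm_pow (F := F) (AdjoinRoot.root h)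
  rw [hfr] at h1
  rw [← h1]
  have h2 := Algebra.PowerBasis.norm_gen_eq_coeff_zero_minpoly (AdjoinRoot.powerBasis hne)
  rw [AdjoinRoot.minpoly_powerBasis_gen_of_monic hm, AdjoinRoot.powerBasis_dim,
    AdjoinRoot.powerBasis_gen] at h2
  rw [h2]
  rfl

/-- Divisibility of `X ^ N - c` by an irreducible polynomial, tested at the root. -/
theorem dvd_X_pow_sub_C_of_root {F : Type*} [Field F] (h : F[X]) (N : ℕ) (c : F)
    (hx : (AdjoinRoot.root h) ^ N = AdjoinRoot.of h c) : h ∣ X ^ N - C c := by
  rw [← AdjoinRoot.mk_eq_zero]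
  simp [hx]

/-- Cayley–Hamilton: if the characteristic polynomial divides `X ^ N - c` then `A ^ N = c`. -/
theorem pow_eq_smul_of_charpoly_dvd {F : Type*} [Field F] {n : Type*} [Fintype n] [DecidableEq n]
    (A : Matrix n n F) (N : ℕ) (c : F) (h : A.charpoly ∣ X ^ N - C c) : A ^ N = c • 1 := by
  obtain ⟨g, hg⟩ := h
  have h1 := congrArg (aeval A) hg
  rw [map_mul, Matrix.aeval_self_charpoly, zero_mul] at h1
  simp only [map_sub, map_pow, aeval_X, aeval_C] at h1
  rw [Algebra.algebraMap_eq_smul_one] at h1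
  exact sub_eq_zero.mp h1

/-- The power criterion in `PSL_n`. -/
theorem psl_pow_eq_one_iff {F : Type*} [Field F] {n : ℕ}
    (A : Matrix.SpecialLinearGroup (Fin n) F) (k : ℕ) :
    (QuotientGroup.mk A : Matrix.ProjectiveSpecialLinearGroup (Fin n) F) ^ k = 1 ↔
      ∃ c : F, (A : Matrix (Fin n) (Fin n) F) ^ k = c • (1 : Matrix (Fin n) (Fin n) F) := by
  rw [← QuotientGroup.mk_pow, QuotientGroup.eq_one_iff, Matrix.SpecialLinearGroup.mem_center_iff]
  simp only [Fintype.card_fin]
  constructor
  · rintro ⟨c, hc, hcA⟩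
    refine ⟨c, ?_⟩
    rw [← Matrix.SpecialLinearGroup.coe_pow, ← hcA, Matrix.scalar_apply,
      Matrix.smul_one_eq_diagonal]
  · rintro ⟨c, hk⟩
    have hdet : ((A : Matrix (Fin n) (Fin n) F) ^ k).det = 1 := by
      rw [Matrix.det_pow, A.det_coe, one_pow]
    rw [hk, Matrix.det_smul, Matrix.det_one, mul_one, Fintype.card_fin] at hdet
    refine ⟨c, hdet, ?_⟩
    rw [Matrix.SpecialLinearGroup.coe_pow, hk, Matrix.scalar_apply, Matrix.smul_one_eq_diagonal]

/-- `a ∣ b * k ↔ a / gcd a b ∣ k`. -/
theorem dvd_mul_iff_div_gcd (a b k : ℕ) (ha : 0 < a) : a ∣ b * k ↔ a / Nat.gcd a b ∣ k := by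
  have hg : 0 < Nat.gcd a b := Nat.gcd_pos_of_pos_left b ha
  have hcop : Nat.Coprime (a / Nat.gcd a b) (b / Nat.gcd a b) := Nat.coprime_div_gcd_div_gcd hg
  obtain ⟨a', ha'⟩ := Nat.gcd_dvd_left a b
  obtain ⟨b', hb'⟩ := Nat.gcd_dvd_right a b
  generalize Nat.gcd a b = g at *
  subst ha' hb'
  rw [Nat.mul_div_cancel_left _ hg] at hcop ⊢
  rw [Nat.mul_div_cancel_left _ hg] at hcop
  rw [mul_assoc, Nat.mul_dvd_mul_iff_left hg]
  exact ⟨fun h => hcop.dvd_of_dvd_mul_left h, fun h => Dvd.dvd.mul_left h _⟩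

end Cfsg.Agent.Lib.Helper49
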