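import Mathlib
import Cfsg.Agent.Lib.Helper49.FFExt

set_option autoImplicit false
set_option linter.style.haveILetI false

/-!
Tools for element orders in `PSL_n(q)`, general `n`:
fixed-point counting on invariant subspaces, block diagonal matrices, Singer-type blocks.
-/

namespace Cfsg.Agent.Lib.Helper49

section fix

variable {F V : Type*} [Field F] [Fintype F] [AddCommGroup V] [Module F V]
  [FiniteDimensional F V]

/-- Fixed point counting: for `σ ^ r = 1` (`r` prime) and a `σ`-invariant subspace `U`,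
`|U| ≡ |U ∩ Fix σ|` modulo `r`. -/
theorem fix_count (r : ℕ) [Fact r.Prime] (σ : V →ₗ[F] V) (hσ : σ ^ r = 1)
    (U : Submodule F V) (hU : ∀ v ∈ U, σ v ∈ U) :
    ((Fintype.card F : ℕ) : ZMod r) ^ Module.finrank F U =
      ((Fintype.card F : ℕ) : ZMod r) ^ Module.finrank F ↥(U ⊓ LinearMap.ker (σ - 1)) := by
  classical
  haveI : Finite V := Module.finite_of_finite F
  haveI : Fintype U := Fintype.ofFinite U
  let f : Function.End U := fun v => ⟨σ v, hU v v.2⟩
  have hfpow : ∀ j : ℕ, ∀ v : U, ((f ^ j) v : V) = (σ ^ j) v := by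
    intro j
    induction j with
    | zero =>
      intro v
      rfl
    | succ j ih =>
      intro v
      rw [pow_succ, pow_succ]
      show ((f ^ j) (f v) : V) = (σ ^ j) (σ v)
      rw [ih]
  have hf : f ^ r ^ 1 = 1 := by
    rw [pow_one]
    funext v
    apply Subtype.ext
    rw [hfpow, hσ]
    rfl
  have h1 := Equiv.Perm.card_fixedPoints_modEq hf
  have e : f.fixedPoints ≃ ↥(U ⊓ LinearMap.ker (σ - 1)) :=
    { toFun := fun v => ⟨(v.1 : V), ⟨v.1.2, LinearMap.mem_ker.mpr (by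
          rw [LinearMap.sub_apply, Module.End.one_apply, sub_eq_zero]
          exact congrArg Subtype.val v.2)⟩⟩
      invFun := fun w => ⟨⟨(w : V), w.2.1⟩, by
          show f _ = _
          apply Subtype.ext
          have h : (σ - 1) (w : V) = 0 := LinearMap.mem_ker.mp w.2.2
          rw [LinearMap.sub_apply, Module.End.one_apply, sub_eq_zero] at h
          exact h⟩
      left_inv := fun v => rfl
      right_inv := fun w => rfl }
  have hc1 : Fintype.card U = Fintype.card F ^ Module.finrank F U := by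
    rw [← Nat.card_eq_fintype_card, Module.natCard_eq_pow_finrank (K := F),
      Nat.card_eq_fintype_card]
  have hc2 : Fintype.card f.fixedPoints =
      Fintype.card F ^ Module.finrank F ↥(U ⊓ LinearMap.ker (σ - 1)) := by
    rw [← Nat.card_eq_fintype_card, Nat.card_congr e, Module.natCard_eq_pow_finrank (K := F),
      Nat.card_eq_fintype_card]
  rw [hc1, hc2] at h1
  have h2 := (ZMod.natCast_eq_natCast_iff _ _ r).mpr h1
  push_cast at h2
  exact h2

/-- The order of `q` mod `r` divides `dim U - dim (U ∩ Fix σ)`. -/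
theorem fix_dvd (r : ℕ) [Fact r.Prime] (hq : ((Fintype.card F : ℕ) : ZMod r) ≠ 0)
    (σ : V →ₗ[F] V) (hσ : σ ^ r = 1) (U : Submodule F V) (hU : ∀ v ∈ U, σ v ∈ U) :
    orderOf ((Fintype.card F : ℕ) : ZMod r) ∣
      Module.finrank F U - Module.finrank F ↥(U ⊓ LinearMap.ker (σ - 1)) := by
  have h := fix_count r σ hσ U hU
  have hle : Module.finrank F ↥(U ⊓ LinearMap.ker (σ - 1)) ≤ Module.finrank F U :=
    Submodule.finrank_mono inf_le_left
  rw [orderOf_dvd_iff_pow_eq_one]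
  have h2 : ((Fintype.card F : ℕ) : ZMod r) ^
      (Module.finrank F U - Module.finrank F ↥(U ⊓ LinearMap.ker (σ - 1))) *
      ((Fintype.card F : ℕ) : ZMod r) ^ Module.finrank F ↥(U ⊓ LinearMap.ker (σ - 1)) =
      1 * ((Fintype.card F : ℕ) : ZMod r) ^ Module.finrank F ↥(U ⊓ LinearMap.ker (σ - 1)) := by
    rw [← pow_add, Nat.sub_add_cancel hle, one_mul, h]
  exact mul_right_cancel₀ (pow_ne_zero _ hq) h2

/-- A semisimple element of prime order `r` commuting with a nonzero square-zero map forces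
`e(r,q) + 2 ≤ dim V`, when `e(r,q) ≥ 2`. -/
theorem count_unip (r : ℕ) [Fact r.Prime] (hq : ((Fintype.card F : ℕ) : ZMod r) ≠ 0)
    (h2k : 2 ≤ orderOf ((Fintype.card F : ℕ) : ZMod r))
    (σ N : V →ₗ[F] V) (hσ : σ ^ r = 1) (hσ1 : σ ≠ 1) (hN : N ≠ 0) (hN2 : N * N = 0)
    (hcomm : σ * N = N * σ) :
    orderOf ((Fintype.card F : ℕ) : ZMod r) + 2 ≤ Module.finrank F V := by
  obtain ⟨k, hk⟩ : ∃ k, k = orderOf ((Fintype.card F : ℕ) : ZMod r) := ⟨_, rfl⟩
  rw [← hk] at h2k ⊢
  have hmem : ∀ v, v ∈ LinearMap.ker (σ - 1) ↔ σ v = v := by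
    intro v
    rw [LinearMap.mem_ker, LinearMap.sub_apply, Module.End.one_apply, sub_eq_zero]
  have hcommv : ∀ v, σ (N v) = N (σ v) := by
    intro v
    have h := congrArg (fun g => g v) hcomm
    simpa only [Module.End.mul_apply] using h
  have hNNv : ∀ v, N (N v) = 0 := by
    intro v
    have h := congrArg (fun g => g v) hN2
    simpa only [Module.End.mul_apply, LinearMap.zero_apply] using h
  have h1 := fix_dvd r hq σ hσ ⊤ (fun v _ => Submodule.mem_top)
  rw [top_inf_eq, finrank_top, ← hk] at h1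
  have hV₀lt : Module.finrank F (LinearMap.ker (σ - 1)) < Module.finrank F V := by
    apply Submodule.finrank_lt
    intro htop
    apply hσ1
    ext v
    have hv : v ∈ LinearMap.ker (σ - 1) := by
      rw [htop]
      exact Submodule.mem_top
    rw [Module.End.one_apply]
    exact (hmem v).mp hv
  have hk_le : k ≤ Module.finrank F V - Module.finrank F (LinearMap.ker (σ - 1)) :=
    Nat.le_of_dvd (by omega) h1
  by_cases hd : 2 ≤ Module.finrank F (LinearMap.ker (σ - 1))
  · omega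
  · have hV₀N : LinearMap.ker (σ - 1) ≤ LinearMap.ker N := by
      intro v hv
      rw [LinearMap.mem_ker]
      by_contra hNv
      have hNv0 : N v ∈ LinearMap.ker (σ - 1) := by
        rw [hmem, hcommv, (hmem v).mp hv]
      have hle1 : Module.finrank F (LinearMap.ker (σ - 1)) ≤ 1 := by omega
      obtain ⟨v₀, hv₀⟩ := finrank_le_one_iff.mp hle1
      obtain ⟨a, ha⟩ := hv₀ ⟨v, hv⟩
      obtain ⟨b, hb⟩ := hv₀ ⟨N v, hNv0⟩
      have ha' : a • (v₀ : V) = v := congrArg Subtype.val ha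
      have hb' : b • (v₀ : V) = N v := congrArg Subtype.val hb
      have ha0 : a ≠ 0 := by
        rintro rfl
        rw [zero_smul] at ha'
        rw [← ha', map_zero] at hNv
        exact hNv rfl
      have hNv' : N v = (b / a) • v := by
        rw [← hb', ← ha', smul_smul, div_mul_cancel₀ _ ha0]
      have hNN := hNNv v
      rw [hNv', map_smul, hNv', smul_smul] at hNN
      rcases smul_eq_zero.mp hNN with h | h
      · have h0 : b / a = 0 := mul_self_eq_zero.mp h
        apply hNv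
        rw [hNv', h0, zero_smul]
      · apply hNv
        rw [h, map_zero]
    have hZinv : ∀ v ∈ LinearMap.ker N, σ v ∈ LinearMap.ker N := by
      intro v hv
      rw [LinearMap.mem_ker] at hv ⊢
      rw [← hcommv, hv, map_zero]
    have h2 := fix_dvd r hq σ hσ (LinearMap.ker N) hZinv
    rw [inf_eq_right.mpr hV₀N, ← hk] at h2
    have hrn := LinearMap.finrank_range_add_finrank_ker N
    have hWZ : LinearMap.range N ≤ LinearMap.ker N := by
      rintro _ ⟨v, rfl⟩
      rw [LinearMap.mem_ker]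
      exact hNNv v
    have hwz := Submodule.finrank_mono hWZ
    have hw1 : 1 ≤ Module.finrank F (LinearMap.range N) := by
      rw [Nat.one_le_iff_ne_zero]
      intro h0
      rw [Submodule.finrank_eq_zero, LinearMap.range_eq_bot] at h0
      exact hN h0
    have hz := Submodule.finrank_mono hV₀N
    have h3 : k ∣ Module.finrank F (LinearMap.range N) := by
      have h4 := Nat.dvd_sub h1 h2
      have e : Module.finrank F V - Module.finrank F (LinearMap.ker (σ - 1)) -
          (Module.finrank F (LinearMap.ker N) - Module.finrank F (LinearMap.ker (σ - 1))) =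
          Module.finrank F (LinearMap.range N) := by omega
      rwa [e] at h4
    have h5 := Nat.le_of_dvd (by omega) h3
    omega

/-- Two commuting elements of distinct prime orders `r`, `s` in dimension `< e(r,q) + e(s,q)`
force `e(r,q) ∣ e(s,q)` (when `e(r,q) ≤ e(s,q)`). -/
theorem count_two (r s : ℕ) [Fact r.Prime] [Fact s.Prime]
    (hqr : ((Fintype.card F : ℕ) : ZMod r) ≠ 0) (hqs : ((Fintype.card F : ℕ) : ZMod s) ≠ 0)
    (σ τ : V →ₗ[F] V) (hσ : σ ^ r = 1) (hτ : τ ^ s = 1) (hσ1 : σ ≠ 1) (hτ1 : τ ≠ 1)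
    (hcomm : σ * τ = τ * σ)
    (hkl : orderOf ((Fintype.card F : ℕ) : ZMod r) ≤ orderOf ((Fintype.card F : ℕ) : ZMod s))
    (hn : Module.finrank F V <
      orderOf ((Fintype.card F : ℕ) : ZMod r) + orderOf ((Fintype.card F : ℕ) : ZMod s)) :
    orderOf ((Fintype.card F : ℕ) : ZMod r) ∣ orderOf ((Fintype.card F : ℕ) : ZMod s) := by
  obtain ⟨k, hk⟩ : ∃ k, k = orderOf ((Fintype.card F : ℕ) : ZMod r) := ⟨_, rfl⟩
  obtain ⟨l, hl⟩ : ∃ l, l = orderOf ((Fintype.card F : ℕ) : ZMod s) := ⟨_, rfl⟩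
  rw [← hk, ← hl] at hkl hn ⊢
  have hmemσ : ∀ v, v ∈ LinearMap.ker (σ - 1) ↔ σ v = v := by
    intro v
    rw [LinearMap.mem_ker, LinearMap.sub_apply, Module.End.one_apply, sub_eq_zero]
  have hmemτ : ∀ v, v ∈ LinearMap.ker (τ - 1) ↔ τ v = v := by
    intro v
    rw [LinearMap.mem_ker, LinearMap.sub_apply, Module.End.one_apply, sub_eq_zero]
  have hcommv : ∀ v, σ (τ v) = τ (σ v) := by
    intro v
    have h := congrArg (fun g => g v) hcomm
    simpa only [Module.End.mul_apply] using h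
  have hlt : ∀ (ρ : V →ₗ[F] V), ρ ≠ 1 →
      Module.finrank F (LinearMap.ker (ρ - 1)) < Module.finrank F V := by
    intro ρ hρ
    apply Submodule.finrank_lt
    intro htop
    apply hρ
    ext v
    have hv : v ∈ LinearMap.ker (ρ - 1) := by
      rw [htop]
      exact Submodule.mem_top
    rw [Module.End.one_apply]
    rw [LinearMap.mem_ker, LinearMap.sub_apply, Module.End.one_apply, sub_eq_zero] at hv
    exact hv
  have h1 := fix_dvd r hqr σ hσ ⊤ (fun v _ => Submodule.mem_top)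
  rw [top_inf_eq, finrank_top, ← hk] at h1
  have h2 := fix_dvd s hqs τ hτ ⊤ (fun v _ => Submodule.mem_top)
  rw [top_inf_eq, finrank_top, ← hl] at h2
  have hσlt := hlt σ hσ1
  have hτlt := hlt τ hτ1
  have hk_le := Nat.le_of_dvd (by omega) h1
  have hl_le := Nat.le_of_dvd (by omega) h2
  -- `Fix σ ≤ Fix τ`
  have h3 := fix_dvd s hqs τ hτ (LinearMap.ker (σ - 1)) (by
    intro v hv
    rw [hmemσ] at hv ⊢
    rw [hcommv, hv])
  rw [← hl] at h3
  have h3le : Module.finrank F ↥(LinearMap.ker (σ - 1) ⊓ LinearMap.ker (τ - 1)) ≤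
      Module.finrank F (LinearMap.ker (σ - 1)) := Submodule.finrank_mono inf_le_left
  have h3eq : Module.finrank F (LinearMap.ker (σ - 1)) -
      Module.finrank F ↥(LinearMap.ker (σ - 1) ⊓ LinearMap.ker (τ - 1)) = 0 := by
    by_contra hne
    have h6 := Nat.le_of_dvd (by omega) h3
    omega
  have hστ : LinearMap.ker (σ - 1) ≤ LinearMap.ker (τ - 1) := by
    have h7 := Submodule.eq_of_le_of_finrank_le
      (inf_le_left : LinearMap.ker (σ - 1) ⊓ LinearMap.ker (τ - 1) ≤ LinearMap.ker (σ - 1))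
      (by omega)
    rw [← h7]
    exact inf_le_right
  have h4 := fix_dvd r hqr σ hσ (LinearMap.ker (τ - 1)) (by
    intro v hv
    rw [hmemτ] at hv ⊢
    rw [← hcommv, hv])
  rw [← hk] at h4
  have h4le : Module.finrank F ↥(LinearMap.ker (τ - 1) ⊓ LinearMap.ker (σ - 1)) ≤
      Module.finrank F (LinearMap.ker (τ - 1)) := Submodule.finrank_mono inf_le_left
  have h4eq : Module.finrank F (LinearMap.ker (τ - 1)) -
      Module.finrank F ↥(LinearMap.ker (τ - 1) ⊓ LinearMap.ker (σ - 1)) = 0 := by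
    by_contra hne
    have h6 := Nat.le_of_dvd (by omega) h4
    omega
  have hτσ : LinearMap.ker (τ - 1) ≤ LinearMap.ker (σ - 1) := by
    have h7 := Submodule.eq_of_le_of_finrank_le
      (inf_le_left : LinearMap.ker (τ - 1) ⊓ LinearMap.ker (σ - 1) ≤ LinearMap.ker (τ - 1))
      (by omega)
    rw [← h7]
    exact inf_le_right
  have heq : LinearMap.ker (σ - 1) = LinearMap.ker (τ - 1) := le_antisymm hστ hτσ
  rw [heq] at h1 hk_le
  obtain ⟨e, he⟩ := h2
  have he1 : e = 1 := by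
    have he0 : e ≠ 0 := by
      rintro rfl
      omega
    by_contra hne
    have h2e : 2 ≤ e := by omega
    have h8 : l * 2 ≤ l * e := Nat.mul_le_mul_left l h2e
    omega
  rw [he1, mul_one] at he
  rw [he] at h1
  exact h1

end fix

theorem orderOf_eq_of_forall_iff {G : Type*} [Monoid G] (x : G) (n : ℕ)
    (h : ∀ k, x ^ k = 1 ↔ n ∣ k) : orderOf x = n :=
  Nat.dvd_antisymm (orderOf_dvd_of_pow_eq_one ((h n).mpr dvd_rfl))
    ((h _).mp (pow_orderOf_eq_one x))

section bdiag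

variable {F : Type*} [Field F]

/-- Block diagonal matrix of size `a + b`. -/
noncomputable def bdiag {a b : ℕ} (A : Matrix (Fin a) (Fin a) F) (B : Matrix (Fin b) (Fin b) F) :
    Matrix (Fin (a + b)) (Fin (a + b)) F :=
  Matrix.reindexAlgEquiv F F finSumFinEquiv (Matrix.fromBlocks A 0 0 B)

theorem bdiag_pow {a b : ℕ} (A : Matrix (Fin a) (Fin a) F) (B : Matrix (Fin b) (Fin b) F)
    (j : ℕ) : bdiag A B ^ j = bdiag (A ^ j) (B ^ j) := by
  unfold bdiag
  rw [← map_pow, Matrix.fromBlocks_diagonal_pow]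

theorem bdiag_det {a b : ℕ} (A : Matrix (Fin a) (Fin a) F) (B : Matrix (Fin b) (Fin b) F) :
    (bdiag A B).det = A.det * B.det := by
  unfold bdiag
  rw [Matrix.det_reindexAlgEquiv, Matrix.det_fromBlocks_zero₂₁]

theorem bdiag_smul_one {a b : ℕ} (c : F) :
    bdiag (c • (1 : Matrix (Fin a) (Fin a) F)) (c • (1 : Matrix (Fin b) (Fin b) F)) = c • 1 := by
  unfold bdiag
  have h : Matrix.fromBlocks (c • (1 : Matrix (Fin a) (Fin a) F)) 0 0
      (c • (1 : Matrix (Fin b) (Fin b) F)) =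
      c • (1 : Matrix (Fin a ⊕ Fin b) (Fin a ⊕ Fin b) F) := by
    rw [← Matrix.fromBlocks_one, Matrix.fromBlocks_smul, smul_zero, smul_zero]
  rw [h, map_smul, map_one]

theorem bdiag_one {a b : ℕ} :
    bdiag (1 : Matrix (Fin a) (Fin a) F) (1 : Matrix (Fin b) (Fin b) F) = 1 := by
  have h := bdiag_smul_one (F := F) (a := a) (b := b) 1
  rwa [one_smul, one_smul, one_smul] at h

theorem bdiag_eq_smul_one_iff {a b : ℕ} (A : Matrix (Fin a) (Fin a) F)
    (B : Matrix (Fin b) (Fin b) F) (c : F) :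
    bdiag A B = c • 1 ↔ A = c • 1 ∧ B = c • 1 := by
  rw [← bdiag_smul_one]
  unfold bdiag
  rw [EmbeddingLike.apply_eq_iff_eq, Matrix.fromBlocks_inj]
  tauto

theorem j2_pow (j : ℕ) :
    (!![1, 1; 0, 1] : Matrix (Fin 2) (Fin 2) F) ^ j = !![1, (j : F); 0, 1] := by
  induction j with
  | zero =>
    ext i k
    fin_cases i <;> fin_cases k <;> simp
  | succ j ih =>
    rw [pow_succ, ih]
    ext i k
    fin_cases i <;> fin_cases k <;> simp [Matrix.mul_apply, Fin.sum_univ_two, add_comm]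

theorem j2_pow_eq_smul_iff (j : ℕ) (c : F) :
    (!![1, 1; 0, 1] : Matrix (Fin 2) (Fin 2) F) ^ j = c • 1 ↔ c = 1 ∧ (j : F) = 0 := by
  rw [j2_pow]
  constructor
  · intro h
    have h00 := congrFun (congrFun h 0) 0
    have h01 := congrFun (congrFun h 0) 1
    simp at h00 h01
    exact ⟨h00.symm, h01⟩
  · rintro ⟨rfl, h⟩
    rw [h, one_smul]
    ext i k
    fin_cases i <;> fin_cases k <;> simp

/-- Padding with an identity block: an element of `PSL_{a+m}` of order `t`. -/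
theorem exists_psl_of_pad {a : ℕ} (X : Matrix (Fin a) (Fin a) F) (hdet : X.det = 1) (t : ℕ)
    (hX : ∀ (j : ℕ) (c : F), X ^ j = c • 1 → t ∣ j) (hXt : X ^ t = 1) (m : ℕ) :
    ∃ g : Matrix.ProjectiveSpecialLinearGroup (Fin (a + m)) F, orderOf g = t := by
  have hdet' : (bdiag X (1 : Matrix (Fin m) (Fin m) F)).det = 1 := by
    rw [bdiag_det, hdet, Matrix.det_one, mul_one]
  obtain ⟨u, hu⟩ : ∃ u : Matrix.SpecialLinearGroup (Fin (a + m)) F,
      (u : Matrix (Fin (a + m)) (Fin (a + m)) F) = bdiag X 1 := ⟨⟨_, hdet'⟩, rfl⟩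
  refine ⟨QuotientGroup.mk u, ?_⟩
  apply orderOf_eq_of_forall_iff
  intro j
  rw [psl_pow_eq_one_iff, hu, bdiag_pow, one_pow]
  constructor
  · rintro ⟨c, hc⟩
    rw [bdiag_eq_smul_one_iff] at hc
    exact hX j c hc.1
  · rintro ⟨e, rfl⟩
    refine ⟨1, ?_⟩
    rw [pow_mul, hXt, one_pow, bdiag_one, one_smul]

/-- Padding with a unipotent `2 × 2` block and an identity block. -/
theorem exists_psl_unip_pad (p : ℕ) [Fact p.Prime] [CharP F p] {a : ℕ}
    (T : Matrix (Fin a) (Fin a) F) (hdet : T.det = 1) (r : ℕ) (hrp : Nat.Coprime r p)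
    (hT : ∀ (j : ℕ) (c : F), T ^ j = c • 1 → r ∣ j) (hTr : T ^ r = 1) (m : ℕ) :
    ∃ g : Matrix.ProjectiveSpecialLinearGroup (Fin (a + 2 + m)) F, orderOf g = r * p := by
  apply exists_psl_of_pad (bdiag T !![1, 1; 0, 1])
  · rw [bdiag_det, hdet]
    simp [Matrix.det_fin_two]
  · intro j c h
    rw [bdiag_pow, bdiag_eq_smul_one_iff, j2_pow_eq_smul_iff] at h
    obtain ⟨h1, -, h3⟩ := h
    exact hrp.mul_dvd_of_dvd_of_dvd (hT j c h1) ((CharP.cast_eq_zero_iff F p j).mp h3)
  · rw [bdiag_pow, pow_mul, hTr, one_pow]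
    have h2 : (!![1, 1; 0, 1] : Matrix (Fin 2) (Fin 2) F) ^ (r * p) = 1 := by
      have h3 := (j2_pow_eq_smul_iff (F := F) (r * p) 1).mpr
        ⟨rfl, (CharP.cast_eq_zero_iff F p (r * p)).mpr (Dvd.intro_left r rfl)⟩
      rwa [one_smul] at h3
    rw [h2, bdiag_one]

end bdiag

section matrix

variable {F : Type*} [Field F] [Fintype F]

/-- A Singer-type block: an `a × a` matrix of determinant 1 and order `t`, no power of which
is a non-trivial scalar, for `t ∣ q ^ a - 1` coprime to `q - 1`. -/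
theorem exists_singer_block (p : ℕ) [Fact p.Prime] [CharP F p] (a : ℕ) (ha : a ≠ 0) (t : ℕ)
    (ht : t ∣ Fintype.card F ^ a - 1) (hcop : Nat.Coprime t (Fintype.card F - 1)) :
    ∃ T : Matrix (Fin a) (Fin a) F, T.det = 1 ∧ T ^ t = 1 ∧
      ∀ (j : ℕ) (c : F), T ^ j = c • 1 → t ∣ j := by
  classical
  haveI : NeZero a := ⟨ha⟩
  have hq1 : 1 < Fintype.card F := Fintype.one_lt_card
  let K := FiniteField.Extension F p a
  have hfr : Module.finrank F K = a := FiniteField.finrank_extension F p a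
  have hcard : Nat.card K = Fintype.card F ^ a := by
    rw [FiniteField.natCard_extension, Nat.card_eq_fintype_card]
  let b : Module.Basis (Fin a) F K := Module.finBasisOfFinrankEq F K hfr
  haveI : Fintype K := Fintype.ofFinite K
  obtain ⟨ζ, hζ⟩ := IsCyclic.exists_generator (α := Kˣ)
  have hordζ : orderOf (ζ : K) = Fintype.card F ^ a - 1 := by
    rw [orderOf_units, orderOf_eq_card_of_forall_mem_zpowers hζ, Nat.card_units, hcard]
  have hpos : 0 < Fintype.card F ^ a - 1 := by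
    have h5 : Fintype.card F ^ 1 ≤ Fintype.card F ^ a :=
      Nat.pow_le_pow_right (by omega) (Nat.pos_of_ne_zero ha)
    rw [pow_one] at h5
    omega
  obtain ⟨e, he⟩ := ht
  have he0 : e ≠ 0 := by
    rintro rfl
    rw [mul_zero] at he
    omega
  have ht0 : t ≠ 0 := by
    rintro rfl
    rw [zero_mul] at he
    omega
  obtain ⟨θ, hθ⟩ : ∃ θ : K, θ = (ζ : K) ^ e := ⟨_, rfl⟩
  have hordθ : orderOf θ = t := by
    rw [hθ, orderOf_pow_of_dvd he0 ⟨t, by rw [hordζ, he, mul_comm]⟩, hordζ, he]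
    exact Nat.mul_div_cancel _ (Nat.pos_of_ne_zero he0)
  have hkey : ∀ (y : K) (c : F), y ^ t = 1 → y = algebraMap F K c → y = 1 := by
    intro y c hy hyc
    have hc0 : c ≠ 0 := by
      rintro rfl
      rw [map_zero] at hyc
      rw [hyc, zero_pow ht0] at hy
      exact zero_ne_one hy
    have h1 : y ^ (Fintype.card F - 1) = 1 := by
      rw [hyc, ← map_pow, FiniteField.pow_card_sub_one_eq_one c hc0, map_one]
    have h2 : orderOf y ∣ Nat.gcd t (Fintype.card F - 1) :=
      Nat.dvd_gcd (orderOf_dvd_of_pow_eq_one hy) (orderOf_dvd_of_pow_eq_one h1)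
    rw [hcop.gcd_eq_one, Nat.dvd_one, orderOf_eq_one_iff] at h2
    exact h2
  refine ⟨Algebra.leftMulMatrix b θ, ?_, ?_, ?_⟩
  · rw [← Algebra.norm_eq_matrix_det b θ]
    apply (algebraMap F K).injective
    rw [map_one]
    apply hkey _ (Algebra.norm F θ) _ rfl
    rw [← map_pow, ← map_pow, ← hordθ, pow_orderOf_eq_one, map_one, map_one]
  · rw [← map_pow, ← hordθ, pow_orderOf_eq_one, map_one]
  · intro j c h
    rw [← map_pow, leftMul_eq_smul_one_iff] at h
    have h1 := hkey (θ ^ j) c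
      (by rw [← pow_mul, mul_comm, pow_mul, ← hordθ, pow_orderOf_eq_one, one_pow]) h
    rw [← hordθ]
    exact orderOf_dvd_of_pow_eq_one h1

theorem ff_cast_ne_zero (p : ℕ) [Fact p.Prime] [CharP F p] (r : ℕ) [Fact r.Prime] (hrp : r ≠ p) :
    ((Fintype.card F : ℕ) : ZMod r) ≠ 0 := by
  obtain ⟨a, -, ha⟩ := FiniteField.card F p
  rw [ha, Ne, ZMod.natCast_eq_zero_iff]
  intro h
  exact hrp ((Nat.prime_dvd_prime_iff_eq (Fact.out : r.Prime) (Fact.out : p.Prime)).mp
    ((Fact.out : r.Prime).dvd_of_dvd_pow h))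

theorem ff_orderOf_pos (p : ℕ) [Fact p.Prime] [CharP F p] (r : ℕ) [Fact r.Prime] (hrp : r ≠ p) :
    0 < orderOf ((Fintype.card F : ℕ) : ZMod r) := by
  have h := ZMod.pow_card_sub_one_eq_one (ff_cast_ne_zero (F := F) p r hrp)
  have h1 : 0 < r - 1 := by
    have := (Fact.out : r.Prime).two_le
    omega
  exact Nat.pos_of_dvd_of_pos (orderOf_dvd_of_pow_eq_one h) h1

theorem ff_orderOf_eq_one_iff (r : ℕ) [Fact r.Prime] :
    orderOf ((Fintype.card F : ℕ) : ZMod r) = 1 ↔ r ∣ Fintype.card F - 1 := by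
  have hq1 : 1 < Fintype.card F := Fintype.one_lt_card
  rw [orderOf_eq_one_iff, ← ZMod.natCast_eq_zero_iff, Nat.cast_sub hq1.le, Nat.cast_one,
    sub_eq_zero]

theorem ff_dvd_pow_sub_one (r : ℕ) [Fact r.Prime] :
    r ∣ Fintype.card F ^ orderOf ((Fintype.card F : ℕ) : ZMod r) - 1 := by
  have hq1 : 1 < Fintype.card F := Fintype.one_lt_card
  rw [← ZMod.natCast_eq_zero_iff, Nat.cast_sub (Nat.one_le_pow _ _ (by omega)), Nat.cast_one,
    sub_eq_zero, Nat.cast_pow, pow_orderOf_eq_one]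

theorem ff_coprime_of_two_le (r : ℕ) [Fact r.Prime]
    (h2k : 2 ≤ orderOf ((Fintype.card F : ℕ) : ZMod r)) :
    Nat.Coprime r (Fintype.card F - 1) := by
  rw [(Fact.out : r.Prime).coprime_iff_not_dvd]
  intro h
  rw [(ff_orderOf_eq_one_iff (F := F) r).mpr h] at h2k
  omega

theorem ff_exists_root (t : ℕ) (hcop : Nat.Coprime t (Fintype.card F - 1)) (c : F)
    (hc : c ≠ 0) : ∃ μ : F, μ ≠ 0 ∧ μ ^ t = c := by
  have h : (Nat.card Fˣ).Coprime t := by
    rw [Nat.card_units, Nat.card_eq_fintype_card]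
    exact hcop.symm
  obtain ⟨u, hu⟩ := (powCoprime h).surjective (Units.mk0 c hc)
  refine ⟨(u : F), u.ne_zero, ?_⟩
  have h1 := congrArg Units.val hu
  simpa using h1

theorem ff_exists_pth_root (p : ℕ) [Fact p.Prime] [CharP F p] (c : F) : ∃ μ : F, μ ^ p = c := by
  obtain ⟨a, -, ha⟩ := FiniteField.card F p
  refine ⟨c ^ p ^ ((a : ℕ) - 1), ?_⟩
  rw [← pow_mul, ← pow_succ, Nat.sub_add_cancel a.pos, ← ha, FiniteField.pow_card]

/-- An element of order `r p` modulo scalars forces `e(r,q) + 2 ≤ n` (for `e(r,q) ≥ 2`). -/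
theorem rp_bound (p : ℕ) [Fact p.Prime] [CharP F p] (r : ℕ) [Fact r.Prime] (hrp : r ≠ p)
    (h2k : 2 ≤ orderOf ((Fintype.card F : ℕ) : ZMod r)) {n : ℕ} (A : Matrix (Fin n) (Fin n) F)
    (c : F) (hc0 : c ≠ 0) (hA : A ^ (r * p) = c • 1) (hAr : ¬ ∃ c : F, A ^ r = c • 1)
    (hAp : ¬ ∃ c : F, A ^ p = c • 1) :
    orderOf ((Fintype.card F : ℕ) : ZMod r) + 2 ≤ n := by
  classical
  have hn0 : n ≠ 0 := by
    rintro rfl
    exact hAr ⟨1, Subsingleton.elim _ _⟩
  haveI : Nonempty (Fin n) := ⟨⟨0, Nat.pos_of_ne_zero hn0⟩⟩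
  have hq := ff_cast_ne_zero (F := F) p r hrp
  have hcop := ff_coprime_of_two_le (F := F) r h2k
  obtain ⟨μ₀, hμ₀0, hμ₀⟩ := ff_exists_root r hcop c hc0
  obtain ⟨μ, hμ⟩ := ff_exists_pth_root p c
  obtain ⟨S, hS⟩ : ∃ S : Matrix (Fin n) (Fin n) F, S = μ₀⁻¹ • A ^ p := ⟨_, rfl⟩
  obtain ⟨N₀, hN₀⟩ : ∃ N₀ : Matrix (Fin n) (Fin n) F, N₀ = A ^ r - μ • 1 := ⟨_, rfl⟩
  have hSr : S ^ r = 1 := by
    rw [hS, smul_pow, ← pow_mul, mul_comm p r, hA, smul_smul, inv_pow, hμ₀, inv_mul_cancel₀ hc0,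
      one_smul]
  have hS1 : S ≠ 1 := by
    intro h
    apply hAp
    refine ⟨μ₀, ?_⟩
    rw [hS] at h
    have h1 := congrArg (fun X => μ₀ • X) h
    simpa [smul_smul, hμ₀0] using h1
  have hN₀p : N₀ ^ p = 0 := by
    rw [hN₀, sub_pow_char_of_commute p (Commute.smul_right (Commute.one_right _) μ), ← pow_mul,
      hA, smul_pow, one_pow, hμ, sub_self]
  have hN₀0 : N₀ ≠ 0 := by
    intro h
    apply hAr
    exact ⟨μ, sub_eq_zero.mp (hN₀ ▸ h)⟩
  have hex : ∃ i, N₀ ^ i = 0 := ⟨p, hN₀p⟩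
  obtain ⟨j, hj1, hj2⟩ : ∃ j, N₀ ^ j ≠ 0 ∧ N₀ ^ (j + 1) = 0 := by
    have hfind := Nat.find_spec hex
    have hmin := fun i => Nat.find_min hex (m := i)
    have h0 : Nat.find hex ≠ 0 := by
      intro h0
      rw [h0, pow_zero] at hfind
      exact one_ne_zero hfind
    refine ⟨Nat.find hex - 1, hmin _ (by omega), ?_⟩
    rw [Nat.sub_add_cancel (by omega)]
    exact hfind
  have hj0 : j ≠ 0 := by
    rintro rfl
    rw [zero_add, pow_one] at hj2
    exact hN₀0 hj2
  obtain ⟨N, hN⟩ : ∃ N : Matrix (Fin n) (Fin n) F, N = N₀ ^ j := ⟨_, rfl⟩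
  have hNN : N * N = 0 := by
    rw [hN, ← pow_add]
    have h5 : j + j = (j + 1) + (j - 1) := by omega
    rw [h5, pow_add, hj2, zero_mul]
  have hcomm : S * N = N * S := by
    have h1 : Commute (A ^ p) (A ^ r) := Commute.pow_pow (Commute.refl A) p r
    have h2 : Commute S N₀ := by
      rw [hS, hN₀]
      exact (h1.smul_left μ₀⁻¹).sub_right (Commute.smul_right (Commute.one_right _) μ)
    rw [hN]
    exact (h2.pow_right j).eq
  have key := count_unip (F := F) (V := Fin n → F) r hq h2k (Matrix.toLinAlgEquiv' S)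
    (Matrix.toLinAlgEquiv' N)
    (by rw [← map_pow, hSr, map_one])
    (by
      intro h
      apply hS1
      apply Matrix.toLinAlgEquiv'.injective
      rw [h, map_one])
    (by
      intro h
      apply hj1
      rw [← hN]
      apply Matrix.toLinAlgEquiv'.injective
      rw [h, map_zero])
    (by rw [← map_mul, hNN, map_zero])
    (by rw [← map_mul, ← map_mul, hcomm])
  rw [Module.finrank_fin_fun] at key
  exact key

/-- An element of order `r s` modulo scalars in dimension `n < e(r,q) + e(s,q)` forces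
`e(r,q) ∣ e(s,q)`. -/
theorem rs_dvd (p : ℕ) [Fact p.Prime] [CharP F p] (r s : ℕ) [Fact r.Prime] [Fact s.Prime]
    (hrp : r ≠ p) (hsp : s ≠ p)
    (h2k : 2 ≤ orderOf ((Fintype.card F : ℕ) : ZMod r))
    (hkl : orderOf ((Fintype.card F : ℕ) : ZMod r) ≤ orderOf ((Fintype.card F : ℕ) : ZMod s))
    {n : ℕ} (A : Matrix (Fin n) (Fin n) F) (c : F) (hc0 : c ≠ 0) (hA : A ^ (r * s) = c • 1)
    (hAr : ¬ ∃ c : F, A ^ r = c • 1) (hAs : ¬ ∃ c : F, A ^ s = c • 1)
    (hn : n < orderOf ((Fintype.card F : ℕ) : ZMod r) +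
      orderOf ((Fintype.card F : ℕ) : ZMod s)) :
    orderOf ((Fintype.card F : ℕ) : ZMod r) ∣ orderOf ((Fintype.card F : ℕ) : ZMod s) := by
  classical
  have hqr := ff_cast_ne_zero (F := F) p r hrp
  have hqs := ff_cast_ne_zero (F := F) p s hsp
  have hcopr := ff_coprime_of_two_le (F := F) r h2k
  have hcops := ff_coprime_of_two_le (F := F) s (h2k.trans hkl)
  obtain ⟨μ₀, hμ₀0, hμ₀⟩ := ff_exists_root (r * s) (Nat.Coprime.mul_left hcopr hcops) c hc0
  obtain ⟨X, hX⟩ : ∃ X : Matrix (Fin n) (Fin n) F, X = (μ₀⁻¹ • A) ^ s := ⟨_, rfl⟩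
  obtain ⟨Y, hY⟩ : ∃ Y : Matrix (Fin n) (Fin n) F, Y = (μ₀⁻¹ • A) ^ r := ⟨_, rfl⟩
  have hXr : X ^ r = 1 := by
    rw [hX, ← pow_mul, mul_comm s r, smul_pow, hA, smul_smul, inv_pow, hμ₀,
      inv_mul_cancel₀ hc0, one_smul]
  have hYs : Y ^ s = 1 := by
    rw [hY, ← pow_mul, smul_pow, hA, smul_smul, inv_pow, hμ₀, inv_mul_cancel₀ hc0, one_smul]
  have hX1 : X ≠ 1 := by
    intro h
    apply hAs
    refine ⟨μ₀ ^ s, ?_⟩
    rw [hX, smul_pow] at h
    have h1 := congrArg (fun Z => μ₀ ^ s • Z) h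
    simpa [smul_smul, hμ₀0] using h1
  have hY1 : Y ≠ 1 := by
    intro h
    apply hAr
    refine ⟨μ₀ ^ r, ?_⟩
    rw [hY, smul_pow] at h
    have h1 := congrArg (fun Z => μ₀ ^ r • Z) h
    simpa [smul_smul, hμ₀0] using h1
  have hcomm : X * Y = Y * X := by
    rw [hX, hY, ← pow_add, ← pow_add, add_comm]
  exact count_two (F := F) (V := Fin n → F) r s hqr hqs (Matrix.toLinAlgEquiv' X)
    (Matrix.toLinAlgEquiv' Y)
    (by rw [← map_pow, hXr, map_one]) (by rw [← map_pow, hYs, map_one])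
    (by
      intro h
      apply hX1
      apply Matrix.toLinAlgEquiv'.injective
      rw [h, map_one])
    (by
      intro h
      apply hY1
      apply Matrix.toLinAlgEquiv'.injective
      rw [h, map_one])
    (by rw [← map_mul, ← map_mul, hcomm]) hkl
    (by rw [Module.finrank_fin_fun]; exact hn)

/-- A non-scalar matrix whose `s`-th power is scalar forces `e(s,q) ≤ n` (for `e(s,q) ≥ 2`). -/
theorem ord_le_of_elt (p : ℕ) [Fact p.Prime] [CharP F p] (s : ℕ) [Fact s.Prime] (hsp : s ≠ p)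
    (h2l : 2 ≤ orderOf ((Fintype.card F : ℕ) : ZMod s)) {n : ℕ} (A : Matrix (Fin n) (Fin n) F)
    (c : F) (hc0 : c ≠ 0) (hA : A ^ s = c • 1) (hA1 : ¬ ∃ c : F, A = c • 1) :
    orderOf ((Fintype.card F : ℕ) : ZMod s) ≤ n := by
  classical
  have hqs := ff_cast_ne_zero (F := F) p s hsp
  have hcops := ff_coprime_of_two_le (F := F) s h2l
  obtain ⟨μ₀, hμ₀0, hμ₀⟩ := ff_exists_root s hcops c hc0
  obtain ⟨X, hX⟩ : ∃ X : Matrix (Fin n) (Fin n) F, X = μ₀⁻¹ • A := ⟨_, rfl⟩
  have hXs : X ^ s = 1 := by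
    rw [hX, smul_pow, hA, smul_smul, inv_pow, hμ₀, inv_mul_cancel₀ hc0, one_smul]
  have hX1 : X ≠ 1 := by
    intro h
    apply hA1
    refine ⟨μ₀, ?_⟩
    rw [hX] at h
    have h1 := congrArg (fun Z => μ₀ • Z) h
    simpa [smul_smul, hμ₀0] using h1
  have h1 := fix_dvd (F := F) (V := Fin n → F) s hqs (Matrix.toLinAlgEquiv' X)
    (by rw [← map_pow, hXs, map_one]) ⊤ (fun v _ => Submodule.mem_top)
  rw [top_inf_eq, finrank_top, Module.finrank_fin_fun] at h1
  have hlt : Module.finrank F (LinearMap.ker (Matrix.toLinAlgEquiv' X - 1)) <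
      Module.finrank F (Fin n → F) := by
    apply Submodule.finrank_lt
    intro htop
    apply hX1
    apply Matrix.toLinAlgEquiv'.injective
    rw [map_one]
    refine LinearMap.ext fun v => ?_
    have hv : v ∈ LinearMap.ker (Matrix.toLinAlgEquiv' X - 1) := by
      rw [htop]
      exact Submodule.mem_top
    rw [LinearMap.mem_ker, LinearMap.sub_apply, Module.End.one_apply, sub_eq_zero] at hv
    rw [Module.End.one_apply]
    exact hv
  rw [Module.finrank_fin_fun] at hlt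
  have h2 := Nat.le_of_dvd (by omega) h1
  omega

end matrix

end Cfsg.Agent.Lib.Helper49
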