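import Mathlib
import Cfsg.Agent.Lib.Helper49.PSLn

set_option autoImplicit false
set_option linter.style.haveILetI false

/-!
Irreducibility of the characteristic polynomial of a matrix having a power of primitive prime
order modulo scalars, and the resulting bound on its order modulo scalars.
-/

namespace Cfsg.Agent.Lib.Helper49

open Polynomial

section irr

variable {F : Type*} [Field F] [Fintype F]

/-- If `A ^ e` has prime order `r` modulo scalars with `e(r,q) = n ≥ 2`, then the
characteristic polynomial of the `n × n` matrix `A` is irreducible. -/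
theorem irr_charpoly (p : ℕ) [Fact p.Prime] [CharP F p] (r : ℕ) [Fact r.Prime] (hrp : r ≠ p)
    {n : ℕ} (hord : orderOf ((Fintype.card F : ℕ) : ZMod r) = n) (hn2 : 2 ≤ n)
    (A : Matrix (Fin n) (Fin n) F) (e : ℕ) (c : F) (hc0 : c ≠ 0) (hA : (A ^ e) ^ r = c • 1)
    (hAe : ¬ ∃ c' : F, A ^ e = c' • 1) : Irreducible A.charpoly := by
  classical
  have hrprime : r.Prime := Fact.out
  have hq1 : 1 < Fintype.card F := Fintype.one_lt_card
  haveI : Nonempty (Fin n) := ⟨⟨0, by omega⟩⟩
  have hq := ff_cast_ne_zero (F := F) p r hrp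
  have h2k : 2 ≤ orderOf ((Fintype.card F : ℕ) : ZMod r) := by
    rw [hord]
    exact hn2
  have hcop := ff_coprime_of_two_le (F := F) r h2k
  obtain ⟨μ₀, hμ₀0, hμ₀⟩ := ff_exists_root r hcop c hc0
  obtain ⟨B, hB⟩ : ∃ B : Matrix (Fin n) (Fin n) F, B = μ₀⁻¹ • A ^ e := ⟨_, rfl⟩
  have hBr : B ^ r = 1 := by
    rw [hB, _root_.smul_pow, hA, smul_smul, inv_pow, hμ₀, inv_mul_cancel₀ hc0, one_smul]
  have hB1 : B ≠ 1 := by
    intro h
    apply hAe
    refine ⟨μ₀, ?_⟩
    rw [hB] at h
    have h1 := congrArg (fun X => μ₀ • X) h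
    simpa [smul_smul, hμ₀0] using h1
  obtain ⟨σ, hσdef⟩ : ∃ σ : (Fin n → F) →ₗ[F] (Fin n → F), σ = Matrix.toLinAlgEquiv' B :=
    ⟨_, rfl⟩
  have hσr : σ ^ r = 1 := by
    rw [hσdef, ← map_pow, hBr, map_one]
  have hσ1 : σ ≠ 1 := by
    intro h
    apply hB1
    apply Matrix.toLinAlgEquiv'.injective
    rw [← hσdef, h, map_one]
  have h1 := fix_dvd (F := F) (V := Fin n → F) r hq σ hσr ⊤ (fun v _ => Submodule.mem_top)
  rw [top_inf_eq, finrank_top, Module.finrank_fin_fun, hord] at h1
  have hlt : Module.finrank F (LinearMap.ker (σ - 1)) < Module.finrank F (Fin n → F) := by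
    apply Submodule.finrank_lt
    intro htop
    apply hσ1
    refine LinearMap.ext fun v => ?_
    have hv : v ∈ LinearMap.ker (σ - 1) := by
      rw [htop]
      exact Submodule.mem_top
    rw [LinearMap.mem_ker, LinearMap.sub_apply, Module.End.one_apply, sub_eq_zero] at hv
    rw [Module.End.one_apply]
    exact hv
  rw [Module.finrank_fin_fun] at hlt
  have hfix0 : Module.finrank F (LinearMap.ker (σ - 1)) = 0 := by
    have h5 := Nat.le_of_dvd (by omega) h1
    omega
  have hfixbot : LinearMap.ker (σ - 1) = ⊥ := Submodule.finrank_eq_zero.mp hfix0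
  have hinv : ∀ U : Submodule F (Fin n → F), (∀ v ∈ U, σ v ∈ U) → U = ⊥ ∨ U = ⊤ := by
    intro U hU
    have h2 := fix_dvd (F := F) (V := Fin n → F) r hq σ hσr U hU
    rw [hfixbot, inf_bot_eq, finrank_bot, Nat.sub_zero, hord] at h2
    have hle : Module.finrank F U ≤ n := by
      have h5 := Submodule.finrank_le U
      rwa [Module.finrank_fin_fun] at h5
    by_cases h0 : Module.finrank F U = 0
    · left
      exact Submodule.finrank_eq_zero.mp h0
    · right
      have h5 := Nat.le_of_dvd (by omega) h2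
      apply Submodule.eq_top_of_finrank_eq
      rw [Module.finrank_fin_fun]
      omega
  have hint : IsIntegral F A := Matrix.isIntegral A
  have hμ0 : minpoly F A ≠ 0 := minpoly.ne_zero hint
  have hμmonic : (minpoly F A).Monic := minpoly.monic hint
  have hcommB : ∀ a : F[X], aeval A a * B = B * aeval A a := by
    intro a
    have h5 : aeval A a * A ^ e = A ^ e * aeval A a := by
      have h6 : aeval A (a * X ^ e) = aeval A (X ^ e * a) := by rw [mul_comm]
      simpa [map_mul] using h6
    rw [hB, mul_smul_comm, smul_mul_assoc, h5]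
  have hμirr : Irreducible (minpoly F A) := by
    rw [irreducible_iff]
    refine ⟨minpoly.not_isUnit F A, ?_⟩
    intro a b hab
    by_contra hcon
    push Not at hcon
    obtain ⟨hau, hbu⟩ := hcon
    have ha0 : a ≠ 0 := by
      rintro rfl
      rw [zero_mul] at hab
      exact hμ0 hab
    have hb0 : b ≠ 0 := by
      rintro rfl
      rw [mul_zero] at hab
      exact hμ0 hab
    have hdeg : (minpoly F A).natDegree = a.natDegree + b.natDegree := by
      rw [hab, natDegree_mul ha0 hb0]
    have hpos : ∀ g : F[X], g ≠ 0 → ¬ IsUnit g → 0 < g.natDegree := by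
      intro g hg0 hgu
      by_contra h0
      have h5 : g.natDegree = 0 := by omega
      have h6 := eq_C_of_natDegree_eq_zero h5
      apply hgu
      rw [h6]
      apply isUnit_C.mpr
      apply IsUnit.mk0
      intro h7
      rw [h7, C_0] at h6
      exact hg0 h6
    have hda := hpos a ha0 hau
    have hdb := hpos b hb0 hbu
    have hne : ∀ g : F[X], g ≠ 0 → g.natDegree < (minpoly F A).natDegree → aeval A g ≠ 0 := by
      intro g hg0 hlt' h
      have h5 := natDegree_le_natDegree (minpoly.degree_le_of_ne_zero F A hg0 h)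
      omega
    have haA := hne a ha0 (by omega)
    have hbA := hne b hb0 (by omega)
    have hU : ∀ v ∈ LinearMap.ker (Matrix.toLinAlgEquiv' (aeval A a)),
        σ v ∈ LinearMap.ker (Matrix.toLinAlgEquiv' (aeval A a)) := by
      intro v hv
      rw [LinearMap.mem_ker] at hv ⊢
      have hc : Matrix.toLinAlgEquiv' (aeval A a) * σ = σ * Matrix.toLinAlgEquiv' (aeval A a) := by
        rw [hσdef, ← map_mul, ← map_mul, hcommB]
      have h5 := congrArg (fun g => g v) hc
      simp only [Module.End.mul_apply] at h5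
      rw [h5, hv, map_zero]
    rcases hinv _ hU with h | h
    · have h5 : Matrix.toLinAlgEquiv' (aeval A b) ≠ 0 := by
        intro h0
        apply hbA
        apply Matrix.toLinAlgEquiv'.injective
        rw [h0, map_zero]
      obtain ⟨v, hv⟩ : ∃ v, Matrix.toLinAlgEquiv' (aeval A b) v ≠ 0 := by
        by_contra hne'
        push Not at hne'
        apply h5
        exact LinearMap.ext hne'
      have hmem : Matrix.toLinAlgEquiv' (aeval A b) v ∈
          LinearMap.ker (Matrix.toLinAlgEquiv' (aeval A a)) := by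
        rw [LinearMap.mem_ker, ← Module.End.mul_apply, ← map_mul, ← map_mul, ← hab,
          minpoly.aeval, map_zero, LinearMap.zero_apply]
      rw [h] at hmem
      exact hv ((Submodule.mem_bot F).mp hmem)
    · apply haA
      apply Matrix.toLinAlgEquiv'.injective
      rw [map_zero]
      exact LinearMap.ker_eq_top.mp h
  haveI : Fact (Irreducible (minpoly F A)) := ⟨hμirr⟩
  -- the element `y = μ₀⁻¹ x ^ e` of the field `F[X]/(minpoly)` has order `r`
  have hroot_iff : ∀ (N : ℕ) (c' : F), AdjoinRoot.root (minpoly F A) ^ N =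
      AdjoinRoot.of (minpoly F A) c' ↔ A ^ N = c' • 1 := by
    intro N c'
    constructor
    · intro h
      have h5 := dvd_X_pow_sub_C_of_root (minpoly F A) N c' h
      obtain ⟨g, hg⟩ := h5
      have h6 := congrArg (aeval A) hg
      rw [map_mul, minpoly.aeval, zero_mul] at h6
      simp only [map_sub, map_pow, aeval_X, aeval_C] at h6
      rw [Algebra.algebraMap_eq_smul_one] at h6
      exact sub_eq_zero.mp h6
    · intro h
      have h5 : minpoly F A ∣ X ^ N - C c' := by
        apply minpoly.dvd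
        simp only [map_sub, map_pow, aeval_X, aeval_C]
        rw [Algebra.algebraMap_eq_smul_one, h, sub_self]
      have h6 := AdjoinRoot.mk_eq_zero.mpr h5
      simp only [map_sub, map_pow, AdjoinRoot.mk_X, AdjoinRoot.mk_C] at h6
      exact sub_eq_zero.mp h6
  obtain ⟨y, hy⟩ : ∃ y : AdjoinRoot (minpoly F A),
      y = AdjoinRoot.of (minpoly F A) μ₀⁻¹ * AdjoinRoot.root (minpoly F A) ^ e := ⟨_, rfl⟩
  have hyr : y ^ r = 1 := by
    rw [hy, mul_pow, ← pow_mul, (hroot_iff (e * r) c).mpr (by rw [pow_mul]; exact hA), ← map_pow,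
      ← map_mul, inv_pow, hμ₀, inv_mul_cancel₀ hc0, map_one]
  have hy1 : y ≠ 1 := by
    intro h
    apply hAe
    refine ⟨μ₀, ?_⟩
    rw [← hroot_iff]
    rw [hy] at h
    have h5 := congrArg (fun z => AdjoinRoot.of (minpoly F A) μ₀ * z) h
    simp only [mul_one] at h5
    rw [← mul_assoc, ← map_mul, mul_inv_cancel₀ hμ₀0, map_one, one_mul] at h5
    exact h5
  have hordy : orderOf y = r := orderOf_eq_prime hyr hy1
  haveI : Module.Finite F (AdjoinRoot (minpoly F A)) := (AdjoinRoot.powerBasis hμ0).finite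
  haveI : Finite (AdjoinRoot (minpoly F A)) := Module.finite_of_finite F
  haveI : Fintype (AdjoinRoot (minpoly F A)) := Fintype.ofFinite _
  have hcardK : Fintype.card (AdjoinRoot (minpoly F A)) =
      Fintype.card F ^ (minpoly F A).natDegree := by
    rw [← Nat.card_eq_fintype_card, Module.natCard_eq_pow_finrank (K := F),
      (AdjoinRoot.powerBasis hμ0).finrank, AdjoinRoot.powerBasis_dim, Nat.card_eq_fintype_card]
  have hy0 : y ≠ 0 := by
    rintro rfl
    rw [zero_pow hrprime.ne_zero] at hyr
    exact zero_ne_one hyr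
  have h3 : r ∣ Fintype.card F ^ (minpoly F A).natDegree - 1 := by
    rw [← hordy, ← hcardK]
    exact orderOf_dvd_of_pow_eq_one (FiniteField.pow_card_sub_one_eq_one y hy0)
  have h4 : orderOf ((Fintype.card F : ℕ) : ZMod r) ∣ (minpoly F A).natDegree := by
    rw [orderOf_dvd_iff_pow_eq_one]
    have h5 := (ZMod.natCast_eq_zero_iff _ r).mpr h3
    rw [Nat.cast_sub (Nat.one_le_pow _ _ (by omega)), Nat.cast_one, sub_eq_zero,
      Nat.cast_pow] at h5
    exact h5
  have hdegpos : 0 < (minpoly F A).natDegree := minpoly.natDegree_pos hint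
  have h6 : n ≤ (minpoly F A).natDegree := by
    have h5 := Nat.le_of_dvd hdegpos h4
    omega
  have h7 : A.charpoly = minpoly F A := by
    apply eq_of_monic_of_dvd_of_natDegree_le hμmonic (Matrix.charpoly_monic A)
      (Matrix.minpoly_dvd_charpoly A)
    rw [Matrix.charpoly_natDegree_eq_dim, Fintype.card_fin]
    exact h6
  rw [h7]
  exact hμirr

/-- A matrix of determinant 1 with irreducible characteristic polynomial has order modulo
scalars dividing `M / gcd(M, q - 1)`, `M = 1 + q + ⋯ + q ^ (n - 1)`. -/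
theorem scalar_pow_of_irr {n : ℕ} (A : Matrix (Fin n) (Fin n) F) (hdet : A.det = 1)
    (hirr : Irreducible A.charpoly) :
    ∃ c : F, A ^ ((∑ i ∈ Finset.range n, Fintype.card F ^ i) /
      Nat.gcd (∑ i ∈ Finset.range n, Fintype.card F ^ i) (Fintype.card F - 1)) = c • 1 := by
  haveI : Fact (Irreducible A.charpoly) := ⟨hirr⟩
  have hmon := Matrix.charpoly_monic A
  have hdeg : A.charpoly.natDegree = n := by
    rw [Matrix.charpoly_natDegree_eq_dim, Fintype.card_fin]
  have h1 := adjoinRoot_root_pow A.charpoly hmon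
  rw [hdeg] at h1
  have h0 : (-1 : F) ^ n * A.charpoly.coeff 0 = 1 := by
    have h5 := Matrix.det_eq_sign_charpoly_coeff A
    rw [hdet, Fintype.card_fin] at h5
    exact h5.symm
  rw [h0, map_one] at h1
  obtain ⟨M, hM⟩ : ∃ M, M = ∑ i ∈ Finset.range n, Fintype.card F ^ i := ⟨_, rfl⟩
  rw [← hM] at h1 ⊢
  obtain ⟨g, hg⟩ : ∃ g, g = Nat.gcd M (Fintype.card F - 1) := ⟨_, rfl⟩
  rw [← hg]
  have hgM : g ∣ M := hg ▸ Nat.gcd_dvd_left _ _
  obtain ⟨u, hu⟩ : g ∣ Fintype.card F - 1 := hg ▸ Nat.gcd_dvd_right _ _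
  have h2 : ((AdjoinRoot.root A.charpoly) ^ (M / g)) ^ (Fintype.card F - 1) = 1 := by
    rw [← pow_mul, hu, ← mul_assoc, Nat.div_mul_cancel hgM, pow_mul, h1, one_pow]
  obtain ⟨c, hc⟩ := ff_mem_range_of_pow_eq_one dvd_rfl _ h2
  exact ⟨c, pow_eq_smul_of_charpoly_dvd A _ c (dvd_X_pow_sub_C_of_root A.charpoly _ _ hc.symm)⟩

end irr

end Cfsg.Agent.Lib.Helper49
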