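import Mathlib
import Cfsg.Agent.Lib.Helper49.PSLn
import Cfsg.Agent.Lib.Helper49.PSLn2

set_option autoImplicit false
set_option linter.style.haveILetI false

/-!
Tools for spectra of products of `PSL_n(q)`:
* the characteristic polynomial divides a power of the minimal polynomial;
* matrices with irreducible minimal polynomial lie in a Singer torus;
* twisting by a non-scalar element of prime order `r ∣ q - 1` in the centraliser;
* unipotent Jordan blocks.
-/

namespace Cfsg.Agent.Lib.Helper49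

open Polynomial

section charpoly

variable {F : Type*} [Field F] {n : Type*} [Fintype n] [DecidableEq n]

/-- `X - A` divides `P(X) - P(A)` in the polynomial ring over matrices. -/
theorem exists_sub_C_mul (A : Matrix n n F) (P : F[X]) :
    ∃ Q : (Matrix n n F)[X],
      (X - C A) * Q = P.map (algebraMap F (Matrix n n F)) - C (aeval A P) := by
  induction P using Polynomial.induction_on' with
  | add P₁ P₂ h₁ h₂ =>
    obtain ⟨Q₁, hQ₁⟩ := h₁
    obtain ⟨Q₂, hQ₂⟩ := h₂
    refine ⟨Q₁ + Q₂, ?_⟩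
    rw [mul_add, hQ₁, hQ₂, Polynomial.map_add, map_add, C_add]
    abel
  | monomial k c =>
    refine ⟨C (algebraMap F (Matrix n n F) c) *
      ∑ i ∈ Finset.range k, X ^ i * (C A) ^ (k - 1 - i), ?_⟩
    have hcomm : Commute (X : (Matrix n n F)[X]) (C A) := Polynomial.commute_X (C A)
    have h1 := hcomm.mul_geom_sum₂ k
    have hc : C (algebraMap F (Matrix n n F) c) =
        algebraMap F (Matrix n n F)[X] c := (Polynomial.algebraMap_apply c).symm
    rw [hc, ← mul_assoc, ← Algebra.commutes, mul_assoc, h1, Polynomial.map_monomial,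
      aeval_monomial, ← hc, C_mul, ← C_pow, mul_sub, C_mul_X_pow_eq_monomial]

/-- The characteristic polynomial divides a power of the minimal polynomial. -/
theorem charpoly_dvd_minpoly_pow (A : Matrix n n F) :
    A.charpoly ∣ (minpoly F A) ^ Fintype.card n := by
  obtain ⟨Q, hQ⟩ := exists_sub_C_mul A (minpoly F A)
  rw [minpoly.aeval, C_0, sub_zero] at hQ
  have h1 : Matrix.charmatrix A * matPolyEquiv.symm Q =
      (minpoly F A) • (1 : Matrix n n F[X]) := by
    apply matPolyEquiv.injective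
    rw [map_mul, Matrix.matPolyEquiv_charmatrix, AlgEquiv.apply_symm_apply, hQ, matPolyEquiv_smul_one]
  have h2 := congrArg Matrix.det h1
  rw [Matrix.det_mul, Matrix.det_smul, Matrix.det_one, mul_one] at h2
  exact ⟨_, h2.symm⟩

/-- If the minimal polynomial is irreducible, the characteristic polynomial is a power of it. -/
theorem charpoly_eq_minpoly_pow (A : Matrix n n F) (hirr : Irreducible (minpoly F A)) :
    ∃ e : ℕ, A.charpoly = (minpoly F A) ^ e := by
  obtain ⟨i, -, hi⟩ := (dvd_prime_pow hirr.prime _).mp (charpoly_dvd_minpoly_pow A)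
  exact ⟨i, eq_of_monic_of_associated (Matrix.charpoly_monic A)
    ((minpoly.monic (Matrix.isIntegral A)).pow i) hi⟩

end charpoly

section singer

variable {F : Type*} [Field F] [Fintype F]

theorem geom_mul' (q n : ℕ) (hq : 1 ≤ q) :
    (q - 1) * ∑ i ∈ Finset.range n, q ^ i = q ^ n - 1 := by
  obtain ⟨t, rfl⟩ := Nat.exists_eq_add_of_le hq
  rw [Nat.add_sub_cancel_left]
  induction n with
  | zero => simp
  | succ n ih =>
    rw [Finset.sum_range_succ, mul_add, ih]
    have h1 : 1 ≤ (1 + t) ^ n := Nat.one_le_pow _ _ (by omega)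
    have h2 : (1 + t) ^ (n + 1) = (1 + t) ^ n + t * (1 + t) ^ n := by ring
    omega

theorem geom_prod (q d e : ℕ) :
    ∑ i ∈ Finset.range (d * e), q ^ i =
      (∑ i ∈ Finset.range d, q ^ i) * ∑ j ∈ Finset.range e, (q ^ d) ^ j := by
  induction e with
  | zero => simp
  | succ e ih =>
    rw [Nat.mul_succ, Finset.sum_range_add, ih, Finset.sum_range_succ, mul_add]
    congr 1
    rw [Finset.sum_mul]
    apply Finset.sum_congr rfl
    intro i _
    rw [← pow_mul, ← pow_add, add_comm]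

/-- A matrix of determinant one with irreducible minimal polynomial has the power
`M / gcd(M, q - 1)` scalar, `M = 1 + q + ⋯ + q ^ (n - 1)`. -/
theorem scalar_pow_of_minpoly_irr {n : ℕ} (A : Matrix (Fin n) (Fin n) F) (hdet : A.det = 1)
    (hirr : Irreducible (minpoly F A)) :
    ∃ c : F, A ^ ((∑ i ∈ Finset.range n, Fintype.card F ^ i) /
      Nat.gcd (∑ i ∈ Finset.range n, Fintype.card F ^ i) (Fintype.card F - 1)) = c • 1 := by
  haveI : Fact (Irreducible (minpoly F A)) := ⟨hirr⟩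
  have hmon : (minpoly F A).Monic := minpoly.monic (Matrix.isIntegral A)
  obtain ⟨e, he⟩ := charpoly_eq_minpoly_pow A hirr
  obtain ⟨d, hd⟩ : ∃ d, d = (minpoly F A).natDegree := ⟨_, rfl⟩
  have hn : n = e * d := by
    have h1 := congrArg natDegree he
    rw [Matrix.charpoly_natDegree_eq_dim, Fintype.card_fin, natDegree_pow, ← hd] at h1
    exact h1
  obtain ⟨ν, hν⟩ : ∃ ν : F, ν = (-1) ^ d * (minpoly F A).coeff 0 := ⟨_, rfl⟩
  have hroot := adjoinRoot_root_pow (minpoly F A) hmon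
  rw [← hd, ← hν] at hroot
  have hνe : ν ^ e = 1 := by
    have h5 := Matrix.det_eq_sign_charpoly_coeff A
    rw [hdet, Fintype.card_fin, he, coeff_zero_eq_eval_zero, eval_pow,
      ← coeff_zero_eq_eval_zero] at h5
    rw [hν, mul_pow, ← pow_mul, mul_comm d e, ← hn]
    exact h5.symm
  have hνq : ∀ k : ℕ, ν ^ (Fintype.card F ^ k) = ν := fun k => FiniteField.pow_card_pow k ν
  obtain ⟨M, hM⟩ : ∃ M, M = ∑ i ∈ Finset.range n, Fintype.card F ^ i := ⟨_, rfl⟩
  have hrootM : (AdjoinRoot.root (minpoly F A)) ^ M = 1 := by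
    have hMe : M = (∑ i ∈ Finset.range d, Fintype.card F ^ i) *
        ∑ j ∈ Finset.range e, (Fintype.card F ^ d) ^ j := by
      rw [hM, ← geom_prod]
      congr 2
      rw [hn, mul_comm]
    rw [hMe, pow_mul, hroot, ← map_pow, ← Finset.prod_pow_eq_pow_sum]
    have h7 : ∏ j ∈ Finset.range e, ν ^ ((Fintype.card F ^ d) ^ j) = ν ^ e := by
      rw [Finset.prod_congr rfl (fun j _ => by rw [← pow_mul, hνq]), Finset.prod_const,
        Finset.card_range]
    rw [h7, hνe, map_one]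
  rw [← hM]
  obtain ⟨g, hg⟩ : ∃ g, g = Nat.gcd M (Fintype.card F - 1) := ⟨_, rfl⟩
  rw [← hg]
  have hgM : g ∣ M := hg ▸ Nat.gcd_dvd_left _ _
  obtain ⟨u, hu⟩ : g ∣ Fintype.card F - 1 := hg ▸ Nat.gcd_dvd_right _ _
  have h2 : ((AdjoinRoot.root (minpoly F A)) ^ (M / g)) ^ (Fintype.card F - 1) = 1 := by
    rw [← pow_mul, hu, ← mul_assoc, Nat.div_mul_cancel hgM, pow_mul, hrootM, one_pow]
  obtain ⟨c, hc⟩ := ff_mem_range_of_pow_eq_one dvd_rfl _ h2
  refine ⟨c, ?_⟩
  obtain ⟨g', hg'⟩ := dvd_X_pow_sub_C_of_root (minpoly F A) _ _ hc.symm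
  have h6 := congrArg (aeval A) hg'
  rw [map_mul, minpoly.aeval, zero_mul] at h6
  simp only [map_sub, map_pow, aeval_X, aeval_C] at h6
  rw [Algebra.algebraMap_eq_smul_one] at h6
  exact sub_eq_zero.mp h6

/-- A full Singer element: determinant one, and `T ^ j` is scalar only if
`M / gcd(M, q - 1) ∣ j`. -/
theorem exists_singer_full (p : ℕ) [Fact p.Prime] [CharP F p] (n : ℕ) (hn : n ≠ 0) :
    ∃ T : Matrix (Fin n) (Fin n) F, T.det = 1 ∧
      ∀ (j : ℕ) (c : F), T ^ j = c • 1 →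
        (∑ i ∈ Finset.range n, Fintype.card F ^ i) /
          Nat.gcd (∑ i ∈ Finset.range n, Fintype.card F ^ i) (Fintype.card F - 1) ∣ j := by
  classical
  haveI : NeZero n := ⟨hn⟩
  have hq1 : 1 < Fintype.card F := Fintype.one_lt_card
  let K := FiniteField.Extension F p n
  have hfr : Module.finrank F K = n := FiniteField.finrank_extension F p n
  have hcard : Nat.card K = Fintype.card F ^ n := by
    rw [FiniteField.natCard_extension, Nat.card_eq_fintype_card]
  let b : Module.Basis (Fin n) F K := Module.finBasisOfFinrankEq F K hfr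
  haveI : Fintype K := Fintype.ofFinite K
  obtain ⟨ζ, hζ⟩ := IsCyclic.exists_generator (α := Kˣ)
  have hordζ : orderOf (ζ : K) = Fintype.card F ^ n - 1 := by
    rw [orderOf_units, orderOf_eq_card_of_forall_mem_zpowers hζ, Nat.card_units, hcard]
  obtain ⟨M, hM⟩ : ∃ M, M = ∑ i ∈ Finset.range n, Fintype.card F ^ i := ⟨_, rfl⟩
  have hMq : (Fintype.card F - 1) * M = Fintype.card F ^ n - 1 := by
    rw [hM]
    exact geom_mul' _ _ (by omega)
  have hMpos : 0 < M := by
    rw [hM]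
    exact Finset.sum_pos (fun i _ => pow_pos (by omega) i)
      ⟨0, Finset.mem_range.mpr (Nat.pos_of_ne_zero hn)⟩
  obtain ⟨θ, hθ⟩ : ∃ θ : K, θ = (ζ : K) ^ (Fintype.card F - 1) := ⟨_, rfl⟩
  have hθ0 : θ ≠ 0 := by
    rw [hθ]
    exact pow_ne_zero _ (Units.ne_zero ζ)
  refine ⟨Algebra.leftMulMatrix b θ, ?_, ?_⟩
  · rw [← Algebra.norm_eq_matrix_det b θ, hθ, map_pow]
    apply FiniteField.pow_card_sub_one_eq_one
    intro h0
    rw [Algebra.norm_eq_zero_iff] at h0
    exact Units.ne_zero ζ h0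
  · intro j c h
    rw [← map_pow, leftMul_eq_smul_one_iff] at h
    have hc0 : c ≠ 0 := by
      rintro rfl
      rw [map_zero] at h
      exact pow_ne_zero j hθ0 h
    have h1 : (θ ^ j) ^ (Fintype.card F - 1) = 1 := by
      rw [h, ← map_pow, FiniteField.pow_card_sub_one_eq_one c hc0, map_one]
    rw [hθ, ← pow_mul, ← pow_mul] at h1
    have h2 := orderOf_dvd_of_pow_eq_one h1
    rw [hordζ, ← hMq] at h2
    have h3 : M ∣ (Fintype.card F - 1) * j := by
      have h5 : (Fintype.card F - 1) * M ∣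
          (Fintype.card F - 1) * ((Fintype.card F - 1) * j) := by
        have h6 : (Fintype.card F - 1) * (j * (Fintype.card F - 1)) =
            (Fintype.card F - 1) * ((Fintype.card F - 1) * j) := by ring
        rw [← h6]
        exact h2
      exact (Nat.mul_dvd_mul_iff_left (by omega : 0 < Fintype.card F - 1)).mp h5
    rw [← hM]
    exact (dvd_mul_iff_div_gcd M (Fintype.card F - 1) j hMpos).mp h3

end singer

section jordan

variable {F : Type*} [Field F]

/-- shift matrix: ones on the `k`-th superdiagonal -/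
def shiftM (F : Type*) [Field F] (n k : ℕ) : Matrix (Fin n) (Fin n) F :=
  Matrix.of fun i j => if (j : ℕ) = i + k then 1 else 0

theorem shiftM_apply (n k : ℕ) (i j : Fin n) :
    shiftM F n k i j = if (j : ℕ) = i + k then 1 else 0 := rfl

theorem shiftM_zero (n : ℕ) : shiftM F n 0 = 1 := by
  ext i j
  rw [shiftM_apply, Matrix.one_apply]
  simp only [add_zero]
  by_cases h : i = j
  · rw [if_pos h, if_pos (by rw [h])]
  · rw [if_neg h, if_neg (fun h' => h (Fin.ext h'.symm))]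

theorem shiftM_mul (n a b : ℕ) : shiftM F n a * shiftM F n b = shiftM F n (a + b) := by
  ext i j
  rw [Matrix.mul_apply, shiftM_apply]
  simp only [shiftM_apply]
  by_cases h : (i : ℕ) + a < n
  · rw [Finset.sum_eq_single ⟨i + a, h⟩]
    · simp only [if_true, one_mul, add_assoc]
    · intro l _ hl
      rw [if_neg (fun h' => hl (Fin.ext h')), zero_mul]
    · intro h'
      exact absurd (Finset.mem_univ _) h'
  · rw [Finset.sum_eq_zero]
    · rw [if_neg]
      have := j.2
      omega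
    · intro l _
      rw [if_neg, zero_mul]
      have := l.2
      omega

theorem shiftM_pow (n k : ℕ) : shiftM F n 1 ^ k = shiftM F n k := by
  induction k with
  | zero => rw [pow_zero, shiftM_zero]
  | succ k ih => rw [pow_succ, ih, shiftM_mul]

theorem shiftM_eq_zero_iff (n k : ℕ) : shiftM F n k = 0 ↔ n ≤ k := by
  constructor
  · intro h
    by_contra hlt
    have h1 := congrFun (congrFun h ⟨0, by omega⟩) ⟨k, by omega⟩
    rw [shiftM_apply] at h1
    simp at h1
  · intro h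
    ext i j
    rw [shiftM_apply, if_neg]
    · rfl
    · have := j.2
      omega

/-- The unipotent Jordan block: `J ^ (p ^ s) = 1` iff `n ≤ p ^ s`. -/
theorem exists_jordan (p : ℕ) [Fact p.Prime] [CharP F p] (n : ℕ) :
    ∃ J : Matrix (Fin n) (Fin n) F, J.det = 1 ∧ ∀ s : ℕ, J ^ (p ^ s) = 1 ↔ n ≤ p ^ s := by
  rcases Nat.eq_zero_or_pos n with rfl | hn
  · exact ⟨1, Matrix.det_one, fun s => ⟨fun _ => Nat.zero_le _, fun _ => Subsingleton.elim _ _⟩⟩
  haveI : Nonempty (Fin n) := ⟨⟨0, hn⟩⟩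
  refine ⟨1 + shiftM F n 1, ?_, ?_⟩
  · rw [Matrix.det_of_isUpperTriangular]
    · apply Finset.prod_eq_one
      intro i _
      simp [shiftM_apply]
    · intro i j hij
      have hij' : (j : ℕ) < i := hij
      rw [Matrix.add_apply, Matrix.one_apply, shiftM_apply, if_neg, if_neg, add_zero]
      · omega
      · intro h
        rw [h] at hij'
        omega
  · intro s
    rw [add_pow_char_pow_of_commute p s (Commute.one_left _), one_pow, shiftM_pow, add_eq_left,
      shiftM_eq_zero_iff]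

/-- A matrix of exact `p`-power order `p ^ (t + 1)` has `p ^ t < n`. -/
theorem unip_bound (p : ℕ) [Fact p.Prime] [CharP F p] {n : ℕ} (B : Matrix (Fin n) (Fin n) F)
    (t : ℕ) (h1 : B ^ (p ^ (t + 1)) = 1) (h2 : B ^ (p ^ t) ≠ 1) : p ^ t < n := by
  by_contra hle
  push Not at hle
  rcases Nat.eq_zero_or_pos n with rfl | hn
  · exact h2 (Subsingleton.elim _ _)
  haveI : Nonempty (Fin n) := ⟨⟨0, hn⟩⟩
  apply h2
  have hN : (B - 1) ^ (p ^ (t + 1)) = 0 := by
    rw [sub_pow_char_pow_of_commute p (t + 1) (Commute.one_right _), h1, one_pow, sub_self]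
  have hNn : (B - 1) ^ n = 0 := by
    have h3 := Module.End.ker_pow_le_ker_pow_finrank (Matrix.toLinAlgEquiv' (B - 1))
      (p ^ (t + 1))
    rw [← map_pow, hN, map_zero, LinearMap.ker_zero, Module.finrank_fin_fun, top_le_iff,
      LinearMap.ker_eq_top, ← map_pow] at h3
    exact Matrix.toLinAlgEquiv'.injective (by rw [h3, map_zero])
  have h4 : (B - 1) ^ (p ^ t) = 0 := by
    obtain ⟨k, hk⟩ := Nat.exists_eq_add_of_le hle
    rw [hk, pow_add, hNn, zero_mul]
  rw [sub_pow_char_pow_of_commute p t (Commute.one_right _), one_pow, sub_eq_zero] at h4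
  exact h4

end jordan

section twist

variable {F : Type*} [Field F]

/-- A matrix `h` of order prime to the characteristic whose minimal polynomial is not
irreducible: some polynomial in `h` is a non-scalar matrix `z` with `z ^ r = 1`. -/
theorem exists_twist_of_reducible (p : ℕ) [Fact p.Prime] [CharP F p] {n : ℕ} (hn : n ≠ 0)
    (h : Matrix (Fin n) (Fin n) F) (m : ℕ) (hm : ¬ p ∣ m) (hh : h ^ m = 1)
    (hred : ¬ Irreducible (minpoly F h)) (ζ : F) (r : ℕ) (hζ : ζ ^ r = 1) (hζ1 : ζ ≠ 1) :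
    ∃ φ : F[X], (aeval h φ) ^ r = 1 ∧ ¬ ∃ c : F, aeval h φ = c • 1 := by
  haveI : Nonempty (Fin n) := ⟨⟨0, Nat.pos_of_ne_zero hn⟩⟩
  have hint : IsIntegral F h := Matrix.isIntegral h
  have hμ0 : minpoly F h ≠ 0 := minpoly.ne_zero hint
  have hmF : (m : F) ≠ 0 := by
    rw [Ne, CharP.cast_eq_zero_iff F p m]
    exact hm
  have hsep : (X ^ m - C (1 : F)).Separable := separable_X_pow_sub_C 1 hmF one_ne_zero
  have hdvd : minpoly F h ∣ X ^ m - C (1 : F) := by
    apply minpoly.dvd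
    simp only [map_sub, map_pow, aeval_X, aeval_C, map_one]
    rw [hh, sub_self]
  have hsq : Squarefree (minpoly F h) := hsep.squarefree.squarefree_of_dvd hdvd
  rw [irreducible_iff] at hred
  push Not at hred
  obtain ⟨a, b, hab, hau, hbu⟩ := hred (minpoly.not_isUnit F h)
  have ha0 : a ≠ 0 := by
    rintro rfl
    rw [zero_mul] at hab
    exact hμ0 hab
  have hb0 : b ≠ 0 := by
    rintro rfl
    rw [mul_zero] at hab
    exact hμ0 hab
  rw [hab] at hsq
  have hcop : IsCoprime a b := (squarefree_mul_iff.mp hsq).1.isCoprime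
  obtain ⟨u, v, huv⟩ := hcop
  obtain ⟨e₁, he₁⟩ : ∃ e₁ : Matrix (Fin n) (Fin n) F, e₁ = aeval h (v * b) := ⟨_, rfl⟩
  obtain ⟨e₂, he₂⟩ : ∃ e₂ : Matrix (Fin n) (Fin n) F, e₂ = aeval h (u * a) := ⟨_, rfl⟩
  have hμh : aeval h (a * b) = 0 := by rw [← hab, minpoly.aeval]
  have he12 : e₁ + e₂ = 1 := by
    rw [he₁, he₂, ← map_add, add_comm, huv, map_one]
  have he1e2 : e₁ * e₂ = 0 := by
    rw [he₁, he₂, ← map_mul]
    have h5 : v * b * (u * a) = (a * b) * (u * v) := by ring
    rw [h5, map_mul, hμh, zero_mul]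
  have he2e1 : e₂ * e₁ = 0 := by
    rw [he₁, he₂, ← map_mul]
    have h5 : u * a * (v * b) = (a * b) * (u * v) := by ring
    rw [h5, map_mul, hμh, zero_mul]
  have he1 : e₁ * e₁ = e₁ := by
    have h5 : e₁ * (e₁ + e₂) = e₁ := by rw [he12, mul_one]
    rw [mul_add, he1e2, add_zero] at h5
    exact h5
  have he2 : e₂ * e₂ = e₂ := by
    have h5 : e₂ * (e₁ + e₂) = e₂ := by rw [he12, mul_one]
    rw [mul_add, he2e1, zero_add] at h5
    exact h5
  have he1ne : e₁ ≠ 0 := by
    intro h0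
    rw [he₁] at h0
    have h5 := minpoly.dvd F h h0
    rw [hab] at h5
    have h6 : a ∣ v := (mul_dvd_mul_iff_right hb0).mp h5
    have h7 : a ∣ u * a + v * b := dvd_add (dvd_mul_left a u) (Dvd.dvd.mul_right h6 b)
    rw [huv] at h7
    exact hau (isUnit_of_dvd_one h7)
  have he2ne : e₂ ≠ 0 := by
    intro h0
    rw [he₂] at h0
    have h5 := minpoly.dvd F h h0
    rw [hab, mul_comm a b] at h5
    have h6 : b ∣ u := (mul_dvd_mul_iff_right ha0).mp h5
    have h7 : b ∣ u * a + v * b := dvd_add (Dvd.dvd.mul_right h6 a) (dvd_mul_left b v)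
    rw [huv] at h7
    exact hbu (isUnit_of_dvd_one h7)
  have hφ : aeval h (C ζ * (v * b) + u * a) = ζ • e₁ + e₂ := by
    rw [map_add, map_mul, aeval_C, ← he₁, ← he₂, Algebra.algebraMap_eq_smul_one, smul_mul_assoc,
      one_mul]
  refine ⟨C ζ * (v * b) + u * a, ?_, ?_⟩
  · rw [hφ]
    have hpow : ∀ k : ℕ, (ζ • e₁ + e₂) ^ k = ζ ^ k • e₁ + e₂ := by
      intro k
      induction k with
      | zero => rw [pow_zero, pow_zero, one_smul, he12]
      | succ k ih =>
        rw [pow_succ, ih]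
        simp only [add_mul, mul_add, smul_mul_assoc, mul_smul_comm, smul_smul, he1, he1e2,
          he2e1, he2, smul_zero, add_zero, zero_add, pow_succ]
        rw [mul_comm]
    rw [hpow, hζ, one_smul, he12]
  · rintro ⟨c, hc⟩
    rw [hφ] at hc
    have h5 : ζ • e₁ = c • e₁ := by
      have h6 := congrArg (fun X => X * e₁) hc
      simp only [add_mul, smul_mul_assoc, he1, he2e1, add_zero, one_mul] at h6
      exact h6
    have h7 : e₂ = c • e₂ := by
      have h6 := congrArg (fun X => X * e₂) hc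
      simp only [add_mul, smul_mul_assoc, he2, he1e2, smul_zero, zero_add, one_mul] at h6
      exact h6
    have h8 : (ζ - c) • e₁ = 0 := by rw [sub_smul, h5, sub_self]
    have h9 : (1 - c) • e₂ = 0 := by rw [sub_smul, one_smul, ← h7, sub_self]
    have h10 : ζ = c := sub_eq_zero.mp ((smul_eq_zero.mp h8).resolve_right he1ne)
    have h11 : (1 : F) = c := sub_eq_zero.mp ((smul_eq_zero.mp h9).resolve_right he2ne)
    exact hζ1 (h10.trans h11.symm)

/-- Polynomials in a power of `G` commute with `G`. -/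
theorem aeval_pow_comm {n : ℕ} (G : Matrix (Fin n) (Fin n) F) (k : ℕ) (φ : F[X]) :
    aeval (G ^ k) φ * G = G * aeval (G ^ k) φ := by
  have h1 : aeval (G ^ k) φ = aeval G (φ.comp (X ^ k)) := by
    rw [aeval_comp, map_pow, aeval_X]
  rw [h1]
  have h2 : aeval G (φ.comp (X ^ k) * X) = aeval G (X * φ.comp (X ^ k)) := by rw [mul_comm]
  simpa [map_mul] using h2

variable [Fintype F]

/-- Twisting by a non-scalar matrix `z₀` with `z₀ ^ r = 1` in the centraliser of `g`: an
element of `PSL_n` whose order is divisible by `r * orderOf (mk g)`. -/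
theorem twist_order {n : ℕ} (r : ℕ) (hr : r.Prime) (hrn : ¬ r ∣ n)
    (g : Matrix.SpecialLinearGroup (Fin n) F) (z₀ : Matrix (Fin n) (Fin n) F)
    (hcomm : z₀ * (g : Matrix (Fin n) (Fin n) F) = (g : Matrix (Fin n) (Fin n) F) * z₀)
    (hz : z₀ ^ r = 1) (hns : ¬ ∃ c : F, z₀ = c • 1)
    (hrg : ¬ r ∣ orderOf (QuotientGroup.mk g : Matrix.ProjectiveSpecialLinearGroup (Fin n) F)) :
    ∃ y : Matrix.ProjectiveSpecialLinearGroup (Fin n) F,
      r * orderOf (QuotientGroup.mk g : Matrix.ProjectiveSpecialLinearGroup (Fin n) F) ∣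
        orderOf y := by
  classical
  obtain ⟨δ, hδ⟩ : ∃ δ : F, δ = z₀.det := ⟨_, rfl⟩
  have hδr : δ ^ r = 1 := by rw [hδ, ← Matrix.det_pow, hz, Matrix.det_one]
  have hcop : Nat.Coprime n r := ((Nat.Prime.coprime_iff_not_dvd hr).mpr hrn).symm
  obtain ⟨a', -, ha'⟩ := Nat.exists_mul_mod_eq_one_of_coprime hcop hr.one_lt
  obtain ⟨a, b, hab⟩ : ∃ a b : ℕ, a * n + 1 = r * b := by
    refine ⟨(r - 1) * a', (r - 1) * (n * a' / r) + 1, ?_⟩
    have h1 := Nat.div_add_mod (n * a') r
    rw [ha'] at h1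
    obtain ⟨s, rfl⟩ : ∃ s, r = s + 1 := ⟨r - 1, by have := hr.one_lt; omega⟩
    rw [Nat.add_sub_cancel]
    generalize n * a' / (s + 1) = c at h1
    have h2 : s * a' * n = s * (n * a') := by ring
    rw [h2, ← h1]
    ring
  obtain ⟨lam, hlam⟩ : ∃ lam : F, lam = δ ^ a := ⟨_, rfl⟩
  have hlamr : lam ^ r = 1 := by rw [hlam, ← pow_mul, mul_comm, pow_mul, hδr, one_pow]
  have hlam0 : lam ≠ 0 := by
    rintro rfl
    rw [zero_pow hr.ne_zero] at hlamr
    exact zero_ne_one hlamr
  have hlamn : lam ^ n * δ = 1 := by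
    rw [hlam, ← pow_mul, ← pow_succ, hab, pow_mul, hδr, one_pow]
  obtain ⟨z, hzdef⟩ : ∃ z : Matrix (Fin n) (Fin n) F, z = lam • z₀ := ⟨_, rfl⟩
  have hzdet : z.det = 1 := by
    rw [hzdef, Matrix.det_smul, Fintype.card_fin, ← hδ, hlamn]
  have hzr : z ^ r = 1 := by rw [hzdef, _root_.smul_pow, hlamr, hz, one_smul]
  have hzns : ¬ ∃ c : F, z = c • 1 := by
    rintro ⟨c, hc⟩
    apply hns
    refine ⟨lam⁻¹ * c, ?_⟩
    rw [hzdef] at hc
    have h1 := congrArg (fun X => lam⁻¹ • X) hc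
    simp only [smul_smul, inv_mul_cancel₀ hlam0, one_smul] at h1
    exact h1
  have hzcomm : z * (g : Matrix (Fin n) (Fin n) F) = (g : Matrix (Fin n) (Fin n) F) * z := by
    rw [hzdef, smul_mul_assoc, hcomm, mul_smul_comm]
  have hzscalar : ∀ i : ℕ, (∃ c : F, z ^ i = c • 1) → r ∣ i := by
    rintro i ⟨c, hc⟩
    by_contra hri
    have hcop' : Nat.Coprime i r := ((Nat.Prime.coprime_iff_not_dvd hr).mpr hri).symm
    obtain ⟨i', -, hi'⟩ := Nat.exists_mul_mod_eq_one_of_coprime hcop' hr.one_lt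
    apply hzns
    refine ⟨c ^ i', ?_⟩
    have h1 := Nat.div_add_mod (i * i') r
    rw [hi'] at h1
    have h2 : z ^ (i * i') = z := by
      rw [← h1, pow_add, pow_mul, hzr, one_pow, one_mul, pow_one]
    rw [← h2, pow_mul, hc, _root_.smul_pow, one_pow]
  obtain ⟨zs, hzs⟩ : ∃ zs : Matrix.SpecialLinearGroup (Fin n) F,
      (zs : Matrix (Fin n) (Fin n) F) = z := ⟨⟨z, hzdet⟩, rfl⟩
  have hk0 : orderOf g ≠ 0 := (orderOf_pos g).ne'
  obtain ⟨t, m₀, hm₀, hkt⟩ := Nat.exists_eq_pow_mul_and_not_dvd hk0 r hr.ne_one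
  obtain ⟨a₀, ha₀⟩ : ∃ a₀, a₀ = orderOf
      (QuotientGroup.mk g : Matrix.ProjectiveSpecialLinearGroup (Fin n) F) := ⟨_, rfl⟩
  rw [← ha₀] at hrg ⊢
  have hcop0 : Nat.Coprime r a₀ := (Nat.Prime.coprime_iff_not_dvd hr).mpr hrg
  have hg1 : (g ^ (r ^ t)) ^ m₀ = 1 := by
    rw [← pow_mul, ← hkt, pow_orderOf_eq_one]
  have hg1ord : orderOf (QuotientGroup.mk (g ^ (r ^ t)) :
      Matrix.ProjectiveSpecialLinearGroup (Fin n) F) = a₀ := by
    rw [QuotientGroup.mk_pow, ha₀]
    apply Nat.Coprime.orderOf_pow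
    rw [← ha₀]
    exact (Nat.Coprime.pow_left t hcop0).symm
  obtain ⟨G₁, hG₁⟩ : ∃ G₁ : Matrix (Fin n) (Fin n) F,
      G₁ = ((g ^ (r ^ t) : Matrix.SpecialLinearGroup (Fin n) F) : Matrix (Fin n) (Fin n) F) :=
    ⟨_, rfl⟩
  have hG₁m : G₁ ^ m₀ = 1 := by
    rw [hG₁, ← Matrix.SpecialLinearGroup.coe_pow, hg1, Matrix.SpecialLinearGroup.coe_one]
  have hG₁z : Commute G₁ z := by
    rw [hG₁, Matrix.SpecialLinearGroup.coe_pow]
    exact (Commute.pow_left (show Commute (g : Matrix (Fin n) (Fin n) F) z from hzcomm.symm) _)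
  refine ⟨QuotientGroup.mk (g ^ (r ^ t) * zs), ?_⟩
  obtain ⟨j, hj⟩ : ∃ j, j = orderOf (QuotientGroup.mk (g ^ (r ^ t) * zs) :
      Matrix.ProjectiveSpecialLinearGroup (Fin n) F) := ⟨_, rfl⟩
  rw [← hj]
  have hpj := pow_orderOf_eq_one (QuotientGroup.mk (g ^ (r ^ t) * zs) :
      Matrix.ProjectiveSpecialLinearGroup (Fin n) F)
  rw [← hj, psl_pow_eq_one_iff, Matrix.SpecialLinearGroup.coe_mul, ← hG₁, hzs,
    hG₁z.mul_pow] at hpj
  obtain ⟨ν, hν⟩ := hpj
  have hrj : r ∣ j := by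
    have h1 : z ^ (j * m₀) = ν ^ m₀ • 1 := by
      have h2 : (G₁ ^ j * z ^ j) ^ m₀ = (ν • (1 : Matrix (Fin n) (Fin n) F)) ^ m₀ := by rw [hν]
      rw [(hG₁z.pow_pow j j).mul_pow, ← pow_mul, ← pow_mul, mul_comm j m₀, pow_mul G₁, hG₁m,
        one_pow, one_mul, _root_.smul_pow, one_pow, mul_comm m₀ j] at h2
      exact h2
    have h3 := hzscalar _ ⟨_, h1⟩
    exact ((Nat.Prime.dvd_mul hr).mp h3).resolve_right hm₀
  have hzj : z ^ j = 1 := by
    obtain ⟨j', rfl⟩ := hrj
    rw [pow_mul, hzr, one_pow]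
  rw [hzj, mul_one] at hν
  have haj : a₀ ∣ j := by
    rw [← hg1ord, orderOf_dvd_iff_pow_eq_one, psl_pow_eq_one_iff, ← hG₁]
    exact ⟨ν, hν⟩
  exact hcop0.mul_dvd_of_dvd_of_dvd hrj haj

end twist

end Cfsg.Agent.Lib.Helper49
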