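import Mathlib
import Cfsg.Agent.Lib.Helper49.Twist
import Cfsg.Agent.Lib.Helper47.SemiConj

set_option autoImplicit false
set_option linter.style.haveILetI false
set_option linter.unusedSectionVars false

/-!
Linear algebra for an endomorphism `S` and an irreducible polynomial `f`:
annihilators of vectors, dimensions of invariant subspaces killed by `f(S)`, and
nilpotent endomorphisms commuting with `S`.
-/

namespace Cfsg.Agent.Lib.Helper49

open Polynomial Cfsg.Agent.Lib.Helper47

section lin

variable {F : Type*} [Field F] {V : Type*} [AddCommGroup V] [Module F V]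

/-- If `f` is irreducible and `f(S) v = 0`, `v ≠ 0`, then `f` divides every polynomial `P`
with `P(S) v = 0`. -/
theorem dvd_of_aeval_apply_eq_zero (S : Module.End F V) (f P : F[X]) (hf : Irreducible f)
    (v : V) (hv : v ≠ 0) (hfv : aeval S f v = 0) (hPv : aeval S P v = 0) : f ∣ P := by
  by_contra hnd
  obtain ⟨a, b, hab⟩ := (hf.coprime_iff_not_dvd).mpr hnd
  apply hv
  have h1 : aeval S (a * f + b * P) v = v := by rw [hab, map_one, Module.End.one_apply]
  rw [map_add, map_mul, map_mul, LinearMap.add_apply, Module.End.mul_apply,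
    Module.End.mul_apply, hfv, hPv, map_zero, map_zero, add_zero] at h1
  exact h1.symm

/-- A nonzero vector killed by `P(S)` gives a nonzero vector killed by `f(S)` for an
irreducible factor `f` of `P`. -/
theorem exists_irreducible_ker (S : Module.End F V) (v : V) (hv : v ≠ 0) :
    ∀ (d : ℕ) (P : F[X]), P.natDegree ≤ d → P ≠ 0 → aeval S P v = 0 →
      ∃ f : F[X], Irreducible f ∧ f ∣ P ∧ ∃ g : F[X], aeval S g v ≠ 0 ∧
        aeval S f (aeval S g v) = 0 := by
  have hunit : ∀ P : F[X], IsUnit P → aeval S P v = 0 → False := by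
    intro P hu hPv
    obtain ⟨c, hc, rfl⟩ := Polynomial.isUnit_iff.mp hu
    rw [aeval_C, Module.algebraMap_end_apply] at hPv
    rcases smul_eq_zero.mp hPv with h | h
    · exact hc.ne_zero h
    · exact hv h
  intro d
  induction d with
  | zero =>
    intro P hd hP hPv
    exfalso
    apply hunit P _ hPv
    rw [Polynomial.eq_C_of_natDegree_le_zero hd] at hP ⊢
    rw [Polynomial.isUnit_C]
    exact isUnit_iff_ne_zero.mpr (fun h => hP (by rw [h, C_0]))
  | succ d ih =>
    intro P hd hP hPv
    by_cases hu : IsUnit P
    · exact absurd hPv (fun h => hunit P hu h)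
    obtain ⟨f, hf, g, rfl⟩ := WfDvdMonoid.exists_irreducible_factor hu hP
    by_cases hg : aeval S g v = 0
    · have hg0 : g ≠ 0 := right_ne_zero_of_mul hP
      have hf0 : f ≠ 0 := left_ne_zero_of_mul hP
      have hdeg : g.natDegree ≤ d := by
        have h1 := natDegree_mul hf0 hg0
        have h2 := hf.natDegree_pos
        omega
      obtain ⟨f', hf', hdvd, g', h1, h2⟩ := ih g hdeg hg0 hg
      exact ⟨f', hf', dvd_mul_of_dvd_right hdvd f, g', h1, h2⟩
    · refine ⟨f, hf, dvd_mul_right f g, g, hg, ?_⟩
      rw [← Module.End.mul_apply, ← map_mul]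
      exact hPv

/-- An `S`-invariant subspace killed by `f(S)`, `f` irreducible, has dimension divisible by
`deg f`. -/
theorem natDegree_dvd_finrank [FiniteDimensional F V] (S : Module.End F V) (f : F[X])
    (hf : Irreducible f) (W : Submodule F V) (hW : W ∈ Module.End.invtSubmodule S)
    (hfW : ∀ x ∈ W, aeval S f x = 0) : f.natDegree ∣ Module.finrank F W := by
  classical
  by_cases hbot : W = ⊥
  · rw [hbot, finrank_bot]
    exact dvd_zero _
  haveI : Nontrivial W := Submodule.nontrivial_iff_ne_bot.mpr hbot
  obtain ⟨S', hS'⟩ : ∃ S' : Module.End F W, S' = resInv S hW := ⟨_, rfl⟩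
  have hS'f : aeval S' f = 0 := by
    apply LinearMap.ext
    intro x
    apply Subtype.ext
    rw [hS', aeval_resInv_apply]
    exact hfW x x.2
  have hdvd : minpoly F S' ∣ f := minpoly.dvd F S' hS'f
  have hnu : ¬ IsUnit (minpoly F S') := minpoly.not_isUnit F S'
  obtain ⟨c, hc⟩ := hdvd
  have hcu : IsUnit c := (hf.isUnit_or_isUnit hc).resolve_left hnu
  have hassoc : Associated (minpoly F S') f := ⟨hcu.unit, hc.symm⟩
  have hirr : Irreducible (minpoly F S') := hassoc.symm.irreducible hf
  have hdeg : (minpoly F S').natDegree = f.natDegree :=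
    natDegree_eq_of_degree_eq (degree_eq_degree_of_associated hassoc)
  let b := Module.finBasis F W
  have h1 : minpoly F (LinearMap.toMatrixAlgEquiv b S') = minpoly F S' :=
    minpoly.algEquiv_eq (LinearMap.toMatrixAlgEquiv b) S'
  obtain ⟨e, he⟩ := charpoly_eq_minpoly_pow (LinearMap.toMatrixAlgEquiv b S') (h1 ▸ hirr)
  have h2 := congrArg natDegree he
  rw [Matrix.charpoly_natDegree_eq_dim, Fintype.card_fin, natDegree_pow, h1, hdeg] at h2
  exact ⟨e, by rw [h2, mul_comm]⟩

/-- A nonzero `S`-invariant subspace killed by `f(S)` has dimension at least `deg f`. -/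
theorem natDegree_le_finrank [FiniteDimensional F V] (S : Module.End F V) (f : F[X])
    (hf : Irreducible f) (W : Submodule F V) (hW : W ∈ Module.End.invtSubmodule S)
    (hfW : ∀ x ∈ W, aeval S f x = 0) (hne : W ≠ ⊥) : f.natDegree ≤ Module.finrank F W := by
  apply Nat.le_of_dvd _ (natDegree_dvd_finrank S f hf W hW hfW)
  exact Module.finrank_pos_iff.mpr (Submodule.nontrivial_iff_ne_bot.mpr hne)

/-- the kernel of a polynomial in `S` is `S`-invariant -/
theorem ker_aeval_invt (S : Module.End F V) (P : F[X]) :
    LinearMap.ker (aeval S P) ∈ Module.End.invtSubmodule S := by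
  rw [Module.End.mem_invtSubmodule_iff_forall_mem_of_mem]
  intro x hx
  rw [LinearMap.mem_ker] at hx ⊢
  have h1 : aeval S P * S = S * aeval S P := by
    have := (Commute.all (P : F[X]) X).map (aeval S)
    rw [aeval_X] at this
    exact this.eq
  rw [← Module.End.mul_apply, h1, Module.End.mul_apply, hx, map_zero]

/-- A nilpotent endomorphism commuting with `S`: on the kernel of `f(S)`, `f` irreducible,
its `k`-th power vanishes as soon as `dim ker f(S) ≤ k * deg f`. -/
theorem nil_pow_apply_eq_zero [FiniteDimensional F V] (S N : Module.End F V) (f : F[X])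
    (hf : Irreducible f) (hc : S * N = N * S) (hN : IsNilpotent N) (k : ℕ)
    (hk : Module.finrank F (LinearMap.ker (aeval S f)) ≤ k * f.natDegree) :
    ∀ x ∈ LinearMap.ker (aeval S f), (N ^ k) x = 0 := by
  classical
  obtain ⟨W₀, hW₀⟩ : ∃ W₀ : Submodule F V, W₀ = LinearMap.ker (aeval S f) := ⟨_, rfl⟩
  rw [← hW₀] at hk ⊢
  have hcomm : ∀ (j : ℕ), S * N ^ j = N ^ j * S := by
    intro j
    induction j with
    | zero => rw [pow_zero, mul_one, one_mul]
    | succ j ih => rw [pow_succ, ← mul_assoc, ih, mul_assoc, hc, mul_assoc]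
  have hcommf : aeval S f * N = N * aeval S f := by
    have h1 : Commute N S := hc.symm
    exact ((Algebra.commute_of_mem_adjoin_singleton_of_commute
      (Polynomial.aeval_mem_adjoin_singleton F S) h1).symm).eq
  have hNW : ∀ (i : ℕ) (x : V), x ∈ W₀ → (N ^ i) x ∈ W₀ := by
    intro i
    induction i with
    | zero => intro x hx; simpa using hx
    | succ i ih =>
      intro x hx
      rw [pow_succ', Module.End.mul_apply]
      have h1 := ih x hx
      rw [hW₀, LinearMap.mem_ker] at h1 ⊢
      rw [← Module.End.mul_apply, hcommf, Module.End.mul_apply, h1, map_zero]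
  obtain ⟨K, hK⟩ : ∃ K : ℕ → Submodule F V, K = fun j => W₀ ⊓ LinearMap.ker (N ^ j) := ⟨_, rfl⟩
  have hKmem : ∀ (j : ℕ) (x : V), x ∈ K j ↔ x ∈ W₀ ∧ (N ^ j) x = 0 := by
    intro j x
    rw [hK]
    change x ∈ W₀ ⊓ LinearMap.ker (N ^ j) ↔ _
    rw [Submodule.mem_inf, LinearMap.mem_ker]
  have hKle : ∀ j, K j ≤ W₀ := fun j x hx => ((hKmem j x).mp hx).1
  have hKmono : ∀ j, K j ≤ K (j + 1) := by
    intro j x hx
    rw [hKmem] at hx ⊢
    refine ⟨hx.1, ?_⟩
    rw [pow_succ', Module.End.mul_apply, hx.2, map_zero]
  have hKinv : ∀ j, K j ∈ Module.End.invtSubmodule S := by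
    intro j
    rw [Module.End.mem_invtSubmodule_iff_forall_mem_of_mem]
    intro x hx
    rw [hKmem] at hx ⊢
    refine ⟨?_, ?_⟩
    · have h1 := ker_aeval_invt S f
      rw [Module.End.mem_invtSubmodule_iff_forall_mem_of_mem] at h1
      rw [hW₀]
      exact h1 x (hW₀ ▸ hx.1)
    · rw [← Module.End.mul_apply, ← hcomm, Module.End.mul_apply, hx.2, map_zero]
  have hKf : ∀ j, ∀ x ∈ K j, aeval S f x = 0 := by
    intro j x hx
    have h1 := hKle j hx
    rw [hW₀, LinearMap.mem_ker] at h1
    exact h1
  have hdvd : ∀ j, f.natDegree ∣ Module.finrank F (K j) := fun j =>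
    natDegree_dvd_finrank S f hf (K j) (hKinv j) (hKf j)
  have key : ∀ j, K j = W₀ ∨ j * f.natDegree ≤ Module.finrank F (K j) := by
    intro j
    induction j with
    | zero => right; simp
    | succ j ih =>
      rcases ih with h | h
      · left
        exact le_antisymm (hKle _) (h ▸ hKmono j)
      · by_cases htop : K j = W₀
        · left
          exact le_antisymm (hKle _) (htop ▸ hKmono j)
        right
        -- strict increase
        have hlt : K j < K (j + 1) := by
          refine lt_of_le_of_ne (hKmono j) ?_
          intro heq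
          apply htop
          apply le_antisymm (hKle j)
          intro x hx
          by_contra hxK
          have hNj : (N ^ j) x ≠ 0 := by
            intro h0
            apply hxK
            rw [hKmem]
            exact ⟨hx, h0⟩
          obtain ⟨M, hM⟩ := hN
          have hex : ∃ i, (N ^ (i + 1)) x = 0 := ⟨M, by
            rw [pow_succ, hM, zero_mul, LinearMap.zero_apply]⟩
          obtain ⟨i₀, hi₀⟩ : ∃ i₀, i₀ = Nat.find hex := ⟨_, rfl⟩
          have hi1 : (N ^ (i₀ + 1)) x = 0 := hi₀ ▸ Nat.find_spec hex
          have hi2 : (N ^ i₀) x ≠ 0 := by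
            rcases Nat.eq_zero_or_pos i₀ with h0 | hpos
            · rw [h0, pow_zero, Module.End.one_apply]
              intro hx0
              apply hNj
              rw [hx0, map_zero]
            · have := Nat.find_min hex (m := i₀ - 1) (by omega)
              rw [Nat.sub_add_cancel hpos] at this
              exact this
          have hji : j ≤ i₀ := by
            by_contra hlt
            push Not at hlt
            apply hNj
            obtain ⟨c, hc'⟩ := Nat.exists_eq_add_of_le (show i₀ + 1 ≤ j by omega)
            rw [hc', add_comm, pow_add, Module.End.mul_apply, hi1, map_zero]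
          obtain ⟨c, hc'⟩ := Nat.exists_eq_add_of_le hji
          have hy1 : (N ^ c) x ∈ K (j + 1) := by
            rw [hKmem]
            refine ⟨hNW c x hx, ?_⟩
            rw [← Module.End.mul_apply, ← pow_add]
            have : j + 1 + c = i₀ + 1 := by omega
            rw [this]
            exact hi1
          have hy2 : (N ^ c) x ∉ K j := by
            intro hmem
            rw [hKmem] at hmem
            have h1 := hmem.2
            rw [← Module.End.mul_apply, ← pow_add, ← hc'] at h1
            exact hi2 h1
          exact hy2 (heq ▸ hy1)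
        have h1 := Submodule.finrank_lt_finrank_of_lt hlt
        obtain ⟨a, ha⟩ := hdvd j
        obtain ⟨b, hb⟩ := hdvd (j + 1)
        have hf0 : 0 < f.natDegree := hf.natDegree_pos
        have hab : a < b := by
          by_contra hcon
          push Not at hcon
          have := Nat.mul_le_mul_left f.natDegree hcon
          omega
        have h2 : f.natDegree * (a + 1) ≤ f.natDegree * b := Nat.mul_le_mul_left _ hab
        rw [hb]
        calc (j + 1) * f.natDegree = j * f.natDegree + f.natDegree := by ring
          _ ≤ f.natDegree * a + f.natDegree := by rw [← ha]; omega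
          _ = f.natDegree * (a + 1) := by ring
          _ ≤ f.natDegree * b := h2
  have hKk : K k = W₀ := by
    rcases key k with h | h
    · exact h
    · apply Submodule.eq_of_le_of_finrank_le (hKle k)
      exact le_trans hk h
  intro x hx
  rw [← hKk, hKmem] at hx
  exact hx.2

end lin

end Cfsg.Agent.Lib.Helper49
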