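import Mathlib

set_option autoImplicit false

/-!
Arithmetic of the "unitary" geometric sum `usum q n = |∑_{j<n} (-q)^j| = (q^n - (-1)^n)/(q+1)`.
-/

namespace Cfsg.Agent.Lib.Helper49

/-- `|1 - q + q^2 - ⋯ ± q^(n-1)|` -/
def usum (q n : ℕ) : ℕ := Int.natAbs (∑ j ∈ Finset.range n, (-(q : ℤ)) ^ j)

theorem geom_prod' {R : Type*} [CommRing R] (x : R) (d e : ℕ) :
    (∑ j ∈ Finset.range d, x ^ j) * ∑ i ∈ Finset.range e, (x ^ d) ^ i =
      ∑ j ∈ Finset.range (d * e), x ^ j := by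
  induction e with
  | zero => simp
  | succ e ih =>
    rw [Finset.sum_range_succ, mul_add, ih, Nat.mul_succ, Finset.sum_range_add]
    congr 1
    rw [Finset.sum_mul]
    apply Finset.sum_congr rfl
    intro i _
    rw [← pow_mul, ← pow_add, add_comm]

theorem usum_odd (q n : ℕ) (hn : Odd n) : (q + 1) * usum q n = q ^ n + 1 := by
  have h1 := mul_neg_geom_sum (-(q : ℤ)) n
  rw [hn.neg_pow] at h1
  have h2 : ((q + 1 : ℕ) : ℤ) * (∑ j ∈ Finset.range n, (-(q : ℤ)) ^ j) = ((q ^ n + 1 : ℕ) : ℤ) := by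
    push_cast
    linarith
  have h3 := congrArg Int.natAbs h2
  rw [Int.natAbs_mul, Int.natAbs_natCast, Int.natAbs_natCast] at h3
  exact h3

theorem usum_even (q n : ℕ) (hn : Even n) (hq : 1 ≤ q) : (q + 1) * usum q n = q ^ n - 1 := by
  have h1 := mul_neg_geom_sum (-(q : ℤ)) n
  rw [hn.neg_pow] at h1
  have hpos : 1 ≤ q ^ n := Nat.one_le_pow _ _ hq
  have h2 : ((q + 1 : ℕ) : ℤ) * (∑ j ∈ Finset.range n, (-(q : ℤ)) ^ j) =
      -((q ^ n - 1 : ℕ) : ℤ) := by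
    rw [Nat.cast_sub hpos]
    push_cast
    linarith
  have h3 := congrArg Int.natAbs h2
  rw [Int.natAbs_mul, Int.natAbs_natCast, Int.natAbs_neg, Int.natAbs_natCast] at h3
  exact h3

theorem usum_two_mul (q w : ℕ) (hq : 1 ≤ q) :
    usum q (2 * w) = (q - 1) * ∑ i ∈ Finset.range w, (q ^ 2) ^ i := by
  unfold usum
  rw [← geom_prod' (-(q : ℤ)) 2 w]
  have h1 : (∑ j ∈ Finset.range 2, (-(q : ℤ)) ^ j) = -((q - 1 : ℕ) : ℤ) := by
    rw [Finset.sum_range_succ, Finset.sum_range_one, Nat.cast_sub hq]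
    push_cast
    ring
  have h2 : (∑ i ∈ Finset.range w, ((-(q : ℤ)) ^ 2) ^ i) =
      ((∑ i ∈ Finset.range w, (q ^ 2) ^ i : ℕ) : ℤ) := by
    push_cast
    apply Finset.sum_congr rfl
    intro i _
    rw [neg_sq]
  rw [h1, h2, Int.natAbs_mul, Int.natAbs_neg, Int.natAbs_natCast, Int.natAbs_natCast]

theorem sum_neg_one_pow_odd (d : ℕ) (hd : Odd d) : ∑ j ∈ Finset.range d, (-1 : ℤ) ^ j = 1 := by
  have h1 := mul_neg_geom_sum (-1 : ℤ) d
  rw [hd.neg_pow, one_pow] at h1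
  linarith

theorem usum_dvd_of (q d e o : ℕ) (hq : 2 ≤ q) (hd : Odd d) (h1 : o ∣ q ^ d + 1)
    (h2 : o ∣ e * ∑ i ∈ Finset.range d, (q ^ 2) ^ i) : o ∣ usum q (d * e) := by
  unfold usum
  rw [← Int.natCast_dvd, ← geom_prod']
  obtain ⟨x, hx⟩ : ∃ x : ℤ, x = -(q : ℤ) := ⟨_, rfl⟩
  rw [← hx]
  have hxd : x ^ d = -(q : ℤ) ^ d := by rw [hx, hd.neg_pow]
  have hx1 : (o : ℤ) ∣ x ^ d - 1 := by
    have h3 : x ^ d - 1 = -((q ^ d + 1 : ℕ) : ℤ) := by
      rw [hxd]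
      push_cast
      ring
    rw [h3, dvd_neg]
    exact Int.natCast_dvd_natCast.mpr h1
  have hsumE : (o : ℤ) ∣ (∑ i ∈ Finset.range e, (x ^ d) ^ i) - e := by
    have h3 : (∑ i ∈ Finset.range e, (x ^ d) ^ i) - e =
        ∑ i ∈ Finset.range e, ((x ^ d) ^ i - 1) := by
      rw [Finset.sum_sub_distrib, Finset.sum_const, Finset.card_range, nsmul_one]
    rw [h3]
    apply Finset.dvd_sum
    intro i _
    have h4 := sub_dvd_pow_sub_pow (x ^ d) 1 i
    rw [one_pow] at h4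
    exact dvd_trans hx1 h4
  obtain ⟨P, hP⟩ : ∃ P : ℤ, P = ∑ j ∈ Finset.range d, x ^ j := ⟨_, rfl⟩
  obtain ⟨G, hG⟩ : ∃ G : ℤ, G = ∑ j ∈ Finset.range d, (-x) ^ j := ⟨_, rfl⟩
  rw [← hP]
  have hP1 : (1 - x) * P = 1 - x ^ d := by rw [hP]; exact mul_neg_geom_sum x d
  have hG1 : (1 + x) * G = 1 + x ^ d := by
    have := mul_neg_geom_sum (-x) d
    rw [hd.neg_pow, ← hG] at this
    linarith
  have hGd : (1 - x) ∣ G - 1 := by
    have h3 : G - 1 = ∑ j ∈ Finset.range d, ((-x) ^ j - (-1) ^ j) := by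
      rw [Finset.sum_sub_distrib, ← hG, sum_neg_one_pow_odd d hd]
    rw [h3]
    apply Finset.dvd_sum
    intro j _
    have h4 := sub_dvd_pow_sub_pow (-x) (-1) j
    have h5 : -x - -1 = 1 - x := by ring
    rw [h5] at h4
    exact h4
  have hPG : P * G = ∑ i ∈ Finset.range d, (x ^ 2) ^ i := by
    have h3 := mul_neg_geom_sum (x ^ 2) d
    have hne : (1 - x ^ 2) ≠ 0 := by
      rw [hx, neg_sq]
      have : (2 : ℤ) ≤ q := by exact_mod_cast hq
      nlinarith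
    apply mul_left_cancel₀ hne
    rw [h3]
    have h4 : (1 - x ^ 2) * (P * G) = ((1 - x) * P) * ((1 + x) * G) := by ring
    rw [h4, hP1, hG1]
    ring
  have h2' : (o : ℤ) ∣ e * (P * G) := by
    rw [hPG]
    have h3 : (e : ℤ) * ∑ i ∈ Finset.range d, (x ^ 2) ^ i =
        ((e * ∑ i ∈ Finset.range d, (q ^ 2) ^ i : ℕ) : ℤ) := by
      push_cast
      rw [hx, neg_sq]
    rw [h3]
    exact Int.natCast_dvd_natCast.mpr h2
  have h1' : (o : ℤ) ∣ (1 - x) * P := by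
    rw [hP1]
    have h3 : 1 - x ^ d = -(x ^ d - 1) := by ring
    rw [h3, dvd_neg]
    exact hx1
  obtain ⟨w, hw⟩ := hGd
  have heP : (o : ℤ) ∣ e * P := by
    have h3 : (e : ℤ) * P = e * (P * G) - e * w * ((1 - x) * P) := by
      have h4 : G = 1 + (1 - x) * w := by linarith
      rw [h4]
      ring
    rw [h3]
    exact dvd_sub h2' (Dvd.dvd.mul_left h1' _)
  have h5 : P * ∑ i ∈ Finset.range e, (x ^ d) ^ i =
      e * P + P * ((∑ i ∈ Finset.range e, (x ^ d) ^ i) - e) := by ring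
  rw [h5]
  exact dvd_add heP (Dvd.dvd.mul_left hsumE _)

end Cfsg.Agent.Lib.Helper49
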