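import Mathlib
import Cfsg.Agent.Lib.Helper47.GUConj
import Cfsg.Agent.Lib.Helper49.Twist

set_option autoImplicit false
set_option linter.style.haveILetI false
set_option linter.unusedSectionVars false

/-!
Unitary matrices over a field with an involution `σ`: the conjugate transpose `adjM`, the
predicate `IsU`, semisimplicity of polynomials in a matrix of order prime to the characteristic,
and the twisting lemma: a self-adjoint semisimple singular nonzero matrix `S` yields a
non-scalar unitary polynomial in `S` of order `r`.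
-/

namespace Cfsg.Agent.Lib.Helper49

open Polynomial Cfsg.Agent.Lib.Helper47

section adj

variable {F : Type*} [Field F] {ι : Type*} [Fintype ι] [DecidableEq ι] (σ : F →+* F)

/-- the conjugate transpose -/
def adjM (A : Matrix ι ι F) : Matrix ι ι F := (A.map σ).transpose

theorem adjM_apply (A : Matrix ι ι F) (i j : ι) : adjM σ A i j = σ (A j i) := rfl

theorem adjM_mul (A B : Matrix ι ι F) : adjM σ (A * B) = adjM σ B * adjM σ A := by
  unfold adjM
  rw [Matrix.map_mul, Matrix.transpose_mul]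

theorem adjM_add (A B : Matrix ι ι F) : adjM σ (A + B) = adjM σ A + adjM σ B := by
  ext i j
  simp [adjM_apply]

theorem adjM_sub (A B : Matrix ι ι F) : adjM σ (A - B) = adjM σ A - adjM σ B := by
  ext i j
  simp [adjM_apply]

theorem adjM_zero : adjM σ (0 : Matrix ι ι F) = 0 := by
  ext i j
  simp [adjM_apply]

theorem adjM_one : adjM σ (1 : Matrix ι ι F) = 1 := by
  ext i j
  rw [adjM_apply, Matrix.one_apply, Matrix.one_apply]
  by_cases h : i = j
  · subst h
    simp
  · rw [if_neg h, if_neg (Ne.symm h), map_zero]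

theorem adjM_smul (c : F) (A : Matrix ι ι F) : adjM σ (c • A) = σ c • adjM σ A := by
  ext i j
  simp [adjM_apply]

theorem adjM_pow (A : Matrix ι ι F) (k : ℕ) : adjM σ (A ^ k) = adjM σ A ^ k := by
  induction k with
  | zero => rw [pow_zero, pow_zero, adjM_one]
  | succ k ih => rw [pow_succ, adjM_mul, ih, pow_succ']

theorem adjM_adjM (hσ : ∀ x, σ (σ x) = x) (A : Matrix ι ι F) : adjM σ (adjM σ A) = A := by
  ext i j
  rw [adjM_apply, adjM_apply, hσ]

theorem adjM_aeval (A : Matrix ι ι F) (φ : F[X]) :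
    adjM σ (aeval A φ) = aeval (adjM σ A) (φ.map σ) := by
  induction φ using Polynomial.induction_on' with
  | add a b ha hb => rw [map_add, adjM_add, ha, hb, Polynomial.map_add, map_add]
  | monomial k c =>
    rw [aeval_monomial, Polynomial.map_monomial, aeval_monomial, Algebra.algebraMap_eq_smul_one,
      Algebra.algebraMap_eq_smul_one, smul_mul_assoc, one_mul, smul_mul_assoc, one_mul,
      adjM_smul, adjM_pow]

theorem uForm_adjM (hσ : ∀ x, σ (σ x) = x) (A : Matrix ι ι F) (u v : ι → F) :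
    uForm σ (A.mulVec u) v = uForm σ u ((adjM σ A).mulVec v) :=
  uForm_star hσ A u v

/-- unitary matrices -/
def IsU (A : Matrix ι ι F) : Prop := adjM σ A * A = 1

theorem IsU.mul_adj {A : Matrix ι ι F} (h : IsU σ A) : A * adjM σ A = 1 :=
  mul_eq_one_comm.mp h

theorem IsU.one : IsU σ (1 : Matrix ι ι F) := by
  unfold IsU
  rw [adjM_one, mul_one]

theorem IsU.mul {A B : Matrix ι ι F} (hA : IsU σ A) (hB : IsU σ B) : IsU σ (A * B) := by
  unfold IsU at *
  rw [adjM_mul, mul_assoc, ← mul_assoc (adjM σ A), hA, one_mul, hB]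

theorem IsU.pow {A : Matrix ι ι F} (hA : IsU σ A) (k : ℕ) : IsU σ (A ^ k) := by
  induction k with
  | zero => rw [pow_zero]; exact IsU.one σ
  | succ k ih => rw [pow_succ]; exact ih.mul σ hA

theorem IsU.smul_one {c : F} (hc : σ c * c = 1) : IsU σ (c • (1 : Matrix ι ι F)) := by
  unfold IsU
  rw [adjM_smul, adjM_one, smul_mul_smul_comm, mul_one, hc, one_smul]

theorem IsU.smul {c : F} (hc : σ c * c = 1) {A : Matrix ι ι F} (hA : IsU σ A) :
    IsU σ (c • A) := by
  unfold IsU at *
  rw [adjM_smul, smul_mul_smul_comm, hA, hc, one_smul]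

theorem isU_iff (hσ : ∀ x, σ (σ x) = x) (A : Matrix ι ι F) :
    IsU σ A ↔ ∀ x y, uForm σ (A.mulVec x) (A.mulVec y) = uForm σ x y := by
  constructor
  · intro h x y
    rw [uForm_adjM σ hσ, Matrix.mulVec_mulVec, h, Matrix.one_mulVec]
  · intro h
    have hB := uForm_isSForm (ι := ι) σ hσ
    have h1 : adjM σ A * A - 1 = 0 := by
      apply Matrix.toLin'.injective
      apply LinearMap.ext
      intro y
      rw [Matrix.toLin'_apply, map_zero, LinearMap.zero_apply]
      apply hB.nondeg_right (uForm_nondeg σ)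
      intro x
      rw [Matrix.sub_mulVec, Matrix.one_mulVec, hB.sub_right, ← Matrix.mulVec_mulVec,
        ← uForm_adjM σ hσ, h, sub_self]
    exact sub_eq_zero.mp h1

/-- a scalar unitary matrix has a scalar of norm one -/
theorem IsU.scalar_norm [Nonempty ι] {c : F} (h : IsU σ (c • (1 : Matrix ι ι F))) :
    σ c * c = 1 := by
  unfold IsU at h
  rw [adjM_smul, adjM_one, smul_mul_smul_comm, mul_one] at h
  obtain ⟨i⟩ := ‹Nonempty ι›
  have h1 := congrFun (congrFun h i) i
  simpa using h1

/-- the adjoint of a polynomial in a unitary matrix of finite order -/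
noncomputable def adjP (m : ℕ) (φ : F[X]) : F[X] := (φ.map σ).comp (X ^ (m - 1))

theorem IsU.adj_eq_pow {A : Matrix ι ι F} (h : IsU σ A) {m : ℕ} (hm : m ≠ 0) (hA : A ^ m = 1) :
    adjM σ A = A ^ (m - 1) := by
  have h1 : A ^ (m - 1) * A = 1 := by
    rw [← pow_succ, Nat.sub_add_cancel (Nat.pos_of_ne_zero hm), hA]
  have h2 := h.mul_adj
  calc adjM σ A = (A ^ (m - 1) * A) * adjM σ A := by rw [h1, one_mul]
    _ = A ^ (m - 1) := by rw [mul_assoc, h2, mul_one]

theorem IsU.adjM_aeval {A : Matrix ι ι F} (h : IsU σ A) {m : ℕ} (hm : m ≠ 0) (hA : A ^ m = 1)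
    (φ : F[X]) : adjM σ (aeval A φ) = aeval A (adjP σ m φ) := by
  rw [Helper49.adjM_aeval, h.adj_eq_pow σ hm hA]
  unfold adjP
  rw [aeval_comp, map_pow, aeval_X]

end adj

section semisimple

variable {F : Type*} [Field F] [Finite F] {ι : Type*} [Fintype ι] [DecidableEq ι]

/-- polynomials in a matrix of order prime to the characteristic have squarefree minimal
polynomial -/
theorem squarefree_minpoly_aeval (p : ℕ) [Fact p.Prime] [CharP F p] (h : Matrix ι ι F) (m : ℕ)
    (hm : ¬ p ∣ m) (hh : h ^ m = 1) (φ : F[X]) : Squarefree (minpoly F (aeval h φ)) := by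
  have hmF : (m : F) ≠ 0 := by
    rw [Ne, CharP.cast_eq_zero_iff F p m]
    exact hm
  have hs : Module.End.IsSemisimple (Matrix.toLin' h) :=
    isSemisimple_toLin'_of_pow_eq_one h m hmF hh
  have h1 := (hs.aeval φ).minpoly_squarefree
  have h2 : aeval (Matrix.toLin' h) φ = Matrix.toLin' (aeval h φ) := by
    have := Polynomial.aeval_algHom_apply (Matrix.toLinAlgEquiv' (R := F) (n := ι)).toAlgHom h φ
    exact this
  rw [h2, Matrix.minpoly_toLin'] at h1
  exact h1

end semisimple

section twist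

variable {F : Type*} [Field F] {ι : Type*} [Fintype ι] [DecidableEq ι] (σ : F →+* F)

/-- orthogonal idempotents: powers of `ζ e₁ + e₂` -/
theorem idem_pow {R : Type*} [Ring R] [Algebra F R] (e₁ e₂ : R) (h12 : e₁ + e₂ = 1)
    (h1 : e₁ * e₁ = e₁) (h2 : e₂ * e₂ = e₂) (h12' : e₁ * e₂ = 0) (h21 : e₂ * e₁ = 0) (ζ : F)
    (k : ℕ) : (ζ • e₁ + e₂) ^ k = ζ ^ k • e₁ + e₂ := by
  induction k with
  | zero => rw [pow_zero, pow_zero, one_smul, h12]
  | succ k ih =>
    rw [pow_succ, ih]
    simp only [add_mul, mul_add, smul_mul_assoc, mul_smul_comm, smul_smul, h1, h12',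
      h21, h2, smul_zero, add_zero, zero_add, pow_succ]
    rw [mul_comm]

/-- **Twisting lemma**: a self-adjoint singular nonzero matrix with squarefree minimal
polynomial gives a non-scalar unitary polynomial in it of order dividing `r`. -/
theorem exists_unitary_twist (ζ : F) (r : ℕ) (hζr : ζ ^ r = 1) (hζ1 : ζ ≠ 1)
    (hζσ : σ ζ * ζ = 1) (S : Matrix ι ι F) (hadj : adjM σ S = S)
    (hsq : Squarefree (minpoly F S)) (hS0 : S ≠ 0) (v : ι → F) (hv : v ≠ 0)
    (hSv : S.mulVec v = 0) :
    ∃ ψ : F[X], IsU σ (aeval S ψ) ∧ (aeval S ψ) ^ r = 1 ∧ ¬ ∃ c : F, aeval S ψ = c • 1 := by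
  have hint : IsIntegral F S := Matrix.isIntegral S
  have hXdvd : (X : F[X]) ∣ minpoly F S := by
    by_contra hnd
    have hcop : IsCoprime (X : F[X]) (minpoly F S) :=
      (Polynomial.irreducible_X.coprime_iff_not_dvd).mpr hnd
    obtain ⟨a, b, hab⟩ := hcop
    have h1 := congrArg (aeval S) hab
    rw [map_add, map_mul, map_mul, minpoly.aeval, mul_zero, add_zero, aeval_X, map_one] at h1
    apply hv
    have h2 : (aeval S a * S).mulVec v = v := by rw [h1, Matrix.one_mulVec]
    rw [← Matrix.mulVec_mulVec, hSv, Matrix.mulVec_zero] at h2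
    exact h2.symm
  obtain ⟨ν, hν⟩ := hXdvd
  rw [hν] at hsq
  have hcop : IsCoprime (X : F[X]) ν := (squarefree_mul_iff.mp hsq).1.isCoprime
  obtain ⟨u, w, huw⟩ := hcop
  have hμS : aeval S (X * ν) = 0 := by rw [← hν, minpoly.aeval]
  obtain ⟨E, hE⟩ : ∃ E : Matrix ι ι F, E = aeval S (u * X) := ⟨_, rfl⟩
  obtain ⟨E', hE'⟩ : ∃ E' : Matrix ι ι F, E' = aeval S (w * ν) := ⟨_, rfl⟩
  have hsum : E' + E = 1 := by
    rw [hE, hE', ← map_add, add_comm, huw, map_one]
  have hEE' : E * E' = 0 := by
    rw [hE, hE', ← map_mul]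
    have h5 : u * X * (w * ν) = (X * ν) * (u * w) := by ring
    rw [h5, map_mul, hμS, zero_mul]
  have hE'E : E' * E = 0 := by
    rw [hE, hE', ← map_mul]
    have h5 : w * ν * (u * X) = (X * ν) * (u * w) := by ring
    rw [h5, map_mul, hμS, zero_mul]
  have hEidem : E * E = E := by
    have h5 : E * (E' + E) = E := by rw [hsum, mul_one]
    rw [mul_add, hEE', zero_add] at h5
    exact h5
  have hE'idem : E' * E' = E' := by
    have h5 : E' * (E' + E) = E' := by rw [hsum, mul_one]
    rw [mul_add, hE'E, add_zero] at h5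
    exact h5
  have hES : E * S = S := by
    have h5 : (E' + E) * S = S := by rw [hsum, one_mul]
    have h6 : E' * S = 0 := by
      rw [hE']
      have h7 : aeval S (w * ν) * S = aeval S ((X * ν) * w) := by
        have h8 : (X * ν) * w = (w * ν) * X := by ring
        rw [h8, map_mul (aeval S) (w * ν) X, aeval_X]
      rw [h7, map_mul, hμS, zero_mul]
    rw [add_mul, h6, zero_add] at h5
    exact h5
  have hEv : E.mulVec v = 0 := by
    rw [hE, map_mul, aeval_X, ← Matrix.mulVec_mulVec, hSv, Matrix.mulVec_zero]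
  have hE'ne : E' ≠ 0 := by
    intro h0
    rw [h0, zero_add] at hsum
    rw [hsum, Matrix.one_mulVec] at hEv
    exact hv hEv
  have hEne : E ≠ 0 := by
    intro h0
    rw [h0, zero_mul] at hES
    exact hS0 hES.symm
  -- the adjoint of `E`
  obtain ⟨E₁, hE₁⟩ : ∃ E₁ : Matrix ι ι F, E₁ = adjM σ E := ⟨_, rfl⟩
  have hE₁poly : E₁ = aeval S (u.map σ * X) := by
    rw [hE₁, hE, adjM_aeval, hadj, Polynomial.map_mul, Polynomial.map_X]
  have hcomm : ∀ a b : F[X], aeval S a * aeval S b = aeval S b * aeval S a := fun a b => by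
    rw [← map_mul, ← map_mul, mul_comm]
  have hcommEE₁ : E * E₁ = E₁ * E := by
    rw [hE₁poly, hE]
    exact hcomm _ _
  have hSE₁ : S * E₁ = S := by
    have h5 := congrArg (adjM σ) hES
    rw [adjM_mul, hadj, ← hE₁] at h5
    exact h5
  have hE₁S : E₁ * S = S := by
    have := hcomm (u.map σ * X) X
    rw [aeval_X, ← hE₁poly] at this
    rw [this, hSE₁]
  have h1 : E₁ = E * E₁ := by
    have h5 : E₁ = aeval S (u.map σ) * S := by
      rw [hE₁poly, map_mul, aeval_X]
    have h6 : E * (aeval S (u.map σ) * S) = aeval S (u.map σ) * (E * S) := by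
      rw [hE]
      have := hcomm (u * X) (u.map σ)
      rw [← mul_assoc, this, mul_assoc]
    rw [h5, h6, hES]
  have h2 : E = E₁ * E := by
    have h5 : E = aeval S u * S := by
      rw [hE, map_mul, aeval_X]
    have h6 : E₁ * (aeval S u * S) = aeval S u * (E₁ * S) := by
      rw [hE₁poly]
      have := hcomm (u.map σ * X) u
      rw [← mul_assoc, this, mul_assoc]
    conv_rhs => rw [h5, h6, hE₁S]
    exact h5
  have hEadj : adjM σ E = E := by
    rw [← hE₁, h1, hcommEE₁, ← h2]
  have hE'adj : adjM σ E' = E' := by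
    have h5 : E' = 1 - E := by rw [← hsum]; abel
    rw [h5, adjM_sub, adjM_one, hEadj]
  have hφ : aeval S (C ζ * (w * ν) + u * X) = ζ • E' + E := by
    rw [map_add, map_mul, aeval_C, ← hE, ← hE', Algebra.algebraMap_eq_smul_one, smul_mul_assoc,
      one_mul]
  refine ⟨C ζ * (w * ν) + u * X, ?_, ?_, ?_⟩
  · rw [hφ]
    unfold IsU
    rw [adjM_add, adjM_smul, hEadj, hE'adj]
    simp only [add_mul, mul_add, smul_mul_assoc, mul_smul_comm, smul_smul, hEidem, hE'idem,
      hEE', hE'E, smul_zero, add_zero, zero_add]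
    have hζσ' : ζ * σ ζ = 1 := by rw [mul_comm]; exact hζσ
    rw [hζσ', one_smul, hsum]
  · rw [hφ, idem_pow E' E hsum hE'idem hEidem hE'E hEE', hζr, one_smul, hsum]
  · rintro ⟨c, hc⟩
    rw [hφ] at hc
    have h5 : ζ • E' = c • E' := by
      have h6 := congrArg (fun X => X * E') hc
      simp only [add_mul, smul_mul_assoc, hE'idem, hEE', add_zero, one_mul] at h6
      exact h6
    have h7 : E = c • E := by
      have h6 := congrArg (fun X => X * E) hc
      simp only [add_mul, smul_mul_assoc, hEidem, hE'E, smul_zero, zero_add, one_mul] at h6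
      exact h6
    have h8 : (ζ - c) • E' = 0 := by rw [sub_smul, h5, sub_self]
    have h9 : (1 - c) • E = 0 := by rw [sub_smul, one_smul, ← h7, sub_self]
    have h10 : ζ = c := sub_eq_zero.mp ((smul_eq_zero.mp h8).resolve_right hE'ne)
    have h11 : (1 : F) = c := sub_eq_zero.mp ((smul_eq_zero.mp h9).resolve_right hEne)
    exact hζ1 (h10.trans h11.symm)

end twist

end Cfsg.Agent.Lib.Helper49
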