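import Mathlib
import Cfsg.Agent.Lib.Helper49.UBase
import Cfsg.Agent.Lib.Helper49.UArith

set_option autoImplicit false
set_option linter.style.haveILetI false
set_option linter.unusedSectionVars false

/-!
Semisimple unitary matrices with irreducible minimal polynomial lie in a Coxeter torus.
-/

namespace Cfsg.Agent.Lib.Helper49

open Polynomial Cfsg.Agent.Lib.Helper47

section irr

variable {F : Type*} [Field F] [Fintype F]

/-- A monic irreducible polynomial `μ` which is "self-dual" (the inverse of its root is a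
root of the conjugate polynomial) has odd degree `d`, and its root has order dividing
`q ^ d + 1`. -/
theorem root_pow_of_selfdual (p a q : ℕ) [Fact p.Prime] [CharP F p] (hq : q = p ^ a)
    (hF : Fintype.card F = q ^ 2) (σ : F →+* F) (hσq : ∀ x, σ x = x ^ q)
    (μ : F[X]) (hmon : μ.Monic) [Fact (Irreducible μ)] (ρ : AdjoinRoot μ)
    (hρ : ρ * AdjoinRoot.root μ = 1) (hρμ : aeval ρ (μ.map σ) = 0) :
    Odd μ.natDegree ∧ (AdjoinRoot.root μ) ^ (q ^ μ.natDegree + 1) = 1 := by
  classical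
  have hpp : p.Prime := Fact.out
  have hne : μ ≠ 0 := hmon.ne_zero
  have hq2 : 2 ≤ q := by
    have h1 : 1 < Fintype.card F := Fintype.one_lt_card
    rw [hF] at h1
    by_contra hcon
    have : q = 0 ∨ q = 1 := by omega
    rcases this with h | h <;> rw [h] at h1 <;> omega
  haveI : Module.Finite F (AdjoinRoot μ) := (AdjoinRoot.powerBasis hne).finite
  haveI : Finite (AdjoinRoot μ) := Module.finite_of_finite F
  have hfr : Module.finrank F (AdjoinRoot μ) = μ.natDegree := by
    rw [(AdjoinRoot.powerBasis hne).finrank, AdjoinRoot.powerBasis_dim]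
  haveI : CharP (AdjoinRoot μ) p :=
    charP_of_injective_algebraMap (algebraMap F (AdjoinRoot μ)).injective p
  haveI : ExpChar (AdjoinRoot μ) p := ExpChar.prime hpp
  have hσσ : ∀ x, σ (σ x) = x := by
    intro x
    rw [hσq, hσq, ← pow_mul, ← sq, ← hF, FiniteField.pow_card]
  obtain ⟨lam, hlam⟩ : ∃ lam : AdjoinRoot μ, lam = AdjoinRoot.root μ := ⟨_, rfl⟩
  rw [← hlam] at hρ ⊢
  have hFr : ∀ (P : F[X]) (y : AdjoinRoot μ), (aeval y P) ^ q = aeval (y ^ q) (P.map σ) := by
    intro P y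
    have h1 := Polynomial.hom_eval₂ P (algebraMap F (AdjoinRoot μ))
      (iterateFrobenius (AdjoinRoot μ) p a) y
    rw [iterateFrobenius_def, iterateFrobenius_def, ← hq] at h1
    rw [aeval_def, h1, aeval_def, Polynomial.eval₂_map]
    congr 1
    ext c
    simp only [RingHom.comp_apply, iterateFrobenius_def, ← hq, hσq, map_pow]
  have hlamq : aeval (ρ ^ q) μ = 0 := by
    have h1 := hFr (μ.map σ) ρ
    rw [hρμ, zero_pow (by omega), Polynomial.map_map] at h1
    have h2 : σ.comp σ = RingHom.id F := RingHom.ext hσσ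
    rw [h2, Polynomial.map_id] at h1
    exact h1.symm
  obtain ⟨ψ, hψ⟩ : ∃ ψ : AdjoinRoot μ →ₐ[F] AdjoinRoot μ, ψ (AdjoinRoot.root μ) = ρ ^ q :=
    ⟨AdjoinRoot.liftAlgHom μ (Algebra.ofId F (AdjoinRoot μ)) (ρ ^ q) hlamq,
      AdjoinRoot.liftAlgHom_root _ _ _ _⟩
  obtain ⟨i, hi⟩ := (FiniteField.bijective_frobeniusAlgHom_pow F (AdjoinRoot μ)).2 ψ
  have hi' : lam ^ (Fintype.card F ^ (i : ℕ)) = ρ ^ q := by
    have h1 := congrArg (fun f : AdjoinRoot μ →ₐ[F] AdjoinRoot μ => f (AdjoinRoot.root μ)) hi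
    simp only [AlgHom.coe_pow, FiniteField.coe_frobeniusAlgHom, pow_iterate] at h1
    rw [hψ] at h1
    rw [hlam]
    exact h1
  have hi2 : (i : ℕ) < μ.natDegree := lt_of_lt_of_eq i.2 hfr
  have hrel : lam ^ (Fintype.card F ^ (i : ℕ)) * lam ^ q = 1 := by
    rw [hi', ← mul_pow, hρ, one_pow]
  have hFrinj : ∀ y : AdjoinRoot μ, y ^ q = 1 → y = 1 := by
    intro y hy
    apply iterateFrobenius_inj (AdjoinRoot μ) p a
    rw [iterateFrobenius_def, iterateFrobenius_def, ← hq, hy, one_pow]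
  -- an odd `s < 2 d` with `lam ^ (q ^ s + 1) = 1`
  obtain ⟨s, hsodd, hs2, hs⟩ : ∃ s : ℕ, Odd s ∧ s < 2 * μ.natDegree ∧ lam ^ (q ^ s + 1) = 1 := by
    rcases Nat.eq_zero_or_pos (i : ℕ) with h0 | hpos
    · refine ⟨1, odd_one, by omega, ?_⟩
      rw [h0, pow_zero, pow_one] at hrel
      rw [pow_one, add_comm, pow_add, pow_one]
      exact hrel
    · refine ⟨2 * (i : ℕ) - 1, ?_, by omega, ?_⟩
      · exact ⟨(i : ℕ) - 1, by omega⟩
      · apply hFrinj
        rw [← pow_mul, add_mul, one_mul, ← pow_succ]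
        have h1 : 2 * (i : ℕ) - 1 + 1 = 2 * (i : ℕ) := by omega
        rw [h1, pow_add, ← hrel, hF, ← pow_mul]
  have hfix : lam ^ (Fintype.card F ^ s) = lam := by
    have h1 : Fintype.card F ^ s = (q ^ s + 1) * (q ^ s - 1) + 1 := by
      rw [hF, ← pow_mul, mul_comm 2 s, pow_mul]
      have h2 : 1 ≤ q ^ s := Nat.one_le_pow _ _ (by omega)
      obtain ⟨t, ht⟩ : ∃ t, q ^ s = t + 1 := ⟨q ^ s - 1, by omega⟩
      rw [ht, Nat.add_sub_cancel]
      ring
    rw [h1, pow_succ, pow_mul, hs, one_pow, one_mul]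
  have hFrs : (FiniteField.frobeniusAlgHom F (AdjoinRoot μ)) ^ s = 1 := by
    apply AdjoinRoot.algHom_ext
    simp only [AlgHom.coe_pow, FiniteField.coe_frobeniusAlgHom, pow_iterate, AlgHom.one_apply]
    rw [← hlam]
    exact hfix
  have hds : μ.natDegree ∣ s := by
    rw [← hfr, ← FiniteField.orderOf_frobeniusAlgHom F (AdjoinRoot μ)]
    exact orderOf_dvd_of_pow_eq_one hFrs
  obtain ⟨j, hj⟩ := hds
  have hj1 : j = 1 := by
    rcases Nat.lt_or_ge j 2 with h1 | h1
    · have h2 : j ≠ 0 := by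
        rintro rfl
        rw [mul_zero] at hj
        rw [hj] at hsodd
        exact absurd hsodd (by decide)
      omega
    · exfalso
      have : 2 * μ.natDegree ≤ μ.natDegree * j := by
        rw [mul_comm]
        exact Nat.mul_le_mul_left _ h1
      omega
  rw [hj1, mul_one] at hj
  rw [← hj]
  exact ⟨hsodd, hs⟩

/-- A unitary matrix of determinant one with irreducible minimal polynomial has order
dividing `usum q n`. -/
theorem pow_usum_of_irr (p a q : ℕ) [Fact p.Prime] [CharP F p] (hq : q = p ^ a)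
    (hF : Fintype.card F = q ^ 2) (σ : F →+* F) (hσq : ∀ x, σ x = x ^ q) {n : ℕ}
    (h : Matrix (Fin n) (Fin n) F) (hU : IsU σ h) (hdet : h.det = 1)
    (hirr : Irreducible (minpoly F h)) : h ^ usum q n = 1 := by
  classical
  haveI : Fact (Irreducible (minpoly F h)) := ⟨hirr⟩
  have hmon : (minpoly F h).Monic := minpoly.monic (Matrix.isIntegral h)
  have hq2 : 2 ≤ q := by
    have h1 : 1 < Fintype.card F := Fintype.one_lt_card
    rw [hF] at h1
    by_contra hcon
    have : q = 0 ∨ q = 1 := by omega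
    rcases this with h | h <;> rw [h] at h1 <;> omega
  have hX : ¬ (X : F[X]) ∣ minpoly F h := by
    rintro ⟨c, hc⟩
    have hc0 : c ≠ 0 := by
      rintro rfl
      rw [mul_zero] at hc
      exact hmon.ne_zero hc
    have h1 : aeval h c = 0 := by
      have h2 : aeval h (X * c) = 0 := by rw [← hc, minpoly.aeval]
      rw [map_mul, aeval_X] at h2
      have h3 := congrArg (fun M => adjM σ h * M) h2
      simp only [← mul_assoc, mul_zero] at h3
      rw [hU, one_mul] at h3
      exact h3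
    have h4 := minpoly.dvd F h h1
    rw [hc] at h4
    have h5 := natDegree_le_of_dvd h4 hc0
    rw [natDegree_mul X_ne_zero hc0, natDegree_X] at h5
    omega
  obtain ⟨r, s, hrs⟩ := (Polynomial.irreducible_X.coprime_iff_not_dvd).mpr hX
  have hr : aeval h r * h = 1 := by
    have h1 := congrArg (aeval h) hrs
    rw [map_add, map_mul, map_mul, minpoly.aeval, mul_zero, add_zero, aeval_X, map_one] at h1
    exact h1
  have hadj : adjM σ h = aeval h r := by
    calc adjM σ h = (aeval h r * h) * adjM σ h := by rw [hr, one_mul]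
      _ = aeval h r := by rw [mul_assoc, hU.mul_adj, mul_one]
  have hρ : AdjoinRoot.mk (minpoly F h) r * AdjoinRoot.root (minpoly F h) = 1 := by
    have h1 : AdjoinRoot.mk (minpoly F h) (r * X + s * minpoly F h) = 1 := by rw [hrs, map_one]
    rw [map_add, map_mul, map_mul, AdjoinRoot.mk_self, mul_zero, add_zero, AdjoinRoot.mk_X] at h1
    exact h1
  have hρμ : aeval (AdjoinRoot.mk (minpoly F h) r) ((minpoly F h).map σ) = 0 := by
    have h1 : aeval h (((minpoly F h).map σ).comp r) = 0 := by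
      rw [aeval_comp, ← hadj, ← adjM_aeval, minpoly.aeval, adjM_zero]
    have h2 := minpoly.dvd F h h1
    have h3 : AdjoinRoot.mk (minpoly F h) (((minpoly F h).map σ).comp r) = 0 :=
      AdjoinRoot.mk_eq_zero.mpr h2
    rw [← AdjoinRoot.aeval_eq, aeval_comp, AdjoinRoot.aeval_eq] at h3
    exact h3
  obtain ⟨hdodd, hroot1⟩ := root_pow_of_selfdual p a q hq hF σ hσq (minpoly F h) hmon
    (AdjoinRoot.mk (minpoly F h) r) hρ hρμ
  obtain ⟨e, he⟩ := charpoly_eq_minpoly_pow h hirr
  obtain ⟨d, hd⟩ : ∃ d, d = (minpoly F h).natDegree := ⟨_, rfl⟩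
  rw [← hd] at hdodd hroot1
  have hn : n = e * d := by
    have h1 := congrArg natDegree he
    rw [Matrix.charpoly_natDegree_eq_dim, Fintype.card_fin, natDegree_pow, ← hd] at h1
    exact h1
  obtain ⟨ν, hν⟩ : ∃ ν : F, ν = (-1) ^ d * (minpoly F h).coeff 0 := ⟨_, rfl⟩
  have hroot := adjoinRoot_root_pow (minpoly F h) hmon
  rw [← hd, ← hν, hF] at hroot
  have hνe : ν ^ e = 1 := by
    have h5 := Matrix.det_eq_sign_charpoly_coeff h
    rw [hdet, Fintype.card_fin, he, coeff_zero_eq_eval_zero, eval_pow,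
      ← coeff_zero_eq_eval_zero] at h5
    rw [hν, mul_pow, ← pow_mul, mul_comm d e, ← hn]
    exact h5.symm
  have h2 : (AdjoinRoot.root (minpoly F h)) ^ (e * ∑ i ∈ Finset.range d, (q ^ 2) ^ i) = 1 := by
    rw [mul_comm, pow_mul, hroot, ← map_pow, hνe, map_one]
  have ho := usum_dvd_of q d e _ hq2 hdodd (orderOf_dvd_of_pow_eq_one hroot1)
    (orderOf_dvd_of_pow_eq_one h2)
  have h3 : (AdjoinRoot.root (minpoly F h)) ^ usum q n = AdjoinRoot.of (minpoly F h) 1 := by
    have hn' : d * e = n := by rw [hn, mul_comm]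
    rw [hn'] at ho
    rw [map_one]
    exact orderOf_dvd_iff_pow_eq_one.mp ho
  obtain ⟨g', hg'⟩ := dvd_X_pow_sub_C_of_root (minpoly F h) _ _ h3
  have h6 := congrArg (aeval h) hg'
  rw [map_mul, minpoly.aeval, zero_mul] at h6
  simp only [map_sub, map_pow, aeval_X, map_one] at h6
  exact sub_eq_zero.mp h6

end irr

end Cfsg.Agent.Lib.Helper49
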