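import Mathlib
import Cfsg.Agent.Lib.Helper49.UDich

set_option autoImplicit false
set_option linter.style.haveILetI false
set_option linter.unusedSectionVars false

/-!
Semisimple unitary matrices whose minimal polynomial is a product of two dual irreducible
factors: the order divides `usum q n`.
-/

namespace Cfsg.Agent.Lib.Helper49

open Polynomial Cfsg.Agent.Lib.Helper47

section PL

variable {F : Type*} [Field F] [Fintype F]

/-- A matrix with irreducible minimal polynomial: the "norm" power is the determinant. -/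
theorem mat_pow_eq_det {n : ℕ} (A : Matrix (Fin n) (Fin n) F)
    (hirr : Irreducible (minpoly F A)) :
    A ^ (∑ i ∈ Finset.range n, Fintype.card F ^ i) = A.det • 1 := by
  haveI : Fact (Irreducible (minpoly F A)) := ⟨hirr⟩
  have hmon : (minpoly F A).Monic := minpoly.monic (Matrix.isIntegral A)
  obtain ⟨e, he⟩ := charpoly_eq_minpoly_pow A hirr
  obtain ⟨d, hd⟩ : ∃ d, d = (minpoly F A).natDegree := ⟨_, rfl⟩
  have hn : n = e * d := by
    have h1 := congrArg natDegree he
    rw [Matrix.charpoly_natDegree_eq_dim, Fintype.card_fin, natDegree_pow, ← hd] at h1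
    exact h1
  obtain ⟨ν, hν⟩ : ∃ ν : F, ν = (-1) ^ d * (minpoly F A).coeff 0 := ⟨_, rfl⟩
  have hroot := adjoinRoot_root_pow (minpoly F A) hmon
  rw [← hd, ← hν] at hroot
  have hνe : ν ^ e = A.det := by
    have h5 := Matrix.det_eq_sign_charpoly_coeff A
    rw [Fintype.card_fin, he, coeff_zero_eq_eval_zero, eval_pow,
      ← coeff_zero_eq_eval_zero] at h5
    rw [hν, mul_pow, ← pow_mul, mul_comm d e, ← hn]
    exact h5.symm
  have hνq : ∀ k : ℕ, ν ^ (Fintype.card F ^ k) = ν := fun k => FiniteField.pow_card_pow k ν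
  obtain ⟨M, hM⟩ : ∃ M, M = ∑ i ∈ Finset.range n, Fintype.card F ^ i := ⟨_, rfl⟩
  have hrootM : (AdjoinRoot.root (minpoly F A)) ^ M = AdjoinRoot.of (minpoly F A) A.det := by
    have hMe : M = (∑ i ∈ Finset.range d, Fintype.card F ^ i) *
        ∑ j ∈ Finset.range e, (Fintype.card F ^ d) ^ j := by
      rw [hM, ← geom_prod]
      congr 2
      rw [hn, mul_comm]
    rw [hMe, pow_mul, hroot, ← map_pow, ← Finset.prod_pow_eq_pow_sum]
    have h7 : ∏ j ∈ Finset.range e, ν ^ ((Fintype.card F ^ d) ^ j) = ν ^ e := by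
      rw [Finset.prod_congr rfl (fun j _ => by rw [← pow_mul, hνq]), Finset.prod_const,
        Finset.card_range]
    rw [h7, hνe]
  rw [← hM]
  obtain ⟨g', hg'⟩ := dvd_X_pow_sub_C_of_root (minpoly F A) _ _ hrootM
  have h6 := congrArg (aeval A) hg'
  rw [map_mul, minpoly.aeval, zero_mul] at h6
  simp only [map_sub, map_pow, aeval_X, aeval_C] at h6
  rw [Algebra.algebraMap_eq_smul_one] at h6
  exact sub_eq_zero.mp h6

/-- The same for endomorphisms of a finite-dimensional space. -/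
theorem end_pow_eq_det {W : Type*} [AddCommGroup W] [Module F W] [FiniteDimensional F W]
    (S : Module.End F W) (hirr : Irreducible (minpoly F S)) :
    S ^ (∑ i ∈ Finset.range (Module.finrank F W), Fintype.card F ^ i) = LinearMap.det S • 1 := by
  classical
  let b := Module.finBasis F W
  have h1 : minpoly F (LinearMap.toMatrixAlgEquiv b S) = minpoly F S :=
    minpoly.algEquiv_eq (LinearMap.toMatrixAlgEquiv b) S
  have h2 := mat_pow_eq_det (LinearMap.toMatrixAlgEquiv b S) (h1 ▸ hirr)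
  apply (LinearMap.toMatrixAlgEquiv b).injective
  rw [map_pow, h2, map_smul, map_one]
  congr 1
  exact LinearMap.det_toMatrix b S

end PL

section aux

variable {F : Type*} [Field F]

/-- generalized inverse: a matrix with squarefree minimal polynomial is von Neumann regular
inside its own polynomial algebra -/
theorem exists_ginv {ι : Type*} [Fintype ι] [DecidableEq ι] (S : Matrix ι ι F)
    (hsq : Squarefree (minpoly F S)) : ∃ u : F[X], aeval S u * S * S = S := by
  have key : ∃ u w ν : F[X], u * X + w * ν = 1 ∧ aeval S (X * ν) = 0 := by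
    by_cases hX : (X : F[X]) ∣ minpoly F S
    · obtain ⟨ν, hν⟩ := hX
      rw [hν] at hsq
      obtain ⟨u, w, huw⟩ := (squarefree_mul_iff.mp hsq).1.isCoprime
      exact ⟨u, w, ν, huw, by rw [← hν, minpoly.aeval]⟩
    · obtain ⟨u, w, huw⟩ := (Polynomial.irreducible_X.coprime_iff_not_dvd).mpr hX
      exact ⟨u, w, minpoly F S, huw, by rw [map_mul, minpoly.aeval, mul_zero]⟩
  obtain ⟨u, w, ν, huw, hν⟩ := key
  refine ⟨u, ?_⟩
  have h1 : u * X * X + w * (X * ν) = X := by
    have h2 : u * X * X + w * (X * ν) = (u * X + w * ν) * X := by ring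
    rw [h2, huw, one_mul]
  have h3 := congrArg (aeval S) h1
  rw [map_add, map_mul, map_mul, map_mul, hν, mul_zero, add_zero, aeval_X] at h3
  exact h3

variable [Fintype F]

theorem rank_le_rank_map (σ : F →+* F) {n : ℕ} (E : Matrix (Fin n) (Fin n) F) :
    E.rank ≤ (E.map σ).rank := by
  have hq1 : 1 < Nat.card F := by
    rw [Nat.card_eq_fintype_card]
    exact Fintype.one_lt_card
  have key : ∀ y : LinearMap.range E.mulVecLin,
      (fun i => σ (y.1 i)) ∈ LinearMap.range (E.map σ).mulVecLin := by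
    rintro ⟨y, x, rfl⟩
    refine ⟨fun j => σ (x j), ?_⟩
    funext i
    simp [Matrix.mulVec, dotProduct, map_sum, map_mul]
  have h1 : Nat.card (LinearMap.range E.mulVecLin) ≤
      Nat.card (LinearMap.range (E.map σ).mulVecLin) := by
    apply Nat.card_le_card_of_injective
      (fun y : LinearMap.range E.mulVecLin =>
        (⟨fun i => σ (y.1 i), key y⟩ : LinearMap.range (E.map σ).mulVecLin))
    intro y y' hyy
    apply Subtype.ext
    funext i
    have h2 := congrFun (congrArg Subtype.val hyy) i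
    exact σ.injective h2
  rw [Module.natCard_eq_pow_finrank (K := F) (V := LinearMap.range E.mulVecLin),
    Module.natCard_eq_pow_finrank (K := F) (V := LinearMap.range (E.map σ).mulVecLin)] at h1
  exact (Nat.pow_le_pow_iff_right hq1).mp h1

theorem rank_adjM (σ : F →+* F) (hσ : ∀ x, σ (σ x) = x) {n : ℕ}
    (E : Matrix (Fin n) (Fin n) F) : (adjM σ E).rank = E.rank := by
  unfold adjM
  rw [Matrix.rank_transpose]
  apply le_antisymm
  · have h1 := rank_le_rank_map σ (E.map σ)
    have h2 : (E.map σ).map σ = E := by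
      ext i j
      simp [hσ]
    rw [h2] at h1
    exact h1
  · exact rank_le_rank_map σ E

end aux

section pair

variable {F : Type*} [Field F] [Fintype F]

omit [Fintype F] in
theorem idem_pow₂ {R : Type*} [Ring R] [Algebra F R] (e₁ e₂ : R) (h12 : e₁ + e₂ = 1)
    (h1 : e₁ * e₁ = e₁) (h2 : e₂ * e₂ = e₂) (h12' : e₁ * e₂ = 0) (h21 : e₂ * e₁ = 0) (a b : F)
    (k : ℕ) : (a • e₁ + b • e₂) ^ k = a ^ k • e₁ + b ^ k • e₂ := by
  induction k with
  | zero => rw [pow_zero, pow_zero, pow_zero, one_smul, one_smul, h12]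
  | succ k ih =>
    rw [pow_succ, ih]
    simp only [add_mul, mul_add, smul_mul_assoc, mul_smul_comm, smul_smul, h1, h12',
      h21, h2, smul_zero, add_zero, zero_add, pow_succ]
    rw [mul_comm a, mul_comm b]

/-- A semisimple unitary matrix of determinant one such that `f(h) f(h)^* = 0` for an
irreducible polynomial `f` with `f(h) ≠ 0`: the order divides `usum q n`. -/
theorem pow_usum_of_pair (p a q : ℕ) [Fact p.Prime] [CharP F p] (hq : q = p ^ a)
    (hF : Fintype.card F = q ^ 2) (σ : F →+* F) (hσq : ∀ x, σ x = x ^ q) {n : ℕ}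
    (h : Matrix (Fin n) (Fin n) F) (hU : IsU σ h) (hdet : h.det = 1) (m : ℕ) (hm : ¬ p ∣ m)
    (hh : h ^ m = 1) (f : F[X]) (hf : Irreducible f)
    (hS : aeval h f * adjM σ (aeval h f) = 0) (hT : aeval h f ≠ 0) :
    h ^ usum q n = 1 := by
  classical
  have hq2 : 2 ≤ q := by
    have h1 : 1 < Fintype.card F := Fintype.one_lt_card
    rw [hF] at h1
    by_contra hcon
    have : q = 0 ∨ q = 1 := by omega
    rcases this with h | h <;> rw [h] at h1 <;> omega
  have hσσ : ∀ x, σ (σ x) = x := by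
    intro x
    rw [hσq, hσq, ← pow_mul, ← sq, ← hF, FiniteField.pow_card]
  have hm0 : m ≠ 0 := by
    rintro rfl
    exact hm (dvd_zero p)
  have hc : ∀ a b : F[X], aeval h a * aeval h b = aeval h b * aeval h a := fun a b => by
    rw [← map_mul, ← map_mul, mul_comm]
  obtain ⟨fa, hfa⟩ : ∃ fa : F[X], fa = adjP σ m f := ⟨_, rfl⟩
  have hP : adjM σ (aeval h f) = aeval h fa := by
    rw [hfa]
    exact hU.adjM_aeval σ hm0 hh f
  rw [hP] at hS
  have hPT : adjM σ (aeval h fa) = aeval h f := by rw [← hP, adjM_adjM σ hσσ]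
  obtain ⟨uT, huT⟩ := exists_ginv (aeval h f) (squarefree_minpoly_aeval p h m hm hh f)
  obtain ⟨uP, huP⟩ := exists_ginv (aeval h fa) (squarefree_minpoly_aeval p h m hm hh fa)
  obtain ⟨ψT, hψT⟩ : ∃ ψT : F[X], ψT = uT.comp f := ⟨_, rfl⟩
  obtain ⟨ψP, hψP⟩ : ∃ ψP : F[X], ψP = uP.comp fa := ⟨_, rfl⟩
  have R1 : aeval h (f * fa) = 0 := by rw [map_mul]; exact hS
  have R2 : aeval h (ψT * f * f - f) = 0 := by
    rw [map_sub, map_mul, map_mul, hψT, aeval_comp, huT, sub_self]
  have R3 : aeval h (ψP * fa * fa - fa) = 0 := by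
    rw [map_sub, map_mul, map_mul, hψP, aeval_comp, huP, sub_self]
  have hcop : IsCoprime f fa := by
    rw [hf.coprime_iff_not_dvd]
    rintro ⟨c, hc'⟩
    apply hT
    have h1 : aeval h (fa * fa) = 0 := by
      have e1 : fa * fa = (f * fa) * c := by
        calc fa * fa = (f * c) * fa := by rw [← hc']
          _ = (f * fa) * c := by ring
      rw [e1, map_mul, R1, zero_mul]
    have h2 : aeval h fa = 0 := by
      have h3 := R3
      rw [map_sub, mul_assoc, map_mul, h1, mul_zero, zero_sub, neg_eq_zero] at h3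
      exact h3
    rw [← hPT, h2, adjM_zero]
  obtain ⟨a', b', hab⟩ := hcop
  obtain ⟨e, he⟩ : ∃ e : F[X], e = fa * ψP := ⟨_, rfl⟩
  obtain ⟨e₂, he₂⟩ : ∃ e₂ : F[X], e₂ = f * ψT := ⟨_, rfl⟩
  have Ree : aeval h (e * e - e) = 0 := by
    have e1 : e * e - e = ψP * (ψP * fa * fa - fa) := by rw [he]; ring
    rw [e1, map_mul, R3, mul_zero]
  have Re₂e₂ : aeval h (e₂ * e₂ - e₂) = 0 := by
    have e1 : e₂ * e₂ - e₂ = ψT * (ψT * f * f - f) := by rw [he₂]; ring
    rw [e1, map_mul, R2, mul_zero]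
  have Ree₂ : aeval h (e * e₂) = 0 := by
    have e1 : e * e₂ = (ψP * ψT) * (f * fa) := by rw [he, he₂]; ring
    rw [e1, map_mul, R1, mul_zero]
  have Rsum : aeval h (e + e₂ - 1) = 0 := by
    have e1 : e + e₂ - 1 = (a' * f + b' * fa) * (e + e₂ - 1) := by rw [hab, one_mul]
    have e2 : (a' * f + b' * fa) * (e + e₂ - 1) =
        a' * (ψP * (f * fa) + (ψT * f * f - f)) +
          b' * ((ψP * fa * fa - fa) + ψT * (f * fa)) := by
      rw [he, he₂]; ring
    rw [e1, e2]
    simp only [map_add, map_mul, R1, R2, R3, mul_zero, add_zero]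
  obtain ⟨E, hE⟩ : ∃ E : Matrix (Fin n) (Fin n) F, E = aeval h e := ⟨_, rfl⟩
  obtain ⟨E₂, hE₂⟩ : ∃ E₂ : Matrix (Fin n) (Fin n) F, E₂ = aeval h e₂ := ⟨_, rfl⟩
  have hEE : E * E = E := by
    have h1 := Ree
    rw [map_sub, map_mul, ← hE] at h1
    exact sub_eq_zero.mp h1
  have hE₂E₂ : E₂ * E₂ = E₂ := by
    have h1 := Re₂e₂
    rw [map_sub, map_mul, ← hE₂] at h1
    exact sub_eq_zero.mp h1
  have hEE₂ : E * E₂ = 0 := by
    have h1 := Ree₂
    rw [map_mul, ← hE, ← hE₂] at h1
    exact h1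
  have hE₂E : E₂ * E = 0 := by
    rw [hE, hE₂, hc, ← hE, ← hE₂]
    exact hEE₂
  have hsum : E + E₂ = 1 := by
    have h1 := Rsum
    rw [map_sub, map_add, ← hE, ← hE₂, map_one] at h1
    exact sub_eq_zero.mp h1
  have hTE : aeval h f * E = 0 := by
    rw [hE, ← map_mul]
    have e1 : f * e = ψP * (f * fa) := by rw [he]; ring
    rw [e1, map_mul, R1, mul_zero]
  have hPE : aeval h fa * E = aeval h fa := by
    have h1 : aeval h (fa * e - fa) = 0 := by
      have e1 : fa * e - fa = ψP * fa * fa - fa := by rw [he]; ring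
      rw [e1, R3]
    rw [map_sub, map_mul, ← hE] at h1
    exact sub_eq_zero.mp h1
  have hE₂T : E₂ * aeval h f = aeval h f := by
    have h1 : aeval h (e₂ * f - f) = 0 := by
      have e1 : e₂ * f - f = ψT * f * f - f := by rw [he₂]; ring
      rw [e1, R2]
    rw [map_sub, map_mul, ← hE₂] at h1
    exact sub_eq_zero.mp h1
  -- the adjoint of `E` is `E₂`
  have hEadj : adjM σ E = E₂ := by
    obtain ⟨Y, hY⟩ : ∃ Y : Matrix (Fin n) (Fin n) F, Y = adjM σ E := ⟨_, rfl⟩
    rw [← hY]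
    have hYpoly : Y = aeval h (adjP σ m e) := by
      rw [hY, hE]
      exact hU.adjM_aeval σ hm0 hh e
    have hYT : Y * aeval h f = aeval h f := by
      have h1 := congrArg (adjM σ) hPE
      rw [adjM_mul, hPT, ← hY] at h1
      exact h1
    have hYE₂ : Y * E₂ = E₂ := by
      have h1 : E₂ = aeval h f * aeval h ψT := by rw [hE₂, he₂, map_mul]
      rw [h1, ← mul_assoc, hYT]
    have hE₂Y : E₂ * Y = Y := by
      have h1 : Y = aeval h (adjP σ m ψP) * aeval h f := by
        rw [hY, hE, he, map_mul, adjM_mul, hPT, hU.adjM_aeval σ hm0 hh ψP]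
      have h2 : E₂ * (aeval h (adjP σ m ψP) * aeval h f) =
          aeval h (adjP σ m ψP) * (E₂ * aeval h f) := by
        rw [← mul_assoc, ← mul_assoc, hE₂, hc]
      conv_lhs => rw [h1, h2, hE₂T]
      exact h1.symm
    have hcomm : Y * E₂ = E₂ * Y := by
      rw [hYpoly, hE₂]
      exact hc _ _
    rw [← hE₂Y, ← hcomm, hYE₂]
  have hE₂adj : adjM σ E₂ = E := by rw [← hEadj, adjM_adjM σ hσσ]
  obtain ⟨m', rfl⟩ : ∃ m', m = m' + 1 := ⟨m - 1, by omega⟩
  have Rm : aeval h (X ^ (m' + 1) - 1 : F[X]) = 0 := by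
    rw [map_sub, map_pow, aeval_X, hh, map_one, sub_self]
  obtain ⟨h₁, hh₁⟩ : ∃ h₁ : Matrix (Fin n) (Fin n) F, h₁ = aeval h (X * e + e₂) := ⟨_, rfl⟩
  obtain ⟨h₂, hh₂⟩ : ∃ h₂ : Matrix (Fin n) (Fin n) F, h₂ = aeval h (e + X * e₂) := ⟨_, rfl⟩
  have h12 : h₁ * h₂ = h := by
    have h1 : aeval h ((X * e + e₂) * (e + X * e₂) - X) = 0 := by
      have e1 : (X * e + e₂) * (e + X * e₂) - X =
          X * (e * e - e) + (X ^ 2 + 1) * (e * e₂) + X * (e₂ * e₂ - e₂) + X * (e + e₂ - 1) := by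
        ring
      rw [e1]
      simp only [map_add, map_mul, Ree, Ree₂, Re₂e₂, Rsum, mul_zero, add_zero]
    rw [map_sub, map_mul, ← hh₁, ← hh₂, aeval_X] at h1
    exact sub_eq_zero.mp h1
  have hadjh : adjM σ h = h ^ m' := by
    have := hU.adj_eq_pow σ hm0 hh
    rw [Nat.add_sub_cancel] at this
    exact this
  have hadj1 : adjM σ h₁ = aeval h (e₂ * X ^ m' + e) := by
    rw [hh₁, map_add, map_mul, aeval_X, ← hE, ← hE₂, adjM_add, adjM_mul, hEadj, hE₂adj, hadjh,
      map_add, map_mul, map_pow, aeval_X, ← hE, ← hE₂]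
  have hadj12 : adjM σ h₁ * h₂ = 1 := by
    have h1 : aeval h ((e₂ * X ^ m' + e) * (e + X * e₂) - 1) = 0 := by
      have e1 : (e₂ * X ^ m' + e) * (e + X * e₂) - 1 =
          (X ^ m' + X) * (e * e₂) + X ^ (m' + 1) * (e₂ * e₂ - e₂) + (X ^ (m' + 1) - 1) * e₂ +
            (e * e - e) + (e + e₂ - 1) := by
        ring
      rw [e1]
      simp only [map_add, map_mul, Ree, Ree₂, Re₂e₂, Rsum, Rm, mul_zero, zero_mul, add_zero]
    rw [map_sub, map_mul, ← hadj1, ← hh₂, map_one] at h1
    exact sub_eq_zero.mp h1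
  obtain ⟨δ, hδ⟩ : ∃ δ : F, δ = h₁.det := ⟨_, rfl⟩
  have hδ2 : δ * h₂.det = 1 := by rw [hδ, ← Matrix.det_mul, h12, hdet]
  have hσδ : σ δ = δ := by
    have h1 : (adjM σ h₁).det = σ δ := by
      unfold adjM
      rw [Matrix.det_transpose, hδ, RingHom.map_det]
      rfl
    have h2 : σ δ * h₂.det = 1 := by rw [← h1, ← Matrix.det_mul, hadj12, Matrix.det_one]
    calc σ δ = σ δ * (δ * h₂.det) := by rw [hδ2, mul_one]
      _ = δ * (σ δ * h₂.det) := by ring
      _ = δ := by rw [h2, mul_one]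
  have hδ0 : δ ≠ 0 := by
    rintro rfl
    rw [zero_mul] at hδ2
    exact zero_ne_one hδ2
  have hδq : δ ^ (q - 1) = 1 := by
    have h1 : δ * δ ^ (q - 1) = δ * 1 := by
      rw [← pow_succ', Nat.sub_add_cancel (by omega), ← hσq, hσδ, mul_one]
    exact mul_left_cancel₀ hδ0 h1
  -- the two subspaces
  obtain ⟨W, hW⟩ : ∃ W : Submodule F (Fin n → F), W = LinearMap.range E.mulVecLin := ⟨_, rfl⟩
  obtain ⟨U, hUU⟩ : ∃ U : Submodule F (Fin n → F), U = LinearMap.range E₂.mulVecLin := ⟨_, rfl⟩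
  have hmemW : ∀ x : Fin n → F, x ∈ W ↔ E.mulVec x = x := by
    intro x
    rw [hW]
    constructor
    · rintro ⟨y, rfl⟩
      rw [Matrix.mulVecLin_apply, Matrix.mulVec_mulVec, hEE]
    · intro hx
      exact ⟨x, hx⟩
  have hmemU : ∀ x : Fin n → F, x ∈ U ↔ E₂.mulVec x = x := by
    intro x
    rw [hUU]
    constructor
    · rintro ⟨y, rfl⟩
      rw [Matrix.mulVecLin_apply, Matrix.mulVec_mulVec, hE₂E₂]
    · intro hx
      exact ⟨x, hx⟩
  have hEU : ∀ x ∈ U, E.mulVec x = 0 := by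
    intro x hx
    rw [← (hmemU x).mp hx, Matrix.mulVec_mulVec, hEE₂, Matrix.zero_mulVec]
  have hE₂W : ∀ x ∈ W, E₂.mulVec x = 0 := by
    intro x hx
    rw [← (hmemW x).mp hx, Matrix.mulVec_mulVec, hE₂E, Matrix.zero_mulVec]
  have hcompl : IsCompl W U := by
    constructor
    · rw [Submodule.disjoint_def]
      intro x hxW hxU
      rw [← (hmemW x).mp hxW]
      exact hEU x hxU
    · rw [codisjoint_iff, eq_top_iff]
      intro x _
      have h1 : x = E.mulVec x + E₂.mulVec x := by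
        rw [← Matrix.add_mulVec, hsum, Matrix.one_mulVec]
      rw [h1]
      apply Submodule.add_mem_sup
      · rw [hmemW, Matrix.mulVec_mulVec, hEE]
      · rw [hmemU, Matrix.mulVec_mulVec, hE₂E₂]
  have hEh : E * h = h * E := by
    have := hc e X
    rw [aeval_X, ← hE] at this
    exact this
  have hWinv : W ∈ Module.End.invtSubmodule (Matrix.toLin' h) := by
    rw [Module.End.mem_invtSubmodule_iff_forall_mem_of_mem]
    intro x hx
    rw [hmemW] at hx ⊢
    rw [Matrix.toLin'_apply, Matrix.mulVec_mulVec, hEh, ← Matrix.mulVec_mulVec, hx]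
  obtain ⟨S, hSdef⟩ : ∃ S : Module.End F W, S = resInv (Matrix.toLin' h) hWinv := ⟨_, rfl⟩
  have haevalS : ∀ (r : F[X]) (x : W), ((aeval S r) x : Fin n → F) = (aeval h r).mulVec x := by
    intro r x
    rw [hSdef, aeval_resInv_apply]
    have h1 : aeval (Matrix.toLin' h) r = Matrix.toLin' (aeval h r) :=
      Polynomial.aeval_algHom_apply (Matrix.toLinAlgEquiv' (R := F) (n := Fin n)).toAlgHom h r
    rw [h1, Matrix.toLin'_apply]
  have hSf : aeval S f = 0 := by
    apply LinearMap.ext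
    intro x
    apply Subtype.ext
    rw [haevalS, LinearMap.zero_apply, Submodule.coe_zero, ← (hmemW x.1).mp x.2,
      Matrix.mulVec_mulVec, hTE, Matrix.zero_mulVec]
  have hEne : E ≠ 0 := by
    intro h0
    apply hT
    rw [h0, mul_zero] at hPE
    rw [← hPT, ← hPE, adjM_zero]
  have hWnt : Nontrivial W := by
    by_contra hnt
    rw [not_nontrivial_iff_subsingleton] at hnt
    apply hEne
    apply Matrix.toLin'.injective
    apply LinearMap.ext
    intro x
    rw [Matrix.toLin'_apply, map_zero, LinearMap.zero_apply]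
    have hx : E.mulVec x ∈ W := by rw [hmemW, Matrix.mulVec_mulVec, hEE]
    have := congrArg Subtype.val (Subsingleton.elim (⟨E.mulVec x, hx⟩ : W) 0)
    exact this
  have hSirr : Irreducible (minpoly F S) := by
    have h1 : minpoly F S ∣ f := minpoly.dvd F S hSf
    obtain ⟨c, hc'⟩ := h1
    have hnu : ¬ IsUnit (minpoly F S) := minpoly.not_isUnit F S
    have hcu : IsUnit c := (hf.isUnit_or_isUnit hc').resolve_left hnu
    have h2 : Associated (minpoly F S) f := ⟨hcu.unit, by rw [hc']; rfl⟩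
    exact h2.symm.irreducible hf
  have hPL := end_pow_eq_det S hSirr
  obtain ⟨w, hw⟩ : ∃ w, w = Module.finrank F W := ⟨_, rfl⟩
  rw [← hw] at hPL
  obtain ⟨N, hN⟩ : ∃ N, N = ∑ i ∈ Finset.range w, Fintype.card F ^ i := ⟨_, rfl⟩
  rw [← hN] at hPL
  have hdetS : LinearMap.det S = δ := by
    have h1 : Matrix.toLin' h₁ = sumId hcompl S := by
      apply LinearMap.ext
      intro x
      obtain ⟨a₁, b₁, rfl⟩ := exists_decomp hcompl x
      rw [sumId_apply, Matrix.toLin'_apply, hh₁, map_add, map_mul, aeval_X, ← hE, ← hE₂,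
        Matrix.add_mulVec, Matrix.mulVec_add, Matrix.mulVec_add, hE₂W _ a₁.2,
        (hmemU _).mp b₁.2, ← Matrix.mulVec_mulVec, ← Matrix.mulVec_mulVec, hEU _ b₁.2,
        (hmemW _).mp a₁.2, Matrix.mulVec_zero, add_zero, zero_add, hSdef, resInv_apply,
        Matrix.toLin'_apply]
    rw [← det_sumId hcompl S, ← h1, LinearMap.det_toLin', hδ]
  rw [hdetS] at hPL
  have hZE : h ^ N * E = δ • E := by
    apply Matrix.toLin'.injective
    apply LinearMap.ext
    intro x
    rw [Matrix.toLin'_apply, Matrix.toLin'_apply, Matrix.smul_mulVec, ← Matrix.mulVec_mulVec]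
    have hx : E.mulVec x ∈ W := by rw [hmemW, Matrix.mulVec_mulVec, hEE]
    have h1 := haevalS (X ^ N : F[X]) ⟨E.mulVec x, hx⟩
    rw [map_pow, aeval_X, map_pow, aeval_X, hPL] at h1
    rw [← h1]
    rfl
  -- duality
  obtain ⟨Z, hZ⟩ : ∃ Z : Matrix (Fin n) (Fin n) F, Z = h ^ N := ⟨_, rfl⟩
  rw [← hZ] at hZE
  have hZU : IsU σ Z := by rw [hZ]; exact hU.pow σ N
  have hZE₂ : Z * E₂ = δ⁻¹ • E₂ := by
    have h1 := congrArg (adjM σ) hZE
    rw [adjM_mul, adjM_smul, hEadj, hσδ] at h1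
    have h2 := congrArg (fun M => M * Z) h1
    simp only [mul_assoc, smul_mul_assoc] at h2
    rw [hZU, mul_one] at h2
    have h3 : Z * E₂ = E₂ * Z := by
      have h4 : Z = aeval h (X ^ N : F[X]) := by rw [hZ, map_pow, aeval_X]
      rw [h4, hE₂]
      exact hc _ _
    rw [h3]
    have h5 := congrArg (fun M => δ⁻¹ • M) h2
    simp only [smul_smul, inv_mul_cancel₀ hδ0, one_smul] at h5
    exact h5.symm
  have hZeq : Z = δ • E + δ⁻¹ • E₂ := by
    calc Z = Z * (E + E₂) := by rw [hsum, mul_one]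
      _ = δ • E + δ⁻¹ • E₂ := by rw [mul_add, hZE, hZE₂]
  have hZpow : Z ^ (q - 1) = 1 := by
    rw [hZeq, idem_pow₂ E E₂ hsum hEE hE₂E₂ hEE₂ hE₂E, inv_pow, hδq, inv_one, one_smul,
      one_smul, hsum]
  -- dimensions
  have hrank : E.rank = w := by
    rw [hw, hW]
    rfl
  have hrank₂ : E₂.rank = w := by
    rw [← hEadj, rank_adjM σ hσσ, hrank]
  have hn2 : n = 2 * w := by
    have h1 := Submodule.finrank_add_eq_of_isCompl hcompl
    rw [Module.finrank_fintype_fun_eq_card, Fintype.card_fin, ← hw] at h1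
    have h2 : Module.finrank F U = w := by
      rw [← hrank₂, hUU]
      rfl
    omega
  have husum : usum q n = N * (q - 1) := by
    rw [hn2, usum_two_mul q w (by omega), hN, hF, mul_comm]
  rw [husum, pow_mul, ← hZ, hZpow]

end pair

end Cfsg.Agent.Lib.Helper49
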