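import Mathlib

set_option autoImplicit false

namespace Cfsg.Agent.Lib.Helper49

open Equiv

/-- The element orders of the alternating group of degree `n`, in terms of cycle types. -/
theorem altSpec_iff (n m : ℕ) :
    m ∈ Set.range (orderOf : alternatingGroup (Fin n) → ℕ) ↔
      ∃ c : Multiset ℕ, (∀ a ∈ c, 2 ≤ a) ∧ c.sum ≤ n ∧ Even (c.sum + Multiset.card c) ∧
        c.lcm = m := by
  constructor
  · rintro ⟨σ, rfl⟩
    refine ⟨(σ : Perm (Fin n)).cycleType, fun a ha => Perm.two_le_of_mem_cycleType ha, ?_, ?_, ?_⟩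
    · simpa using (σ : Perm (Fin n)).sum_cycleType_le
    · have h := Perm.mem_alternatingGroup.mp σ.2
      rw [Perm.sign_of_cycleType] at h
      exact (neg_one_pow_eq_one_iff_even (by decide)).mp h
    · rw [Perm.lcm_cycleType, Subgroup.orderOf_coe]
  · rintro ⟨c, hc2, hsum, hev, rfl⟩
    obtain ⟨g, hg⟩ := (Perm.exists_with_cycleType_iff (Fin n)).mpr ⟨by simpa using hsum, hc2⟩
    have hmem : g ∈ alternatingGroup (Fin n) := by
      rw [Perm.mem_alternatingGroup, Perm.sign_of_cycleType, hg]
      exact hev.neg_one_pow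
    refine ⟨⟨g, hmem⟩, ?_⟩
    have h1 : orderOf (⟨g, hmem⟩ : alternatingGroup (Fin n)) = orderOf g :=
      Subgroup.orderOf_mk g hmem
    show orderOf (⟨g, hmem⟩ : alternatingGroup (Fin n)) = c.lcm
    rw [h1, ← hg, Perm.lcm_cycleType]

/-- A prime dividing the lcm of a multiset divides one of its members. -/
theorem prime_dvd_multiset_lcm {p : ℕ} (hp : p.Prime) (c : Multiset ℕ) (h : p ∣ c.lcm) :
    ∃ a ∈ c, p ∣ a := by
  induction c using Multiset.induction_on with
  | empty =>
    simp only [Multiset.lcm_zero] at h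
    exact absurd (Nat.dvd_one.mp h) hp.one_lt.ne'
  | cons a c ih =>
    rw [Multiset.lcm_cons] at h
    have h2 : p ∣ a * c.lcm := dvd_trans h (Nat.lcm_dvd_mul a c.lcm)
    rcases (Nat.Prime.dvd_mul hp).mp h2 with h3 | h3
    · exact ⟨a, Multiset.mem_cons_self a c, h3⟩
    · obtain ⟨b, hb, hpb⟩ := ih h3
      exact ⟨b, Multiset.mem_cons_of_mem hb, hpb⟩

/-- Parity of `sum + card` of a multiset is the parity of the number of its even members. -/
theorem even_sum_add_card_iff (c : Multiset ℕ) :
    Even (c.sum + Multiset.card c) ↔ Even (Multiset.card (c.filter (fun a => Even a))) := by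
  induction c using Multiset.induction_on with
  | empty => simp
  | cons a c ih =>
    by_cases ha : Even a
    · rw [Multiset.filter_cons_of_pos _ ha, Multiset.sum_cons, Multiset.card_cons,
        Multiset.card_cons]
      have e1 : a + c.sum + (Multiset.card c + 1) = (c.sum + Multiset.card c) + (a + 1) := by ring
      rw [e1, Nat.even_add, ih, Nat.even_add_one, Nat.even_add_one]
      simp [ha]
    · rw [Multiset.filter_cons_of_neg _ ha, Multiset.sum_cons, Multiset.card_cons]
      have e1 : a + c.sum + (Multiset.card c + 1) = (c.sum + Multiset.card c) + (a + 1) := by ring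
      rw [e1, Nat.even_add, ih, Nat.even_add_one]
      simp [ha]

end Cfsg.Agent.Lib.Helper49
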