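import Mathlib
import Cfsg.Agent.Lib.Helper49.LevDefs
import Cfsg.Agent.Lib.Helper49.LevXNILBASIS

/-!
# S2522 project LEV (helper49), piece JORDAN

A matrix `u` with `(u-1)^n = 0`, `(u-1)^(n-1) ≠ 0` is `GL`-conjugate to the Jordan block `J`
(Jordan basis `b_j = (u-1)^(n-1-j) w`).  Filled by helper1.
-/

set_option autoImplicit false

namespace Cfsg.Agent.Lib.Helper49.Lev

open Module

variable {K : Type*} [Field K] {V : Type*} [AddCommGroup V] [Module K V]

theorem levjordan_mulVec (n : ℕ) (u : Matrix (Fin n) (Fin n) K) (y : Fin n → K) :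
    u.mulVec y = y + (u - 1).mulVec y := by
  rw [Matrix.sub_mulVec, Matrix.one_mulVec]
  abel

theorem levjordan_sum (n : ℕ) (j : Fin n) (c : Fin n → K) :
    (∑ k : Fin n, if (j : ℕ) = (k : ℕ) + 1 then c k else 0) =
      if h : 0 < (j : ℕ) then c ⟨(j : ℕ) - 1, by have := j.2; omega⟩ else 0 := by
  by_cases h : 0 < (j : ℕ)
  · rw [dif_pos h]
    rw [Finset.sum_eq_single (⟨(j : ℕ) - 1, by have := j.2; omega⟩ : Fin n)]
    · rw [if_pos]
      show (j : ℕ) = (j : ℕ) - 1 + 1
      omega
    · intro k _ hk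
      rw [if_neg]
      intro hjk
      apply hk
      apply Fin.ext
      show (k : ℕ) = (j : ℕ) - 1
      omega
    · intro hh
      exact absurd (Finset.mem_univ _) hh
  · rw [dif_neg h]
    apply Finset.sum_eq_zero
    intro k _
    rw [if_neg]
    omega

theorem jordan (n : ℕ) (J : Matrix (Fin n) (Fin n) K)
    (hJ : ∀ i j : Fin n, J i j = if i = j then 1 else if j.val = i.val + 1 then 1 else 0)
    (u : Matrix (Fin n) (Fin n) K) (h0 : (u - 1) ^ n = 0) (h1 : (u - 1) ^ (n - 1) ≠ 0) :
    ∃ x : GL (Fin n) K, u = (x : Matrix (Fin n) (Fin n) K) * J *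
      ((x⁻¹ : GL (Fin n) K) : Matrix (Fin n) (Fin n) K) := by
  classical
  have hex : ∃ w : Fin n → K, ((u - 1) ^ (n - 1)).mulVec w ≠ 0 := by
    by_contra hcon
    apply h1
    ext i j
    have h : ((u - 1) ^ (n - 1)).mulVec (Pi.single j 1) = 0 := by
      by_contra h'
      exact hcon ⟨_, h'⟩
    have h2 := congrFun h i
    rw [Matrix.mulVec_single_one] at h2
    simpa using h2
  obtain ⟨w, hw⟩ := hex
  have hli0 : LinearIndependent K
      (fun i : Fin n => ((Matrix.toLin' (u - 1)) ^ (i : ℕ)) w) := by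
    apply levnilbasis_aux
    · rw [← Matrix.toLin'_pow, h0]
      simp
    · rw [← Matrix.toLin'_pow, Matrix.toLin'_apply]
      exact hw
  have hli : LinearIndependent K
      (fun j : Fin n => ((u - 1) ^ (n - 1 - (j : ℕ))).mulVec w) := by
    have h2 := hli0.comp Fin.rev Fin.rev_injective
    have h3 : (fun j : Fin n => ((u - 1) ^ (n - 1 - (j : ℕ))).mulVec w) =
        (fun i : Fin n => ((Matrix.toLin' (u - 1)) ^ (i : ℕ)) w) ∘ Fin.rev := by
      funext j
      simp only [Function.comp, ← Matrix.toLin'_pow, Matrix.toLin'_apply, Fin.val_rev]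
      have h4 : n - 1 - (j : ℕ) = n - ((j : ℕ) + 1) := by omega
      rw [h4]
    rw [h3]
    exact h2
  let X : Matrix (Fin n) (Fin n) K :=
    Matrix.of (fun i j => ((u - 1) ^ (n - 1 - (j : ℕ))).mulVec w i)
  have hXcol : X.col = fun j : Fin n => ((u - 1) ^ (n - 1 - (j : ℕ))).mulVec w := by
    funext j i
    rfl
  have hXu : IsUnit X := by
    rw [← Matrix.linearIndependent_cols_iff_isUnit, hXcol]
    exact hli
  obtain ⟨x, hx⟩ := hXu
  refine ⟨x, ?_⟩
  have hcomm : u * X = X * J := by
    ext i j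
    have hL : (u * X) i j = (u.mulVec (((u - 1) ^ (n - 1 - (j : ℕ))).mulVec w)) i := by
      rfl
    have hL2 : u.mulVec (((u - 1) ^ (n - 1 - (j : ℕ))).mulVec w) =
        ((u - 1) ^ (n - 1 - (j : ℕ))).mulVec w +
          ((u - 1) ^ (n - 1 - (j : ℕ) + 1)).mulVec w := by
      rw [levjordan_mulVec, Matrix.mulVec_mulVec, ← pow_succ']
    have hR : (X * J) i j = X i j +
        (if h : 0 < (j : ℕ) then X i ⟨(j : ℕ) - 1, by have := j.2; omega⟩ else 0) := by
      rw [Matrix.mul_apply]
      have hterm : ∀ k : Fin n, X i k * J k j =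
          (if k = j then X i k else 0) + (if (j : ℕ) = (k : ℕ) + 1 then X i k else 0) := by
        intro k
        rw [hJ]
        by_cases hkj : k = j
        · subst hkj
          simp
        · simp [hkj]
      simp_rw [hterm]
      rw [Finset.sum_add_distrib, Finset.sum_ite_eq' Finset.univ j (fun k => X i k),
        if_pos (Finset.mem_univ j), levjordan_sum n j (fun k => X i k)]
    rw [hL, hL2, hR, Pi.add_apply]
    congr 1
    by_cases h : 0 < (j : ℕ)
    · rw [dif_pos h]
      show ((u - 1) ^ (n - 1 - (j : ℕ) + 1)).mulVec w i =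
        ((u - 1) ^ (n - 1 - ((j : ℕ) - 1))).mulVec w i
      have h5 : n - 1 - (j : ℕ) + 1 = n - 1 - ((j : ℕ) - 1) := by
        have := j.2
        omega
      rw [h5]
    · rw [dif_neg h]
      have h5 : n - 1 - (j : ℕ) + 1 = n := by
        have := j.2
        omega
      rw [h5, h0, Matrix.zero_mulVec]
      rfl
  have hx' : X = (x : Matrix (Fin n) (Fin n) K) := hx.symm
  rw [← hx', ← hcomm, Matrix.mul_assoc, hx', ← Units.val_mul, mul_inv_cancel, Units.val_one,
    Matrix.mul_one]

end Cfsg.Agent.Lib.Helper49.Lev
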