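import Mathlib
import Cfsg.Agent.Lib.Helper49.LevDefs
import Cfsg.Agent.Lib.Helper49.LevXNILB
import Cfsg.Agent.Lib.Helper49.LevXKER

/-!
# S2522 project LEV (helper49), piece LIFTU

The upper lift `x ↦ φ x • v + u (proj x) + ρ (proj x) • v` of a regular unipotent `u` on `ker φ`
is regular unipotent and fixes `v`, provided `ρ` does not vanish on the fixed line of `u`.
Filled by helper1.
-/

set_option autoImplicit false

namespace Cfsg.Agent.Lib.Helper49.Lev

open Module

variable {K : Type*} [Field K] {V : Type*} [AddCommGroup V] [Module K V]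

theorem levliftu_sub_apply (v : V) (φ : Module.Dual K V) (h1 : φ v = 1)
    (u : Module.End K (LinearMap.ker φ)) (ρ : Module.Dual K (LinearMap.ker φ)) (x : V) :
    (lift v φ h1 u v ρ - 1) x =
      (((u - 1) (proj v φ h1 x) : LinearMap.ker φ) : V) + ρ (proj v φ h1 x) • v := by
  rw [LinearMap.sub_apply, lift_apply, Module.End.one_apply, LinearMap.sub_apply,
    Module.End.one_apply]
  have hp := proj_apply v φ h1 x
  rw [Submodule.coe_sub, hp]
  abel

theorem levliftu_proj_coe (v : V) (φ : Module.Dual K V) (h1 : φ v = 1) (z : LinearMap.ker φ) :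
    proj v φ h1 (z : V) = z := by
  apply Subtype.ext
  rw [proj_apply]
  have hz : φ (z : V) = 0 := LinearMap.mem_ker.1 z.2
  rw [hz, zero_smul, sub_zero]

theorem levliftu_proj_self (v : V) (φ : Module.Dual K V) (h1 : φ v = 1) :
    proj v φ h1 v = 0 := by
  apply Subtype.ext
  rw [proj_apply, h1, one_smul, sub_self]
  rfl

theorem levliftu_fix (v : V) (φ : Module.Dual K V) (h1 : φ v = 1)
    (u : Module.End K (LinearMap.ker φ)) (ρ : Module.Dual K (LinearMap.ker φ)) :
    (lift v φ h1 u v ρ - 1) v = 0 := by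
  rw [levliftu_sub_apply, levliftu_proj_self, map_zero, map_zero, zero_smul, add_zero]
  rfl

theorem levliftu_pow_coe (v : V) (φ : Module.Dual K V) (h1 : φ v = 1)
    (u : Module.End K (LinearMap.ker φ)) (ρ : Module.Dual K (LinearMap.ker φ)) (k : ℕ)
    (z : LinearMap.ker φ) :
    ((lift v φ h1 u v ρ - 1) ^ (k + 1)) (z : V) =
      ((((u - 1) ^ (k + 1)) z : LinearMap.ker φ) : V) + ρ (((u - 1) ^ k) z) • v := by
  induction k with
  | zero =>
    rw [zero_add, pow_one, pow_one, pow_zero, levliftu_sub_apply, levliftu_proj_coe,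
      Module.End.one_apply]
  | succ k ih =>
    have e1 : ((lift v φ h1 u v ρ - 1) ^ (k + 1 + 1)) (z : V) =
        (lift v φ h1 u v ρ - 1) (((lift v φ h1 u v ρ - 1) ^ (k + 1)) (z : V)) := by
      rw [pow_succ' _ (k + 1), Module.End.mul_apply]
    have e2 : ((u - 1) ^ (k + 1 + 1)) z = (u - 1) (((u - 1) ^ (k + 1)) z) := by
      rw [pow_succ' _ (k + 1), Module.End.mul_apply]
    rw [e1, ih, map_add, map_smul, levliftu_fix, smul_zero, add_zero, levliftu_sub_apply,
      levliftu_proj_coe, e2]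

theorem liftU [FiniteDimensional K V] (v : V) (φ : Module.Dual K V) (h1 : φ v = 1)
    (u : Module.End K (LinearMap.ker φ)) (hu : RegUnip u) (ρ : Module.Dual K (LinearMap.ker φ))
    (w : LinearMap.ker φ) (hw : u w = w) (hρ : ρ w ≠ 0) :
    RegUnip (lift v φ h1 u v ρ) ∧ lift v φ h1 u v ρ v = v := by
  have hfin := finrank_ker_add_one v φ h1
  obtain ⟨hu0, hu1⟩ := hu
  have hv0 : v ≠ 0 := by
    rintro rfl
    simp at h1
  have hw0 : w ≠ 0 := by
    rintro rfl
    simp at hρ
  have hfix : lift v φ h1 u v ρ v = v := by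
    have h := levliftu_fix v φ h1 u ρ
    rw [LinearMap.sub_apply, Module.End.one_apply, sub_eq_zero] at h
    exact h
  have hvk : ∀ k : ℕ, ((lift v φ h1 u v ρ - 1) ^ (k + 1)) v = 0 := by
    intro k
    rw [pow_succ, Module.End.mul_apply, levliftu_fix, map_zero]
  have hmpos : 0 < finrank K (LinearMap.ker φ) :=
    Module.finrank_pos_iff_exists_ne_zero.2 ⟨w, hw0⟩
  refine ⟨⟨?_, ?_⟩, hfix⟩
  · rw [← hfin]
    apply LinearMap.ext
    intro x
    have hx : x = φ x • v + ((proj v φ h1 x : LinearMap.ker φ) : V) := by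
      rw [proj_apply]
      abel
    have key : ((lift v φ h1 u v ρ - 1) ^ (finrank K (LinearMap.ker φ) + 1))
        (φ x • v + ((proj v φ h1 x : LinearMap.ker φ) : V)) = 0 := by
      rw [map_add, map_smul, hvk, smul_zero, zero_add, levliftu_pow_coe, hu0, pow_succ, hu0,
        zero_mul]
      simp
    rw [LinearMap.zero_apply]
    calc ((lift v φ h1 u v ρ - 1) ^ (finrank K (LinearMap.ker φ) + 1)) x
        = ((lift v φ h1 u v ρ - 1) ^ (finrank K (LinearMap.ker φ) + 1))
            (φ x • v + ((proj v φ h1 x : LinearMap.ker φ) : V)) := by rw [← hx]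
      _ = 0 := key
  · obtain ⟨m', hm'⟩ : ∃ m' : ℕ, finrank K (LinearMap.ker φ) = m' + 1 :=
      ⟨finrank K (LinearMap.ker φ) - 1, by omega⟩
    have hV : finrank K V - 1 = m' + 1 := by omega
    rw [hV]
    rw [hm'] at hu0
    have hu1' : (u - 1) ^ m' ≠ 0 := by
      have h2 : finrank K (LinearMap.ker φ) - 1 = m' := by omega
      rw [h2] at hu1
      exact hu1
    have hex : ∃ z : LinearMap.ker φ, ((u - 1) ^ m') z ≠ 0 := by
      by_contra hcon
      apply hu1'
      apply LinearMap.ext
      intro z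
      by_contra h'
      exact hcon ⟨z, h'⟩
    obtain ⟨z, hz⟩ := hex
    have hy : (u - 1) (((u - 1) ^ m') z) = 0 := by
      rw [← Module.End.mul_apply, ← pow_succ', hu0]
      rfl
    have hw' : (u - 1) w = 0 := by
      rw [LinearMap.sub_apply, Module.End.one_apply, hw, sub_self]
    have hu0f : (u - 1) ^ finrank K (LinearMap.ker φ) = 0 := by
      rw [hm']
      exact hu0
    obtain ⟨a, ha⟩ := nil_ker_line (u - 1) hu0f hu1 w (((u - 1) ^ m') z) hw' hw0 hy
    have ha0 : a ≠ 0 := by
      rintro rfl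
      rw [zero_smul] at ha
      exact hz ha
    have hρy : ρ (((u - 1) ^ m') z) ≠ 0 := by
      rw [ha, map_smul, smul_eq_mul]
      exact mul_ne_zero ha0 hρ
    intro h
    have h2 : ((lift v φ h1 u v ρ - 1) ^ (m' + 1)) (z : V) = 0 := by
      rw [h]
      rfl
    rw [levliftu_pow_coe, hu0] at h2
    have h3 : ρ (((u - 1) ^ m') z) • v = 0 := by
      simpa using h2
    rcases smul_eq_zero.1 h3 with h4 | h4
    · exact hρy h4
    · exact hv0 h4

end Cfsg.Agent.Lib.Helper49.Lev
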