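import Mathlib
import Cfsg.Agent.Lib.Helper49.OGen

set_option autoImplicit false
set_option linter.style.haveILetI false
set_option linter.unusedSectionVars false
set_option maxHeartbeats 1600000

/-!
Two odd primes for an abstract adjoint: an element of order `r s` forces
`2 η(k) + 2 η(l) ≤ dim` or `l / k` odd.
-/

namespace Cfsg.Agent.Lib.Helper49

open Polynomial

section pair

variable {F : Type*} [Field F] [Fintype F] {ι : Type*} [Fintype ι] [DecidableEq ι]
  {adj : Matrix ι ι F → Matrix ι ι F}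

/-- an element of order `r s` -/
theorem g_pair (hadj : IsAdj adj) (p : ℕ) [Fact p.Prime] [CharP F p]
    (G : Matrix ι ι F) (hsp : adj G * G = 1) (r s : ℕ)
    (hr : r.Prime) (hs : s.Prime) (hr2 : r ≠ 2) (hs2 : s ≠ 2) (hrp : r ≠ p) (hsp' : s ≠ p)
    (k l ηk ηl : ℕ)
    (hk : k = orderOf ((Fintype.card F : ℕ) : ZMod r))
    (hl : l = orderOf ((Fintype.card F : ℕ) : ZMod s))
    (hηk : (Odd k ∧ ηk = k) ∨ (Even k ∧ 2 * ηk = k))
    (hηl : (Odd l ∧ ηl = l) ∨ (Even l ∧ 2 * ηl = l)) (hkl : ηk ≤ ηl)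
    (hG : ∀ j : ℕ, G ^ j = 1 ↔ r * s ∣ j) :
    2 * ηk + 2 * ηl ≤ Fintype.card ι ∨ ∃ t : ℕ, Odd t ∧ l = k * t := by
  classical
  have hpp : p.Prime := Fact.out
  have hq1 : 1 < Fintype.card F := Fintype.one_lt_card
  have hGs_r : (G ^ s) ^ r = 1 := by rw [← pow_mul, hG, mul_comm]
  have hGr_s : (G ^ r) ^ s = 1 := by rw [← pow_mul, hG]
  have hGs1 : G ^ s ≠ 1 := by
    intro h
    have h1 := (hG s).mp h
    have h2 : r * s ∣ 1 * s := by rwa [one_mul]
    have h3 := (Nat.mul_dvd_mul_iff_right hs.pos).mp h2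
    exact hr.one_lt.ne' (Nat.dvd_one.mp h3)
  have hGr1 : G ^ r ≠ 1 := by
    intro h
    have h1 := (hG r).mp h
    have h2 : r * s ∣ r * 1 := by rwa [mul_one]
    have h3 := (Nat.mul_dvd_mul_iff_left hr.pos).mp h2
    exact hs.one_lt.ne' (Nat.dvd_one.mp h3)
  have hcr := g_cost_of_ne_one hadj p (G ^ s) (hadj.orth_pow hsp s) r hr hr2 hrp k ηk hk hηk
    hGs_r hGs1
  have hcs := g_cost_of_ne_one hadj p (G ^ r) (hadj.orth_pow hsp r) s hs hs2 hsp' l ηl hl hηl
    hGr_s hGr1
  obtain ⟨q, hq⟩ : ∃ q, q = Fintype.card F := ⟨_, rfl⟩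
  rw [← hq] at hk hl hq1
  obtain ⟨S, hS⟩ : ∃ S : Module.End F (ι → F), S = Matrix.toLin' G := ⟨_, rfl⟩
  obtain ⟨Wr, hWr⟩ : ∃ Wr : Submodule F (ι → F),
    Wr = LinearMap.ker (Matrix.toLin' (∑ i ∈ Finset.range r, (G ^ s) ^ i)) := ⟨_, rfl⟩
  obtain ⟨Ws, hWs⟩ : ∃ Ws : Submodule F (ι → F),
    Ws = LinearMap.ker (Matrix.toLin' (∑ i ∈ Finset.range s, (G ^ r) ^ i)) := ⟨_, rfl⟩
  rw [← hWr] at hcr
  rw [← hWs] at hcs
  have hdimV : Module.finrank F (ι → F) = Fintype.card ι :=
    Module.finrank_fintype_fun_eq_card F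
  by_cases hdisj : Disjoint Wr Ws
  · left
    have h5 := Submodule.finrank_sup_add_finrank_inf_eq Wr Ws
    rw [disjoint_iff.mp hdisj, finrank_bot, add_zero] at h5
    have h6 := Submodule.finrank_le (Wr ⊔ Ws)
    rw [hdimV] at h6
    omega
  · by_contra hcon
    push Not at hcon
    obtain ⟨hnlt, hnot⟩ := hcon
    rw [Submodule.disjoint_def] at hdisj
    push Not at hdisj
    obtain ⟨v, hvr, hvs, hv0⟩ := hdisj
    obtain ⟨P₁, hP₁⟩ : ∃ P₁ : F[X], P₁ = (gsum F r).comp (X ^ s) := ⟨_, rfl⟩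
    obtain ⟨P₂, hP₂⟩ : ∃ P₂ : F[X], P₂ = (gsum F s).comp (X ^ r) := ⟨_, rfl⟩
    have hP₁G : aeval G P₁ = ∑ i ∈ Finset.range r, (G ^ s) ^ i := by
      rw [hP₁, aeval_comp, map_pow, aeval_X, aeval_gsum]
    have hP₂G : aeval G P₂ = ∑ i ∈ Finset.range s, (G ^ r) ^ i := by
      rw [hP₂, aeval_comp, map_pow, aeval_X, aeval_gsum]
    have hP₁0 : P₁ ≠ 0 := by
      intro h0
      have h1 := congrArg (fun P : F[X] => P.comp (X ^ s)) (gsum_mul (F := F) r)
      simp only [mul_comp, sub_comp, X_comp, one_comp, pow_comp] at h1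
      rw [← hP₁, h0, zero_mul, ← pow_mul] at h1
      have h2 := Polynomial.X_pow_sub_C_ne_zero (Nat.mul_pos hs.pos hr.pos) (1 : F)
      rw [C_1] at h2
      exact h2 h1.symm
    have hSP₁ : aeval S P₁ v = 0 := by
      rw [hS, aeval_toLin', hP₁G]
      rw [hWr, LinearMap.mem_ker] at hvr
      exact hvr
    have hSP₂ : aeval S P₂ v = 0 := by
      rw [hS, aeval_toLin', hP₂G]
      rw [hWs, LinearMap.mem_ker] at hvs
      exact hvs
    obtain ⟨f, hfirr, hfdvd₁, g, hw, hfw⟩ :=
      exists_irreducible_ker S v hv0 _ P₁ le_rfl hP₁0 hSP₁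
    haveI : Fact (Irreducible f) := ⟨hfirr⟩
    obtain ⟨w, hwdef⟩ : ∃ w, w = aeval S g v := ⟨_, rfl⟩
    rw [← hwdef] at hw hfw
    have hP₂w : aeval S P₂ w = 0 := by
      rw [hwdef, ← Module.End.mul_apply, ← map_mul, mul_comm, map_mul, Module.End.mul_apply,
        hSP₂, map_zero]
    have hfdvd₂ : f ∣ P₂ := dvd_of_aeval_apply_eq_zero S f P₂ hfirr w hw hfw hP₂w
    obtain ⟨lam, hlam⟩ : ∃ lam : AdjoinRoot f, lam = AdjoinRoot.root f := ⟨_, rfl⟩
    have hlamP₁ : ∑ i ∈ Finset.range r, (lam ^ s) ^ i = 0 := by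
      have h1 := AdjoinRoot.mk_eq_zero.mpr hfdvd₁
      rw [← AdjoinRoot.aeval_eq, hP₁, aeval_comp, map_pow, aeval_X, aeval_gsum, ← hlam] at h1
      exact h1
    have hlamP₂ : ∑ i ∈ Finset.range s, (lam ^ r) ^ i = 0 := by
      have h1 := AdjoinRoot.mk_eq_zero.mpr hfdvd₂
      rw [← AdjoinRoot.aeval_eq, hP₂, aeval_comp, map_pow, aeval_X, aeval_gsum, ← hlam] at h1
      exact h1
    have hordr : orderOf (lam ^ s) = r := orderOf_of_gsum (F := F) p r hr hrp _ hlamP₁
    have hords : orderOf (lam ^ r) = s := orderOf_of_gsum (F := F) p s hs hsp' _ hlamP₂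
    have hlam0 : lam ≠ 0 := by
      intro h0
      have h1 := pow_orderOf_eq_one (lam ^ s)
      rw [hordr, h0, zero_pow hs.pos.ne', zero_pow hr.pos.ne'] at h1
      exact zero_ne_one h1
    obtain ⟨δ, hδ⟩ : ∃ δ, δ = f.natDegree := ⟨_, rfl⟩
    have hlamδ : lam ^ (q ^ δ - 1) = 1 := by
      rw [hlam, hδ, hq]
      exact root_pow_card_sub_one f (hlam ▸ hlam0)
    have hkδ : k ∣ δ := by
      have h1 : (lam ^ s) ^ (q ^ δ - 1) = 1 := by
        rw [← pow_mul, mul_comm, pow_mul, hlamδ, one_pow]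
      have h2 : r ∣ q ^ δ - 1 := by
        have := orderOf_dvd_of_pow_eq_one h1
        rwa [hordr] at this
      rw [hk]
      exact orderOf_dvd_of_pow_eq_one (zmod_pow_eq_one_of_dvd q r δ (by omega) h2)
    have hlδ : l ∣ δ := by
      have h1 : (lam ^ r) ^ (q ^ δ - 1) = 1 := by
        rw [← pow_mul, mul_comm, pow_mul, hlamδ, one_pow]
      have h2 : s ∣ q ^ δ - 1 := by
        have := orderOf_dvd_of_pow_eq_one h1
        rwa [hords] at this
      rw [hl]
      exact orderOf_dvd_of_pow_eq_one (zmod_pow_eq_one_of_dvd q s δ (by omega) h2)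
    have hδ0 : 0 < δ := hδ ▸ hfirr.natDegree_pos
    obtain ⟨Wf, hWf⟩ : ∃ Wf : Submodule F (ι → F),
      Wf = LinearMap.ker (aeval S f) := ⟨_, rfl⟩
    have hWfne : Wf ≠ ⊥ := by
      intro h
      apply hw
      have h1 : w ∈ Wf := by rw [hWf, LinearMap.mem_ker]; exact hfw
      rw [h] at h1
      exact (Submodule.mem_bot F).mp h1
    have hWfdim : δ ≤ Module.finrank F Wf := by
      rw [hδ]
      apply natDegree_le_finrank S f hfirr Wf
      · rw [hWf]
        exact ker_aeval_invt S f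
      · intro x hx
        rw [hWf, LinearMap.mem_ker] at hx
        exact hx
      · exact hWfne
    obtain ⟨W', hW'⟩ : ∃ W' : Submodule F (ι → F),
      W' = LinearMap.ker (Matrix.toLin' (adj (aeval G f))) := ⟨_, rfl⟩
    have hWf' : Wf = LinearMap.ker (Matrix.toLin' (aeval G f)) := by
      rw [hWf, hS, aeval_toLin']
    have hdim' : Module.finrank F W' = Module.finrank F Wf := by
      have h1 := finrank_ker_toLin' (adj (aeval G f))
      have h2 := finrank_ker_toLin' (aeval G f)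
      rw [hadj.rank, ← hW'] at h1
      rw [← hWf'] at h2
      omega
    have hηl_le : ηl ≤ l := by
      rcases hηl with ⟨-, h⟩ | ⟨-, h⟩ <;> omega
    by_cases hdisj2 : Disjoint Wf W'
    · have h5 := Submodule.finrank_sup_add_finrank_inf_eq Wf W'
      rw [disjoint_iff.mp hdisj2, finrank_bot, add_zero] at h5
      have h6 := Submodule.finrank_le (Wf ⊔ W')
      rw [hdimV] at h6
      have hδn : 2 * δ ≤ Fintype.card ι := by omega
      obtain ⟨c, hc⟩ := hlδ
      have hc1 : c = 1 := by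
        have h7 : l * c < l * 2 := by
          rw [← hc]
          omega
        have h8 := Nat.lt_of_mul_lt_mul_left h7
        have h9 : c ≠ 0 := by
          rintro rfl
          rw [mul_zero] at hc
          omega
        omega
      rw [hc1, mul_one] at hc
      rw [hc] at hkδ hδn
      rcases hηl with ⟨ho, he⟩ | ⟨he, h2⟩
      · obtain ⟨t, ht⟩ := hkδ
        apply hnot t _ ht
        rw [ht] at ho
        exact (Nat.odd_mul.mp ho).2
      · omega
    · rw [Submodule.disjoint_def] at hdisj2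
      push Not at hdisj2
      obtain ⟨x, hx1, hx2, hx0⟩ := hdisj2
      rw [hWf', LinearMap.mem_ker, Matrix.toLin'_apply] at hx1
      rw [hW', LinearMap.mem_ker, Matrix.toLin'_apply] at hx2
      rcases selfdual_of_common_ker' hadj G hsp f x hx0 hx1 hx2 with hsq | ⟨i, hi0, hdeg, hpow⟩
      · rw [← hlam, ← sq] at hsq
        have h1 : (lam ^ s) ^ 2 = 1 := by rw [← pow_mul, mul_comm, pow_mul, hsq, one_pow]
        have h2 := orderOf_dvd_of_pow_eq_one h1
        rw [hordr] at h2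
        have h3 := Nat.le_of_dvd (by norm_num) h2
        have := hr.two_le
        omega
      · rw [← hlam, ← hq] at hpow
        have hr1 : r ∣ q ^ i + 1 := by
          have h1 : (lam ^ s) ^ (q ^ i + 1) = 1 := by
            rw [← pow_mul, mul_comm, pow_mul, hpow, one_pow]
          have := orderOf_dvd_of_pow_eq_one h1
          rwa [hordr] at this
        have hs1 : s ∣ q ^ i + 1 := by
          have h1 : (lam ^ r) ^ (q ^ i + 1) = 1 := by
            rw [← pow_mul, mul_comm, pow_mul, hpow, one_pow]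
          have := orderOf_dvd_of_pow_eq_one h1
          rwa [hords] at this
        obtain ⟨hke, a, hao, hia⟩ := eta_of_neg_one r hr hr2 _ i k ηk hk hηk
          (zmod_pow_eq_neg_one_of_dvd q r i hr1)
        obtain ⟨hle, b, hbo, hib⟩ := eta_of_neg_one s hs hs2 _ i l ηl hl hηl
          (zmod_pow_eq_neg_one_of_dvd q s i hs1)
        have h6 := Submodule.finrank_le Wf
        rw [hdimV] at h6
        have hin : 2 * i ≤ Fintype.card ι := by omega
        have hb1 : b = 1 := by
          have h7 : ηl * b < ηl * 2 := by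
            rw [← hib]
            omega
          have h8 := Nat.lt_of_mul_lt_mul_left h7
          obtain ⟨b', rfl⟩ := hbo
          omega
        rw [hb1, mul_one] at hib
        have hk2 : 2 * ηk = k := by
          rcases hηk with ⟨ho, -⟩ | ⟨-, h⟩
          · exact absurd hke (Nat.not_even_iff_odd.mpr ho)
          · exact h
        have hl2 : 2 * ηl = l := by
          rcases hηl with ⟨ho, -⟩ | ⟨-, h⟩
          · exact absurd hle (Nat.not_even_iff_odd.mpr ho)
          · exact h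
        apply hnot a hao
        rw [← hl2, ← hib, hia, ← hk2]
        ring

end pair

end Cfsg.Agent.Lib.Helper49
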