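import Cfsg.Agent.Lib.Helper46.Mat2c

set_option autoImplicit false
set_option linter.style.haveILetI false

namespace Cfsg.Agent.Lib.Helper49

open Cfsg.Agent.Lib.Helper46

section general

variable {G : Type*} [Group G]

/-- The size of a conjugacy class is the index of the centralizer. -/
theorem index_centralizer_eq_card [Finite G] (g : G) :
    (Subgroup.centralizer ({g} : Set G)).index = Nat.card {h : G // IsConj g h} := by
  have h1 := card_centralizer_mul_card_carrier g
  have h2 := Subgroup.card_mul_index (Subgroup.centralizer ({g} : Set G))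
  have h3 : Nat.card (ConjClasses.mk g).carrier = Nat.card {h : G // IsConj g h} := by
    apply Nat.card_congr
    apply Equiv.subtypeEquivRight
    intro h
    rw [ConjClasses.mem_carrier_iff_mk_eq, ConjClasses.mk_eq_mk_iff_isConj]
    exact ⟨IsConj.symm, IsConj.symm⟩
  have hpos : 0 < Nat.card (Subgroup.centralizer ({g} : Set G)) := Nat.card_pos
  rw [← h3]
  exact Nat.eq_of_mul_eq_mul_left hpos (h2.trans h1.symm)

theorem isConj_mk_iff (N : Subgroup G) [N.Normal] (g h : G) :
    IsConj (QuotientGroup.mk g : G ⧸ N) (QuotientGroup.mk h) ↔ ∃ n ∈ N, IsConj g (h * n) := by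
  constructor
  · intro hc
    obtain ⟨c, hc⟩ := isConj_iff.mp hc
    obtain ⟨k, rfl⟩ := QuotientGroup.mk_surjective c
    rw [← QuotientGroup.mk_inv, ← QuotientGroup.mk_mul, ← QuotientGroup.mk_mul] at hc
    have h1 : h⁻¹ * (k * g * k⁻¹) ∈ N := QuotientGroup.eq.mp hc.symm
    refine ⟨_, h1, isConj_iff.mpr ⟨k, ?_⟩⟩
    group
  · rintro ⟨n, hn, hc⟩
    obtain ⟨k, hk⟩ := isConj_iff.mp hc
    refine isConj_iff.mpr ⟨QuotientGroup.mk k, ?_⟩
    rw [← QuotientGroup.mk_inv, ← QuotientGroup.mk_mul, ← QuotientGroup.mk_mul, hk,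
      QuotientGroup.mk_mul, (QuotientGroup.eq_one_iff n).mpr hn, mul_one]

/-- Class sizes in a quotient, counted upstairs. -/
theorem card_conj_quotient [Finite G] (N : Subgroup G) [N.Normal] (g : G) :
    Nat.card N * (Subgroup.centralizer ({(QuotientGroup.mk g : G ⧸ N)} : Set (G ⧸ N))).index =
      Nat.card {h : G // ∃ n ∈ N, IsConj g (h * n)} := by
  rw [index_centralizer_eq_card]
  have e := QuotientGroup.preimageMkEquivSubgroupProdSet N
    {y : G ⧸ N | IsConj (QuotientGroup.mk g : G ⧸ N) y}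
  have h1 := Nat.card_congr e
  rw [Nat.card_prod] at h1
  have h2 : Nat.card ({y : G ⧸ N | IsConj (QuotientGroup.mk g : G ⧸ N) y} : Set (G ⧸ N)) =
      Nat.card {y : G ⧸ N // IsConj (QuotientGroup.mk g : G ⧸ N) y} := rfl
  rw [h2] at h1
  rw [← h1]
  apply Nat.card_congr
  apply Equiv.subtypeEquivRight
  intro h
  exact isConj_mk_iff N g h

end general

section sl2

variable {F : Type*} [Field F]

theorem diag_neg_one : (Matrix.diagonal fun _ : Fin 2 => (-1 : F)) = -1 := by
  ext i j
  fin_cases i <;> fin_cases j <;> simp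

theorem sl2_mem_center_iff (z : Matrix.SpecialLinearGroup (Fin 2) F) :
    z ∈ Subgroup.center (Matrix.SpecialLinearGroup (Fin 2) F) ↔ z = 1 ∨ z = -1 := by
  rw [Matrix.SpecialLinearGroup.mem_center_iff]
  simp only [Fintype.card_fin]
  constructor
  · rintro ⟨r, hr, hz⟩
    have : (r - 1) * (r + 1) = 0 := by linear_combination hr
    rcases mul_eq_zero.mp this with h | h
    · left
      apply Subtype.ext
      rw [← hz, sub_eq_zero.mp h]
      simp
    · right
      apply Subtype.ext
      rw [← hz, eq_neg_of_add_eq_zero_left h]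
      simp [diag_neg_one]
  · rintro (rfl | rfl)
    · exact ⟨1, one_pow 2, by simp⟩
    · exact ⟨-1, by ring, by simp [diag_neg_one]⟩

theorem sl2_card_center_odd (h2 : (2 : F) ≠ 0) :
    Nat.card (Subgroup.center (Matrix.SpecialLinearGroup (Fin 2) F)) = 2 := by
  rw [Nat.card_eq_two_iff]
  refine ⟨⟨1, (sl2_mem_center_iff 1).mpr (Or.inl rfl)⟩, ⟨-1, (sl2_mem_center_iff _).mpr (Or.inr rfl)⟩,
    ?_, ?_⟩
  · intro h
    have h' : (1 : Matrix.SpecialLinearGroup (Fin 2) F) = -1 := congrArg Subtype.val h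
    have h3 := congrArg (fun z : Matrix.SpecialLinearGroup (Fin 2) F =>
      (z : Matrix (Fin 2) (Fin 2) F) 0 0) h'
    simp at h3
    apply h2
    linear_combination h3
  · ext ⟨z, hz⟩
    simp only [Set.mem_insert_iff, Set.mem_singleton_iff, Set.mem_univ, iff_true, Subtype.mk.injEq]
    exact (sl2_mem_center_iff z).mp hz

theorem sl2_neg_one_eq_one (h2 : (2 : F) = 0) : (-1 : Matrix.SpecialLinearGroup (Fin 2) F) = 1 := by
  apply Subtype.ext
  rw [Matrix.SpecialLinearGroup.coe_neg, Matrix.SpecialLinearGroup.coe_one]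
  have : (-1 : F) = 1 := by linear_combination (-1 : F) * h2
  ext i j
  fin_cases i <;> fin_cases j <;> simp [this]

theorem sl2_card_center_even (h2 : (2 : F) = 0) :
    Nat.card (Subgroup.center (Matrix.SpecialLinearGroup (Fin 2) F)) = 1 := by
  have : Subgroup.center (Matrix.SpecialLinearGroup (Fin 2) F) = ⊥ := by
    rw [Subgroup.eq_bot_iff_forall]
    intro z hz
    rcases (sl2_mem_center_iff z).mp hz with h | h
    · exact h
    · rw [h, sl2_neg_one_eq_one h2]
  rw [this, Subgroup.card_bot]

theorem sl2_trace_neg (h : Matrix.SpecialLinearGroup (Fin 2) F) :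
    ((-h : Matrix.SpecialLinearGroup (Fin 2) F) : Matrix (Fin 2) (Fin 2) F).trace =
      -(h : Matrix (Fin 2) (Fin 2) F).trace := by
  rw [Matrix.SpecialLinearGroup.coe_neg, Matrix.trace_neg]

theorem sl2_mul_neg_one (h : Matrix.SpecialLinearGroup (Fin 2) F) : h * -1 = -h := by
  apply Subtype.ext
  simp

end sl2

section count

variable {F : Type*} [Field F]

/-- Elements of `SL₂` with prescribed trace. -/
def trFiber (t : F) : Set (Matrix.SpecialLinearGroup (Fin 2) F) :=
  {h | (h : Matrix (Fin 2) (Fin 2) F).trace = t}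

theorem mem_trFiber (t : F) (h : Matrix.SpecialLinearGroup (Fin 2) F) :
    h ∈ trFiber t ↔ (h : Matrix (Fin 2) (Fin 2) F).trace = t := Iff.rfl

theorem card_trFiber [Fintype F] (t : F) :
    (trFiber t).ncard =
      Fintype.card F * (Fintype.card F - 1) +
        Nat.card {a : F // a ^ 2 - t * a + 1 = 0} * Fintype.card F := by
  classical
  let f1 : F × Fˣ → Matrix.SpecialLinearGroup (Fin 2) F := fun x =>
    ⟨!![x.1, (x.2 : F); (x.1 * (t - x.1) - 1) * (x.2 : F)⁻¹, t - x.1], by
      rw [Matrix.det_fin_two_of]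
      have := x.2.ne_zero
      field_simp
      ring⟩
  let f2 : {a : F // a ^ 2 - t * a + 1 = 0} × F → Matrix.SpecialLinearGroup (Fin 2) F := fun x =>
    ⟨!![(x.1 : F), 0; x.2, t - x.1], by
      rw [Matrix.det_fin_two_of]
      linear_combination -x.1.2⟩
  have hf1 : ∀ x, ((f1 x : Matrix.SpecialLinearGroup (Fin 2) F) : Matrix (Fin 2) (Fin 2) F) =
      !![x.1, (x.2 : F); (x.1 * (t - x.1) - 1) * (x.2 : F)⁻¹, t - x.1] := fun x => rfl
  have hf2 : ∀ x, ((f2 x : Matrix.SpecialLinearGroup (Fin 2) F) : Matrix (Fin 2) (Fin 2) F) =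
      !![(x.1 : F), 0; x.2, t - x.1] := fun x => rfl
  have hinj : Function.Injective (Sum.elim f1 f2) := by
    apply Function.Injective.sumElim
    · rintro ⟨a, b⟩ ⟨a', b'⟩ hxy
      have e := congrArg (fun z : Matrix.SpecialLinearGroup (Fin 2) F =>
        (z : Matrix (Fin 2) (Fin 2) F)) hxy
      simp only [hf1] at e
      have e00 := congrFun (congrFun e 0) 0
      have e01 := congrFun (congrFun e 0) 1
      simp at e00 e01
      exact Prod.ext e00 (Units.ext e01)
    · rintro ⟨⟨a, ha⟩, c⟩ ⟨⟨a', ha'⟩, c'⟩ hxy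
      have e := congrArg (fun z : Matrix.SpecialLinearGroup (Fin 2) F =>
        (z : Matrix (Fin 2) (Fin 2) F)) hxy
      simp only [hf2] at e
      have e00 := congrFun (congrFun e 0) 0
      have e10 := congrFun (congrFun e 1) 0
      simp at e00 e10
      subst e00
      subst e10
      rfl
    · rintro ⟨a, b⟩ ⟨a', c⟩ hxy
      have e := congrArg (fun z : Matrix.SpecialLinearGroup (Fin 2) F =>
        (z : Matrix (Fin 2) (Fin 2) F)) hxy
      simp only [hf1, hf2] at e
      have e01 := congrFun (congrFun e 0) 1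
      simp at e01
  have hrange : Set.range (Sum.elim f1 f2) = trFiber t := by
    ext h
    simp only [Set.mem_range, mem_trFiber]
    constructor
    · rintro ⟨x | x, rfl⟩
      · simp [hf1, Matrix.trace_fin_two]
      · simp [hf2, Matrix.trace_fin_two]
    · intro ht
      rw [Matrix.trace_fin_two] at ht
      have hd := h.det_coe
      rw [Matrix.det_fin_two] at hd
      by_cases hq : (h : Matrix (Fin 2) (Fin 2) F) 0 1 = 0
      · rw [hq, zero_mul, sub_zero] at hd
        refine ⟨Sum.inr (⟨(h : Matrix (Fin 2) (Fin 2) F) 0 0, ?_⟩,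
          (h : Matrix (Fin 2) (Fin 2) F) 1 0), ?_⟩
        · rw [← ht]
          linear_combination -hd
        · apply Subtype.ext
          simp only [Sum.elim_inr]
          rw [hf2]
          ext i j
          fin_cases i <;> fin_cases j <;> simp [hq]
          first | linear_combination ht | linear_combination -ht
      · refine ⟨Sum.inl ((h : Matrix (Fin 2) (Fin 2) F) 0 0, Units.mk0 _ hq), ?_⟩
        apply Subtype.ext
        simp only [Sum.elim_inl]
        rw [hf1]
        ext i j
        fin_cases i <;> fin_cases j <;> simp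
        · field_simp
          rw [← ht]
          linear_combination hd
        · first | linear_combination ht | linear_combination -ht
  rw [← hrange, ← Nat.card_coe_set_eq, Nat.card_range_of_injective hinj, Nat.card_sum,
    Nat.card_prod, Nat.card_prod, Nat.card_units, Nat.card_eq_fintype_card (α := F)]

theorem card_roots_none (t : F) (h : ∀ a : F, a ^ 2 - t * a + 1 ≠ 0) :
    Nat.card {a : F // a ^ 2 - t * a + 1 = 0} = 0 := by
  haveI : IsEmpty {a : F // a ^ 2 - t * a + 1 = 0} := ⟨fun ⟨a, ha⟩ => h a ha⟩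
  exact Nat.card_of_isEmpty

theorem roots_eq (t α : F) (hα : α ^ 2 - t * α + 1 = 0) (a : F) :
    a ^ 2 - t * a + 1 = 0 ↔ a = α ∨ a = t - α := by
  have : a ^ 2 - t * a + 1 = (a - α) * (a - (t - α)) := by linear_combination hα
  rw [this, mul_eq_zero, sub_eq_zero, sub_eq_zero]

theorem card_roots_two (t α : F) (hα : α ^ 2 - t * α + 1 = 0) (hne : α ≠ t - α) :
    Nat.card {a : F // a ^ 2 - t * a + 1 = 0} = 2 := by
  rw [Nat.card_eq_two_iff]
  refine ⟨⟨α, hα⟩, ⟨t - α, (roots_eq t α hα _).mpr (Or.inr rfl)⟩, ?_, ?_⟩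
  · intro h
    exact hne (congrArg Subtype.val h)
  · ext ⟨a, ha⟩
    simp only [Set.mem_insert_iff, Set.mem_singleton_iff, Set.mem_univ, iff_true, Subtype.mk.injEq]
    exact (roots_eq t α hα a).mp ha

theorem card_roots_one (t α : F) (hα : α ^ 2 - t * α + 1 = 0) (he : α = t - α) :
    Nat.card {a : F // a ^ 2 - t * a + 1 = 0} = 1 := by
  rw [Nat.card_eq_one_iff_unique]
  refine ⟨⟨?_⟩, ⟨⟨α, hα⟩⟩⟩
  rintro ⟨a, ha⟩ ⟨b, hb⟩
  apply Subtype.ext
  show a = b
  have h1 := (roots_eq t α hα a).mp ha
  have h2 := (roots_eq t α hα b).mp hb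
  rw [← he, or_self] at h1 h2
  rw [h1, h2]

theorem card_roots_neg (t : F) :
    Nat.card {a : F // a ^ 2 - (-t) * a + 1 = 0} = Nat.card {a : F // a ^ 2 - t * a + 1 = 0} := by
  apply Nat.card_congr
  refine (Equiv.neg F).subtypeEquiv ?_
  intro a
  simp only [Equiv.neg_apply]
  constructor <;> intro h <;> linear_combination h

theorem sl2_index_centralizer_of_conj [Fintype F] (g : Matrix.SpecialLinearGroup (Fin 2) F) (t : F)
    (ht : (g : Matrix (Fin 2) (Fin 2) F).trace = t)
    (hconj : ∀ h : Matrix.SpecialLinearGroup (Fin 2) F,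
      (h : Matrix (Fin 2) (Fin 2) F).trace = t → IsConj g h) :
    (Subgroup.centralizer ({g} : Set (Matrix.SpecialLinearGroup (Fin 2) F))).index =
      (trFiber t).ncard := by
  rw [index_centralizer_eq_card, ← Nat.card_coe_set_eq]
  apply Nat.card_congr
  apply Equiv.subtypeEquivRight
  intro h
  rw [mem_trFiber]
  exact ⟨fun hc => (sl_trace_of_isConj hc).symm.trans ht, hconj h⟩

theorem sl2_index_centralizer_unipotent [Fintype F] (p : ℕ) [Fact p.Prime] [CharP F p]
    (g : Matrix.SpecialLinearGroup (Fin 2) F)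
    (ht : (g : Matrix (Fin 2) (Fin 2) F).trace = 2) (h1 : g ≠ 1) :
    (Subgroup.centralizer ({g} : Set (Matrix.SpecialLinearGroup (Fin 2) F))).index *
      Nat.card {a : F // a ^ 2 = 1} = Fintype.card F ^ 2 - 1 := by
  obtain ⟨b, hb, hc⟩ := exists_isConj_slU p g (orderOf_eq_of_trace p g ht h1)
  have e1 : (Subgroup.centralizer ({g} : Set (Matrix.SpecialLinearGroup (Fin 2) F))).index =
      (Subgroup.centralizer ({slU b} : Set (Matrix.SpecialLinearGroup (Fin 2) F))).index := by
    rw [index_centralizer_eq_card, index_centralizer_eq_card]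
    apply Nat.card_congr
    apply Equiv.subtypeEquivRight
    intro h
    exact ⟨fun h' => hc.symm.trans h', fun h' => hc.trans h'⟩
  have e2 := Subgroup.card_mul_index
    (Subgroup.centralizer ({slU b} : Set (Matrix.SpecialLinearGroup (Fin 2) F)))
  rw [card_centralizer_slU b hb, card_SL2] at e2
  rw [e1]
  have hq : 0 < Fintype.card F := Fintype.card_pos
  apply Nat.eq_of_mul_eq_mul_left hq
  rw [← e2]
  ring

end count

section psl

variable {F : Type*} [Field F] [Fintype F]

theorem psl2_index_even (h2 : (2 : F) = 0) (g : Matrix.SpecialLinearGroup (Fin 2) F) :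
    (Subgroup.centralizer ({(QuotientGroup.mk g : Matrix.ProjectiveSpecialLinearGroup (Fin 2) F)} :
      Set (Matrix.ProjectiveSpecialLinearGroup (Fin 2) F))).index =
    (Subgroup.centralizer ({g} : Set (Matrix.SpecialLinearGroup (Fin 2) F))).index := by
  have h1 := card_conj_quotient (Subgroup.center (Matrix.SpecialLinearGroup (Fin 2) F)) g
  rw [sl2_card_center_even h2, one_mul] at h1
  rw [h1, index_centralizer_eq_card]
  apply Nat.card_congr
  apply Equiv.subtypeEquivRight
  intro h
  constructor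
  · rintro ⟨n, hn, hc⟩
    rcases (sl2_mem_center_iff n).mp hn with rfl | rfl
    · rwa [mul_one] at hc
    · rwa [sl2_neg_one_eq_one h2, mul_one] at hc
  · intro hc
    exact ⟨1, Subgroup.one_mem _, by rwa [mul_one]⟩

theorem psl2_index_odd_of_trace_ne_zero (h2 : (2 : F) ≠ 0)
    (g : Matrix.SpecialLinearGroup (Fin 2) F)
    (ht0 : (g : Matrix (Fin 2) (Fin 2) F).trace ≠ 0) :
    (Subgroup.centralizer ({(QuotientGroup.mk g : Matrix.ProjectiveSpecialLinearGroup (Fin 2) F)} :
      Set (Matrix.ProjectiveSpecialLinearGroup (Fin 2) F))).index =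
    (Subgroup.centralizer ({g} : Set (Matrix.SpecialLinearGroup (Fin 2) F))).index := by
  have h1 := card_conj_quotient (Subgroup.center (Matrix.SpecialLinearGroup (Fin 2) F)) g
  rw [sl2_card_center_odd h2] at h1
  have h3 : Nat.card {h : Matrix.SpecialLinearGroup (Fin 2) F //
      ∃ n ∈ Subgroup.center (Matrix.SpecialLinearGroup (Fin 2) F), IsConj g (h * n)} =
      ({h : Matrix.SpecialLinearGroup (Fin 2) F | IsConj g h} ∪
        (fun h => -h) '' {h : Matrix.SpecialLinearGroup (Fin 2) F | IsConj g h}).ncard := by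
    rw [← Nat.card_coe_set_eq]
    apply Nat.card_congr
    apply Equiv.subtypeEquivRight
    intro h
    simp only [Set.mem_union, Set.mem_ofPred_eq, Set.mem_image]
    constructor
    · rintro ⟨n, hn, hc⟩
      rcases (sl2_mem_center_iff n).mp hn with rfl | rfl
      · left
        rwa [mul_one] at hc
      · right
        rw [sl2_mul_neg_one] at hc
        exact ⟨-h, hc, neg_neg h⟩
    · rintro (hc | ⟨k, hk, rfl⟩)
      · exact ⟨1, Subgroup.one_mem _, by rwa [mul_one]⟩
      · exact ⟨-1, (sl2_mem_center_iff _).mpr (Or.inr rfl), by rwa [sl2_mul_neg_one, neg_neg]⟩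
  have h4 : Disjoint {h : Matrix.SpecialLinearGroup (Fin 2) F | IsConj g h}
      ((fun h => -h) '' {h : Matrix.SpecialLinearGroup (Fin 2) F | IsConj g h}) := by
    rw [Set.disjoint_left]
    rintro h hc ⟨k, hk, rfl⟩
    have e1 := sl_trace_of_isConj (hc : IsConj g (-k))
    have e2 := sl_trace_of_isConj (hk : IsConj g k)
    rw [sl2_trace_neg, ← e2] at e1
    apply ht0
    have h5 : (2 : F) * (g : Matrix (Fin 2) (Fin 2) F).trace = 0 := by linear_combination e1
    rcases mul_eq_zero.mp h5 with h | h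
    · exact absurd h h2
    · exact h
  rw [h3, Set.ncard_union_eq h4, Set.ncard_image_of_injective _ neg_injective,
    ← Nat.card_coe_set_eq] at h1
  rw [index_centralizer_eq_card g]
  have h6 : Nat.card ({h : Matrix.SpecialLinearGroup (Fin 2) F | IsConj g h} :
      Set (Matrix.SpecialLinearGroup (Fin 2) F)) =
      Nat.card {h : Matrix.SpecialLinearGroup (Fin 2) F // IsConj g h} := rfl
  rw [h6] at h1
  omega

theorem psl2_index_odd_trace_zero (h2 : (2 : F) ≠ 0)
    (g : Matrix.SpecialLinearGroup (Fin 2) F)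
    (hg0 : (g : Matrix (Fin 2) (Fin 2) F).trace = 0)
    (hconj : ∀ h : Matrix.SpecialLinearGroup (Fin 2) F,
      (h : Matrix (Fin 2) (Fin 2) F).trace = 0 → IsConj g h) :
    2 * (Subgroup.centralizer ({(QuotientGroup.mk g : Matrix.ProjectiveSpecialLinearGroup (Fin 2) F)} :
      Set (Matrix.ProjectiveSpecialLinearGroup (Fin 2) F))).index = (trFiber (0 : F)).ncard := by
  have h1 := card_conj_quotient (Subgroup.center (Matrix.SpecialLinearGroup (Fin 2) F)) g
  rw [sl2_card_center_odd h2] at h1
  rw [h1, ← Nat.card_coe_set_eq]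
  apply Nat.card_congr
  apply Equiv.subtypeEquivRight
  intro h
  rw [mem_trFiber]
  constructor
  · rintro ⟨n, hn, hc⟩
    have e1 := sl_trace_of_isConj hc
    rcases (sl2_mem_center_iff n).mp hn with rfl | rfl
    · rw [mul_one] at e1
      rw [← e1, hg0]
    · rw [sl2_mul_neg_one, sl2_trace_neg, hg0] at e1
      linear_combination e1
  · intro ht
    exact ⟨1, Subgroup.one_mem _, by rw [mul_one]; exact hconj h ht⟩

end psl

end Cfsg.Agent.Lib.Helper49
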