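import Mathlib

set_option autoImplicit false
set_option linter.style.haveILetI false
set_option linter.unusedSectionVars false

namespace Cfsg.Agent.Lib.Helper49

open Matrix

section general

variable {F : Type*} [Field F]

/-- Cayley–Hamilton for `2 × 2` matrices of determinant one. -/
theorem m2_CH (M : Matrix (Fin 2) (Fin 2) F) (hdet : M.det = 1) (t : F) (ht : M 0 0 + M 1 1 = t) :
    M * M = t • M - 1 := by
  rw [Matrix.det_fin_two] at hdet
  ext i j
  fin_cases i <;> fin_cases j
  · simp [Matrix.mul_apply, Fin.sum_univ_two]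
    linear_combination (-1 : F) * hdet + M 0 0 * ht
  · simp [Matrix.mul_apply, Fin.sum_univ_two]
    linear_combination M 0 1 * ht
  · simp [Matrix.mul_apply, Fin.sum_univ_two]
    linear_combination M 1 0 * ht
  · simp [Matrix.mul_apply, Fin.sum_univ_two]
    linear_combination (-1 : F) * hdet + M 1 1 * ht

/-- The power criterion in `PSL₂`. -/
theorem psl2_pow_eq_one_iff (A : Matrix.SpecialLinearGroup (Fin 2) F) (k : ℕ) :
    (QuotientGroup.mk A : Matrix.ProjectiveSpecialLinearGroup (Fin 2) F) ^ k = 1 ↔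
      ∃ c : F, c ^ 2 = 1 ∧
        (A : Matrix (Fin 2) (Fin 2) F) ^ k = c • (1 : Matrix (Fin 2) (Fin 2) F) := by
  rw [← QuotientGroup.mk_pow, QuotientGroup.eq_one_iff, Matrix.SpecialLinearGroup.mem_center_iff]
  simp only [Fintype.card_fin]
  constructor
  · rintro ⟨c, hc, hcA⟩
    refine ⟨c, hc, ?_⟩
    rw [← Matrix.SpecialLinearGroup.coe_pow, ← hcA, scalar_apply, smul_one_eq_diagonal]
  · rintro ⟨c, hc, hk⟩
    refine ⟨c, hc, ?_⟩
    rw [Matrix.SpecialLinearGroup.coe_pow, hk, scalar_apply, smul_one_eq_diagonal]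

open Polynomial in
/-- A polynomial vanishing at both (distinct) eigenvalues kills the matrix. -/
theorem m2_aeval_eq_zero_of_roots (M : Matrix (Fin 2) (Fin 2) F) (t : F)
    (hCH : M * M = t • M - 1) (a b : F) (hab : a ≠ b) (hsum : a + b = t) (hprod : a * b = 1)
    (g : F[X]) (ga : g.eval a = 0) (gb : g.eval b = 0) : aeval M g = 0 := by
  have h1 : (X - C a) ∣ g := dvd_iff_isRoot.mpr ga
  have h2 : (X - C b) ∣ g := dvd_iff_isRoot.mpr gb
  have hcop : IsCoprime (X - C a) (X - C b) :=
    isCoprime_X_sub_C_of_isUnit_sub (sub_ne_zero.mpr hab).isUnit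
  obtain ⟨r, hr⟩ := hcop.mul_dvd h1 h2
  rw [hr, map_mul]
  have h0 : aeval M ((X - C a) * (X - C b)) = 0 := by
    simp only [map_mul, map_sub, aeval_X, aeval_C]
    rw [Algebra.algebraMap_eq_smul_one, Algebra.algebraMap_eq_smul_one, sub_mul, mul_sub, mul_sub,
      hCH]
    simp only [smul_mul_assoc, mul_smul_comm, mul_one, one_mul, smul_smul]
    rw [mul_comm b a, hprod, ← hsum]
    module
  rw [h0, zero_mul]

/-- Split semisimple case: powers of a matrix with distinct eigenvalues `a`, `a⁻¹`. -/
theorem m2_pow_of_split (M : Matrix (Fin 2) (Fin 2) F) (t : F) (hCH : M * M = t • M - 1)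
    (a : F) (ha : a ^ 2 - t * a + 1 = 0) (ha1 : a ^ 2 ≠ 1) (k : ℕ) (c : F) (h1 : a ^ k = c)
    (h2 : a⁻¹ ^ k = c) : M ^ k = c • (1 : Matrix (Fin 2) (Fin 2) F) := by
  have ha0 : a ≠ 0 := by
    rintro rfl
    simp at ha
  have hab : a ≠ a⁻¹ := by
    intro h
    apply ha1
    have : a * a = a * a⁻¹ := by rw [← h]
    rw [mul_inv_cancel₀ ha0] at this
    rw [pow_two, this]
  have hsum : a + a⁻¹ = t := by
    field_simp
    linear_combination ha
  have h := m2_aeval_eq_zero_of_roots M t hCH a a⁻¹ hab hsum (mul_inv_cancel₀ ha0)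
    (Polynomial.X ^ k - Polynomial.C c) (by simp [h1]) (by simp [h2])
  simp only [map_sub, map_pow, Polynomial.aeval_X, Polynomial.aeval_C] at h
  rw [Algebra.algebraMap_eq_smul_one] at h
  exact sub_eq_zero.mp h

/-- Double root case. -/
theorem m2_pow_char_of_double (p : ℕ) [Fact p.Prime] [CharP F p] (M : Matrix (Fin 2) (Fin 2) F)
    (t : F) (hCH : M * M = t • M - 1) (e : F) (he : e ^ 2 = 1) (het : 2 * e = t) :
    M ^ p = e ^ p • (1 : Matrix (Fin 2) (Fin 2) F) := by
  have hpp : p.Prime := Fact.out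
  have hsq : (M - e • (1 : Matrix (Fin 2) (Fin 2) F)) ^ 2 = 0 := by
    rw [pow_two, sub_mul, mul_sub, mul_sub, hCH]
    simp only [smul_mul_assoc, mul_smul_comm, mul_one, one_mul, smul_smul]
    have hee : e * e = 1 := by rw [← pow_two]; exact he
    rw [hee, ← het]
    module
  have hpow : (M - e • (1 : Matrix (Fin 2) (Fin 2) F)) ^ p = 0 := by
    have h2p : 2 ≤ p := hpp.two_le
    obtain ⟨k, rfl⟩ := Nat.exists_eq_add_of_le h2p
    rw [pow_add, hsq, zero_mul]
  have hsplit : M = e • (1 : Matrix (Fin 2) (Fin 2) F) + (M - e • (1 : Matrix (Fin 2) (Fin 2) F)) := by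
    abel
  have hcomm : Commute (e • (1 : Matrix (Fin 2) (Fin 2) F))
      (M - e • (1 : Matrix (Fin 2) (Fin 2) F)) :=
    (Commute.one_left _).smul_left e
  conv_lhs => rw [hsplit]
  rw [add_pow_char_of_commute p hcomm, hpow, add_zero, smul_pow, one_pow]

end general

section quad

variable {F : Type*} [Field F] [Fintype F]

theorem qa_finite (a b : F) : Finite (QuadraticAlgebra F a b) :=
  Finite.of_equiv _ (QuadraticAlgebra.equivProd a b).symm

theorem qa_card (a b : F) : Nat.card (QuadraticAlgebra F a b) = Fintype.card F ^ 2 := by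
  rw [Nat.card_congr (QuadraticAlgebra.equivProd a b), Nat.card_prod, Nat.card_eq_fintype_card,
    pow_two]

/-- There is a trace `t` such that `X² - tX + 1` has no root. -/
theorem exists_aniso (F : Type*) [Field F] [Fintype F] : ∃ t : F, ∀ r : F, r ^ 2 ≠ -1 + t * r := by
  classical
  by_contra hcon
  push Not at hcon
  choose r hr using hcon
  have hr0 : ∀ t, r t ≠ 0 := by
    intro t h0
    have := hr t
    rw [h0] at this
    simp at this
  have hinj : Function.Injective (fun t => Units.mk0 (r t) (hr0 t)) := by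
    intro t t' h
    have h1 : r t = r t' := congrArg Units.val h
    have h2 := hr t
    have h3 := hr t'
    rw [h1] at h2
    have h4 : (t - t') * r t' = 0 := by linear_combination h3 - h2
    rcases mul_eq_zero.mp h4 with h5 | h5
    · exact sub_eq_zero.mp h5
    · exact absurd h5 (hr0 t')
  have hle := Fintype.card_le_of_injective _ hinj
  rw [Fintype.card_units] at hle
  have : 0 < Fintype.card F := Fintype.card_pos
  omega

variable {t : F} [hF : Fact (∀ r : F, r ^ 2 ≠ -1 + t * r)]

open QuadraticAlgebra in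
/-- The Frobenius map of the quadratic extension is the conjugation. -/
theorem qa_frob (p : ℕ) [Fact p.Prime] [CharP F p] (z : QuadraticAlgebra F (-1) t) :
    z ^ Fintype.card F = star z := by
  classical
  obtain ⟨n, -, hqn⟩ := FiniteField.card F p
  haveI : CharP (QuadraticAlgebra F (-1) t) p :=
    charP_of_injective_algebraMap (QuadraticAlgebra.algebraMap_injective) p
  have hadd : ∀ x y : QuadraticAlgebra F (-1) t,
      (x + y) ^ Fintype.card F = x ^ Fintype.card F + y ^ Fintype.card F := by
    intro x y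
    rw [hqn]
    exact add_pow_char_pow x y p n
  have hC : ∀ c : F, (algebraMap F (QuadraticAlgebra F (-1) t) c) ^ Fintype.card F =
      algebraMap F _ c := by
    intro c
    rw [← map_pow, FiniteField.pow_card]
  have hω2 : (ω : QuadraticAlgebra F (-1) t) * ω = algebraMap F _ (-1) + algebraMap F _ t * ω :=
    omega_mul_omega_eq_algebraMap
  set s := (ω : QuadraticAlgebra F (-1) t) ^ Fintype.card F with hs
  have hs2 : s * s = algebraMap F _ (-1) + algebraMap F _ t * s := by
    rw [hs, ← mul_pow, hω2, hadd, mul_pow, hC, hC]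
  have hstar : star (ω : QuadraticAlgebra F (-1) t) = algebraMap F _ t - ω := by
    ext <;> simp
  have hdecomp : ∀ z : QuadraticAlgebra F (-1) t,
      z = algebraMap F _ z.re + algebraMap F _ z.im * ω := by
    intro z
    ext <;> simp
  have hfac : (s - ω) * (s - star ω) = 0 := by
    rw [hstar]
    linear_combination hs2 - hω2
  rcases mul_eq_zero.mp hfac with h | h
  · exfalso
    have hsω : s = ω := sub_eq_zero.mp h
    have hall : ∀ z : QuadraticAlgebra F (-1) t, z ^ Fintype.card F = z := by
      intro z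
      conv_lhs => rw [hdecomp z]
      rw [hadd, mul_pow, hC, hC, ← hs, hsω]
      exact (hdecomp z).symm
    haveI := qa_finite (F := F) (-1) t
    letI : Fintype (QuadraticAlgebra F (-1) t) := Fintype.ofFinite _
    have hq1 : 1 < Fintype.card F := Fintype.one_lt_card
    have hdeg := FiniteField.X_pow_card_sub_X_natDegree_eq (QuadraticAlgebra F (-1) t) hq1
    have hne : (Polynomial.X ^ Fintype.card F - Polynomial.X :
        Polynomial (QuadraticAlgebra F (-1) t)) ≠ 0 := by
      intro h0
      rw [h0] at hdeg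
      simp at hdeg
      omega
    have hroots : ∀ z : QuadraticAlgebra F (-1) t,
        z ∈ (Polynomial.X ^ Fintype.card F - Polynomial.X :
          Polynomial (QuadraticAlgebra F (-1) t)).roots := by
      intro z
      rw [Polynomial.mem_roots hne]
      simp [hall z]
    have hcard : Fintype.card (QuadraticAlgebra F (-1) t) ≤ Fintype.card F := by
      calc Fintype.card (QuadraticAlgebra F (-1) t)
          = (Finset.univ : Finset (QuadraticAlgebra F (-1) t)).card := rfl
        _ ≤ (Polynomial.X ^ Fintype.card F - Polynomial.X :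
              Polynomial (QuadraticAlgebra F (-1) t)).roots.toFinset.card :=
            Finset.card_le_card (fun z _ => Multiset.mem_toFinset.mpr (hroots z))
        _ ≤ Multiset.card (Polynomial.X ^ Fintype.card F - Polynomial.X :
              Polynomial (QuadraticAlgebra F (-1) t)).roots := Multiset.toFinset_card_le _
        _ ≤ _ := Polynomial.card_roots' _
        _ = Fintype.card F := hdeg
    have h2 := qa_card (F := F) (-1) t
    rw [Nat.card_eq_fintype_card] at h2
    nlinarith
  · have hsω : s = star ω := sub_eq_zero.mp h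
    conv_lhs => rw [hdecomp z]
    rw [hadd, mul_pow, hC, hC, ← hs, hsω]
    conv_rhs => rw [hdecomp z]
    rw [star_add, star_mul]
    congr 1
    · ext <;> simp
    · rw [mul_comm]
      congr 1
      ext <;> simp

theorem qa_pow_card_add_one (p : ℕ) [Fact p.Prime] [CharP F p] (z : QuadraticAlgebra F (-1) t) :
    z ^ (Fintype.card F + 1) = algebraMap F _ (QuadraticAlgebra.norm z) := by
  rw [pow_succ, qa_frob p, QuadraticAlgebra.algebraMap_norm_eq_mul_star, mul_comm]

end quad

section anisoMat

variable {F : Type*} [Field F] [Fintype F] {t : F} [hF : Fact (∀ r : F, r ^ 2 ≠ -1 + t * r)]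

/-- The algebra map from the quadratic extension to `2 × 2` matrices sending `ω` to `M`. -/
noncomputable def qaToMat (M : Matrix (Fin 2) (Fin 2) F) (hCH : M * M = t • M - 1) :
    QuadraticAlgebra F (-1) t →ₐ[F] Matrix (Fin 2) (Fin 2) F :=
  QuadraticAlgebra.lift ⟨M, by rw [hCH]; module⟩

theorem qaToMat_apply (M : Matrix (Fin 2) (Fin 2) F) (hCH : M * M = t • M - 1)
    (z : QuadraticAlgebra F (-1) t) :
    qaToMat M hCH z = z.re • (1 : Matrix (Fin 2) (Fin 2) F) + z.im • M := rfl

theorem qaToMat_injective (M : Matrix (Fin 2) (Fin 2) F) (hCH : M * M = t • M - 1) :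
    Function.Injective (qaToMat M hCH) :=
  (qaToMat M hCH).toRingHom.injective

theorem qaToMat_omega (M : Matrix (Fin 2) (Fin 2) F) (hCH : M * M = t • M - 1) :
    qaToMat M hCH (QuadraticAlgebra.omega) = M := by
  simp [qaToMat_apply]

theorem m2_pow_eq_smul_iff (M : Matrix (Fin 2) (Fin 2) F) (hCH : M * M = t • M - 1) (k : ℕ) (c : F) :
    M ^ k = c • (1 : Matrix (Fin 2) (Fin 2) F) ↔
      (QuadraticAlgebra.omega : QuadraticAlgebra F (-1) t) ^ k = algebraMap F _ c := by
  rw [← (qaToMat_injective M hCH).eq_iff, map_pow, qaToMat_omega, AlgHom.commutes,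
    Algebra.algebraMap_eq_smul_one]

theorem qa_omega_pow_card_add_one (p : ℕ) [Fact p.Prime] [CharP F p] :
    (QuadraticAlgebra.omega : QuadraticAlgebra F (-1) t) ^ (Fintype.card F + 1) = 1 := by
  rw [qa_pow_card_add_one p]
  have : QuadraticAlgebra.norm (QuadraticAlgebra.omega : QuadraticAlgebra F (-1) t) = 1 := by
    simp [QuadraticAlgebra.norm_def]
  rw [this, map_one]

theorem m2_aniso_pow_card_add_one (p : ℕ) [Fact p.Prime] [CharP F p]
    (M : Matrix (Fin 2) (Fin 2) F) (hCH : M * M = t • M - 1) : M ^ (Fintype.card F + 1) = 1 := by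
  have := (m2_pow_eq_smul_iff M hCH (Fintype.card F + 1) 1).mpr (by
    rw [qa_omega_pow_card_add_one p, map_one])
  simpa using this

theorem m2_aniso_pow_of_dvd (p : ℕ) [Fact p.Prime] [CharP F p]
    (M : Matrix (Fin 2) (Fin 2) F) (hCH : M * M = t • M - 1) (m : ℕ)
    (hm : Fintype.card F + 1 ∣ 2 * m) :
    ∃ c : F, c ^ 2 = 1 ∧ M ^ m = c • (1 : Matrix (Fin 2) (Fin 2) F) := by
  have h1 := qa_omega_pow_card_add_one (t := t) p
  have h2 : ((QuadraticAlgebra.omega : QuadraticAlgebra F (-1) t) ^ m) *
      (QuadraticAlgebra.omega ^ m) = 1 := by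
    rw [← pow_add, ← two_mul]
    obtain ⟨j, hj⟩ := hm
    rw [hj, pow_mul, h1, one_pow]
  rcases mul_self_eq_one_iff.mp h2 with h | h
  · exact ⟨1, by ring, (m2_pow_eq_smul_iff M hCH m 1).mpr (by rw [h, map_one])⟩
  · exact ⟨-1, by ring, (m2_pow_eq_smul_iff M hCH m (-1)).mpr (by rw [h, map_neg, map_one])⟩

theorem exists_qa_orderOf : ∃ β : QuadraticAlgebra F (-1) t, orderOf β = Fintype.card F + 1 := by
  haveI := qa_finite (F := F) (-1) t
  obtain ⟨g, hg⟩ := IsCyclic.exists_generator (α := (QuadraticAlgebra F (-1) t)ˣ)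
  have hq1 : 1 < Fintype.card F := Fintype.one_lt_card
  obtain ⟨j, hj⟩ : ∃ j, Fintype.card F = j + 2 := ⟨Fintype.card F - 2, by omega⟩
  have hfact : Fintype.card F ^ 2 - 1 = (Fintype.card F - 1) * (Fintype.card F + 1) := by
    rw [hj]
    have : (j + 2) ^ 2 = (j + 2 - 1) * (j + 2 + 1) + 1 := by
      rw [show j + 2 - 1 = j + 1 by omega]
      ring
    omega
  have hord : orderOf g = Fintype.card F ^ 2 - 1 := by
    rw [orderOf_eq_card_of_forall_mem_zpowers hg, Nat.card_units, qa_card]
  refine ⟨((g ^ (Fintype.card F - 1) : (QuadraticAlgebra F (-1) t)ˣ) : QuadraticAlgebra F (-1) t), ?_⟩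
  rw [orderOf_units, orderOf_pow' _ (by omega), hord, hfact,
    Nat.gcd_eq_right (Dvd.intro _ rfl)]
  exact Nat.mul_div_cancel_left _ (by omega)

theorem qa_norm_of_pow_eq_one (p : ℕ) [Fact p.Prime] [CharP F p] (β : QuadraticAlgebra F (-1) t)
    (h : β ^ (Fintype.card F + 1) = 1) : QuadraticAlgebra.norm β = 1 := by
  rw [qa_pow_card_add_one p] at h
  apply QuadraticAlgebra.algebraMap_injective (R := F) (a := -1) (b := t)
  rw [h, map_one]

end anisoMat

theorem m2_det_add_smul {F : Type*} [Field F] (M : Matrix (Fin 2) (Fin 2) F) (hdet : M.det = 1)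
    (t : F) (ht : M 0 0 + M 1 1 = t) (x y : F) :
    (x • (1 : Matrix (Fin 2) (Fin 2) F) + y • M).det = x ^ 2 + t * x * y + y ^ 2 := by
  rw [Matrix.det_fin_two] at hdet ⊢
  simp only [Matrix.add_apply, Matrix.smul_apply, Matrix.one_apply_eq, smul_eq_mul, mul_one,
    Matrix.one_apply_ne, ne_eq, zero_ne_one, not_false_eq_true, one_ne_zero, mul_zero, zero_add]
  rw [← ht]
  linear_combination y ^ 2 * hdet

end Cfsg.Agent.Lib.Helper49
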