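import Mathlib
import Cfsg.Agent.Lib.Helper49.Sourour3

set_option autoImplicit false

namespace Cfsg.Agent.Lib.Helper49

/-- Certificate table: for the matrix with rows `(0,b,c), (1,e,f), (0,h,i)` over `ZMod 3` of
determinant one, a factorisation into two matrices with characteristic polynomial `X³ - X - 1`,
both encoded by their base-3 digits. -/
def tbl33 : List ℕ := [0, 0, 0, 0, 0, 0, 0, 0, 0, 0, 0, 0, 0, 0, 0, 0, 0, 0, 0, 0, 0, 0, 0, 0, 0, 0, 0, 0, 0, 0, 0, 0, 0, 0, 0, 0, 0, 0, 0, 0, 0, 0, 0, 0, 0, 0, 0, 0, 0, 0, 0, 0, 0, 0, 0, 0, 0, 0, 0, 0, 0, 0, 0, 0, 0, 0, 0, 0, 0, 0, 0, 0, 0, 0, 0, 0, 0, 0, 0, 0, 0, 0, 0, 0, 33959496, 182991753, 225671733, 0, 0, 0, 0, 0, 0, 320965176, 164722494, 295470183, 0, 0, 0, 0, 0, 0, 105641823, 184210614, 221248998, 0, 0, 0, 0, 0, 0, 297571737, 64294833, 217809495, 0, 0, 0, 0, 0, 0, 168809907, 173655504, 227303451, 0, 0, 0, 0, 0, 0, 205892850, 182402208, 220659507,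 0, 0, 0, 0, 0, 0, 234710247, 180003987, 158898448, 0, 0, 0, 0, 0, 0, 205096251, 175346298, 216178236, 0, 0, 0, 0, 0, 0, 335078859, 178313463, 216531585, 0, 0, 0, 0, 0, 0, 0, 0, 0, 24213252, 311861619, 358072983, 0, 0, 0, 0, 0, 0, 382967598, 154978437, 285726126, 0, 0, 0, 0, 0, 0, 81552990, 307261764, 345289860, 0, 0, 0, 0, 0, 0, 210975222, 310059693, 144373600, 0, 0, 0, 0, 0, 0, 320396808, 305342226, 345643614, 0, 0, 0, 0, 0, 0, 368735817, 310767282, 354626028, 0, 0, 0, 0, 0, 0, 126705369, 126298956, 348971985, 0, 0, 0, 0, 0, 0, 149854683, 302072418, 358426332, 0, 0, 0, 0, 0, 0, 239549808, 302780574, 350714646, 0, 0, 97948746, 0, 0, 227663712, 0, 0, 358419825, 0, 0, 90204606, 0, 0, 220665960, 0, 0, 345283353, 0, 0, 88632396, 0, 0, 311876262, 0, 0, 349961157, 0, 0, 99698562, 0, 0, 225678672, 0, 0, 345636432, 0, 0, 55615347, 0, 0, 307264446, 0, 0, 182990547, 0, 0, 57014784, 0, 0, 218208690,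 0, 0, 353702412, 0, 0, 90558468, 0, 0, 222651513, 0, 0, 353408112, 0, 0, 94057452, 0, 0, 221255505, 0, 0, 355091454, 0, 0, 95275854, 0, 0, 226327212, 0, 0, 175342041, 0, 0, 60345012, 277505112, 0, 0, 0, 165076581, 0, 0, 0, 88979238, 62240808, 0, 0, 0, 314967213, 0, 0, 0, 90551934, 191722575, 0, 0, 0, 198202305, 0, 0, 0, 90198180, 162787080, 0, 0, 0, 310760370, 0, 0, 0, 94050540, 19369074, 0, 0, 0, 311874552, 0, 0, 0, 244741762, 108056604, 0, 0, 0, 302774040, 0, 0, 0, 88625943, 291914040, 0, 0, 0, 312287463, 0, 0, 0, 99711495, 246435303, 0, 0, 0, 305335773, 0, 0, 0, 97962138, 33955149, 0, 0, 0, 306102411, 0, 0, 0, 117920469, 0, 155687313, 0, 296637960, 0, 0, 0, 0, 99705069, 0, 178320375, 0, 67437120, 0, 0, 0, 0, 94063959, 0, 250638789, 0, 253726698, 0, 0, 0, 0, 90544752, 0, 182388816, 0, 282347130, 0, 0, 0, 0, 94692330, 0, 180011169, 0, 195866517, 0, 0, 0, 0, 93297267, 0, 174585627, 0, 24211092,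 0, 0, 0, 0, 88972326, 0, 179303121, 0, 153220170, 0, 0, 0, 0, 90191673, 0, 184846005, 0, 38679069, 0, 0, 0, 0, 187526431, 0, 172954368, 0, 113075769, 0, 0, 0, 46109664, 0, 0, 174572694, 0, 0, 217797786, 0, 0, 55623060, 0, 0, 184853187, 0, 0, 306796338, 0, 0, 50590476, 0, 0, 178032582, 0, 0, 315609300, 0, 0, 93294117, 0, 0, 173648592, 0, 0, 305328834, 0, 0, 52340049, 0, 0, 184204188, 0, 0, 306095499, 0, 0, 95285070, 0, 0, 350724510, 0, 0, 227318094, 0, 0, 56428578, 0, 0, 348550038, 0, 0, 302766858, 0, 0, 52046019, 0, 0, 182985246, 0, 0, 310066146, 0, 0, 57018636, 0, 0, 179309547, 0, 0, 312280929, 0, 0, 46980738, 0, 19371234, 0, 0, 0, 0, 348978492, 0, 58872837, 0, 291916038, 0, 0, 0, 0, 350721828, 0, 57004920, 0, 76651923, 0, 0, 0, 0, 358059591, 0, 55197270, 0, 119871444, 0, 0, 0, 0, 348566094, 0, 47688894, 0, 249175767, 0, 0, 0, 0, 295819147, 0, 165430668, 0, 205087800, 0, 0, 0, 0, 232205718,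 0, 50597388, 0, 105639663, 0, 0, 0, 0, 358412913, 0, 55609641, 0, 378243678, 0, 0, 0, 0, 353401659, 0, 46116171, 0, 158889396, 0, 0, 0, 0, 345296286, 0, 52353765, 0, 0, 0, 227316384, 38683416, 0, 0, 0, 72581844, 0, 0, 0, 221242086, 282351801, 0, 0, 0, 55204209, 0, 0, 0, 227670246, 110129547, 0, 0, 0, 52058952, 0, 0, 0, 222638580, 81548643, 0, 0, 0, 56422152, 0, 0, 0, 225685125, 325452900, 0, 0, 0, 46967805, 0, 0, 0, 216525078, 144362622, 0, 0, 0, 47675178, 0, 0, 0, 218215872, 67434960, 0, 0, 0, 45395136, 0, 0, 0, 286433506, 196384989, 0, 0, 0, 155863992, 0, 0, 0, 203329533, 361853256, 0, 0]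

/-- The `k`-th base-3 digit of `n`, as an element of `ZMod 3`. -/
def dig33 (n k : ℕ) : ZMod 3 := ((n / 3 ^ k % 3 : ℕ) : ZMod 3)

/-- The index of a matrix in the table. -/
def idx33 (b c e f h i : ZMod 3) : ℕ :=
  b.val + 3 * c.val + 9 * e.val + 27 * f.val + 81 * h.val + 243 * i.val

/-- The invariants of the characteristic polynomial `X³ - X - 1`. -/
def Inv33 {R : Type*} [CommRing R] (m00 m01 m02 m10 m11 m12 m20 m21 m22 : R) : Prop :=
  m00 + m11 + m22 = 0 ∧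
  m00 * m11 - m01 * m10 + (m00 * m22 - m02 * m20) + (m11 * m22 - m12 * m21) = -1 ∧
  m00 * (m11 * m22 - m12 * m21) - m01 * (m10 * m22 - m12 * m20) + m02 * (m10 * m21 - m11 * m20) = 1

instance {R : Type*} [CommRing R] [DecidableEq R] (m00 m01 m02 m10 m11 m12 m20 m21 m22 : R) :
    Decidable (Inv33 m00 m01 m02 m10 m11 m12 m20 m21 m22) := by
  unfold Inv33
  infer_instance

theorem bf1_33 : ∀ m00 m01 m02 m10 m11 m12 m20 m21 m22 : ZMod 3,
    Inv33 m00 m01 m02 m10 m11 m12 m20 m21 m22 →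
    m10 * (m20 * m00 + m21 * m10 + m22 * m20) - m20 * (m10 * m00 + m11 * m10 + m12 * m20) ≠ 0 := by
  decide +kernel

/-- The table entry `n` is a valid certificate for the matrix `(0,b,c), (1,e,f), (0,h,i)`. -/
def Good33 (b c e f h i : ZMod 3) (n : ℕ) : Prop :=
  (dig33 n 0 * dig33 n 9 + dig33 n 1 * dig33 n 12 + dig33 n 2 * dig33 n 15 = 0 ∧
   dig33 n 0 * dig33 n 10 + dig33 n 1 * dig33 n 13 + dig33 n 2 * dig33 n 16 = b ∧
   dig33 n 0 * dig33 n 11 + dig33 n 1 * dig33 n 14 + dig33 n 2 * dig33 n 17 = c) ∧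
  (dig33 n 3 * dig33 n 9 + dig33 n 4 * dig33 n 12 + dig33 n 5 * dig33 n 15 = 1 ∧
   dig33 n 3 * dig33 n 10 + dig33 n 4 * dig33 n 13 + dig33 n 5 * dig33 n 16 = e ∧
   dig33 n 3 * dig33 n 11 + dig33 n 4 * dig33 n 14 + dig33 n 5 * dig33 n 17 = f) ∧
  (dig33 n 6 * dig33 n 9 + dig33 n 7 * dig33 n 12 + dig33 n 8 * dig33 n 15 = 0 ∧
   dig33 n 6 * dig33 n 10 + dig33 n 7 * dig33 n 13 + dig33 n 8 * dig33 n 16 = h ∧
   dig33 n 6 * dig33 n 11 + dig33 n 7 * dig33 n 14 + dig33 n 8 * dig33 n 17 = i) ∧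
  Inv33 (dig33 n 0) (dig33 n 1) (dig33 n 2) (dig33 n 3) (dig33 n 4) (dig33 n 5)
    (dig33 n 6) (dig33 n 7) (dig33 n 8) ∧
  Inv33 (dig33 n 9) (dig33 n 10) (dig33 n 11) (dig33 n 12) (dig33 n 13) (dig33 n 14)
    (dig33 n 15) (dig33 n 16) (dig33 n 17)

instance (b c e f h i : ZMod 3) (n : ℕ) : Decidable (Good33 b c e f h i n) := by
  unfold Good33
  infer_instance

theorem bf2_33 : ∀ b c e f h i : ZMod 3, c * h - b * i = 1 →
    Good33 b c e f h i (tbl33.getD (idx33 b c e f h i) 0) := by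
  decide +kernel

theorem bf3_33 : ∀ m00 m01 m02 m10 m11 m12 m20 m21 m22 : ZMod 3,
    Inv33 m00 m01 m02 m10 m11 m12 m20 m21 m22 →
    m00 * (m00 * m00 + m01 * m10 + m02 * m20) + m01 * (m10 * m00 + m11 * m10 + m12 * m20)
      + m02 * (m20 * m00 + m21 * m10 + m22 * m20) = 1 + m00 ∧
    m10 * (m00 * m00 + m01 * m10 + m02 * m20) + m11 * (m10 * m00 + m11 * m10 + m12 * m20)
      + m12 * (m20 * m00 + m21 * m10 + m22 * m20) = m10 ∧
    m20 * (m00 * m00 + m01 * m10 + m02 * m20) + m21 * (m10 * m00 + m11 * m10 + m12 * m20)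
      + m22 * (m20 * m00 + m21 * m10 + m22 * m20) = m20 := by
  decide +kernel

end Cfsg.Agent.Lib.Helper49
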