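import Mathlib
import Cfsg.Prelude.Def_GeometricClasses
import Cfsg.Prelude.Def_LieClassical
import Cfsg.Agent.Lib.Helper71.Asch0
import Cfsg.Agent.Lib.Helper71.Asch5
import Cfsg.Agent.Lib.Helper53.Hermitian
import Cfsg.Agent.Lib.Helper97.U9NF3U

/-!
# S5663 project SUG (helper49), piece NFU

Two non-degenerate hermitian Gram matrices of the same size over `F_{q²}` are congruent:
the proof of `Helper97/U9NF3U.lean` (size 3) verbatim in size `d`.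
-/

set_option autoImplicit false

namespace Cfsg.Agent.Lib.Helper49.SUG

open Matrix Cfsg.Geo Cfsg.Agent.Lib.Helper71.Asch
open scoped Kronecker

variable {n : ℕ} {F : Type*} [Field F] [Fintype F] {q : ℕ}

/-- NFU: two non-degenerate hermitian Gram matrices of the same size are congruent up to a scalar. -/
theorem nfu (hF : Fintype.card F = q ^ 2) {d : ℕ} (G₁ G₂ : Matrix (Fin d) (Fin d) F)
    (hh1 : ∀ a b, G₁ a b = (G₁ b a) ^ q) (hh2 : ∀ a b, G₂ a b = (G₂ b a) ^ q)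
    (hd1 : G₁.det ≠ 0) (hd2 : G₂.det ≠ 0) :
    ∃ (A : GL (Fin d) F) (c : F), c ≠ 0 ∧
      A.1ᵀ * G₂ * A.1.map (fun x : F => x ^ q) = c • G₁ := by
  classical
  have hσ2 : ∀ x, Cfsg.Agent.Lib.Helper44.U9.NF3U_sig hF (Cfsg.Agent.Lib.Helper44.U9.NF3U_sig hF x) = x := by
    intro x
    rw [Cfsg.Agent.Lib.Helper44.U9.NF3U_sig_apply, Cfsg.Agent.Lib.Helper44.U9.NF3U_sig_apply]
    exact Cfsg.Agent.Lib.Helper7.herm_pow_pow hF x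
  obtain ⟨B₁, hB₁, hG₁⟩ := Cfsg.Agent.Lib.Helper53.Herm.exists_factor (Cfsg.Agent.Lib.Helper44.U9.NF3U_sig hF)
    (Cfsg.Agent.Lib.Helper44.U9.NF3U_sig_ne_one hF) hσ2 G₁ (fun i j => by rw [Cfsg.Agent.Lib.Helper44.U9.NF3U_sig_apply]; exact (hh1 i j).symm) hd1
  obtain ⟨B₂, hB₂, hG₂⟩ := Cfsg.Agent.Lib.Helper53.Herm.exists_factor (Cfsg.Agent.Lib.Helper44.U9.NF3U_sig hF)
    (Cfsg.Agent.Lib.Helper44.U9.NF3U_sig_ne_one hF) hσ2 G₂ (fun i j => by rw [Cfsg.Agent.Lib.Helper44.U9.NF3U_sig_apply]; exact (hh2 i j).symm) hd2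
  -- the inverse of `B₂`
  have hB₂' : B₂⁻¹ * B₂ = 1 := Matrix.nonsing_inv_mul B₂ hB₂
  have hdetA : IsUnit ((B₁ * B₂⁻¹)ᵀ).det := by
    rw [Matrix.det_transpose, Matrix.det_mul]
    exact hB₁.mul ((Matrix.isUnit_nonsing_inv_det_iff).mpr hB₂)
  refine ⟨Matrix.GeneralLinearGroup.mk'' ((B₁ * B₂⁻¹)ᵀ) hdetA, 1, one_ne_zero, ?_⟩
  have hmap : ((B₁ * B₂⁻¹)ᵀ).map (fun x : F => x ^ q) =
      ((B₂⁻¹).map (Cfsg.Agent.Lib.Helper44.U9.NF3U_sig hF))ᵀ * (B₁.map (Cfsg.Agent.Lib.Helper44.U9.NF3U_sig hF))ᵀ := by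
    have h1 : ((B₁ * B₂⁻¹)ᵀ).map (fun x : F => x ^ q) =
        ((B₁ * B₂⁻¹).map (Cfsg.Agent.Lib.Helper44.U9.NF3U_sig hF))ᵀ := by
      ext i j
      simp only [Matrix.map_apply, Matrix.transpose_apply, Cfsg.Agent.Lib.Helper44.U9.NF3U_sig_apply]
    rw [h1, Matrix.map_mul, Matrix.transpose_mul]
  have hval : (Matrix.GeneralLinearGroup.mk'' ((B₁ * B₂⁻¹)ᵀ) hdetA).1 = (B₁ * B₂⁻¹)ᵀ := rfl
  rw [hval, hmap, Matrix.transpose_transpose, one_smul]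
  have hinv : (B₂.map (Cfsg.Agent.Lib.Helper44.U9.NF3U_sig hF))ᵀ * ((B₂⁻¹).map (Cfsg.Agent.Lib.Helper44.U9.NF3U_sig hF))ᵀ = 1 := by
    rw [← Matrix.transpose_mul, ← Matrix.map_mul, hB₂']
    simp
  calc B₁ * B₂⁻¹ * G₂ * (((B₂⁻¹).map (Cfsg.Agent.Lib.Helper44.U9.NF3U_sig hF))ᵀ * (B₁.map (Cfsg.Agent.Lib.Helper44.U9.NF3U_sig hF))ᵀ)
      = B₁ * (B₂⁻¹ * B₂) * ((B₂.map (Cfsg.Agent.Lib.Helper44.U9.NF3U_sig hF))ᵀ * ((B₂⁻¹).map (Cfsg.Agent.Lib.Helper44.U9.NF3U_sig hF))ᵀ) *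
          (B₁.map (Cfsg.Agent.Lib.Helper44.U9.NF3U_sig hF))ᵀ := by
        rw [hG₂]
        simp only [Matrix.mul_assoc]
    _ = G₁ := by
        rw [hB₂', hinv, Matrix.mul_one, Matrix.mul_one, ← hG₁]

end Cfsg.Agent.Lib.Helper49.SUG
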