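import Mathlib
import Cfsg.Prelude.Def_GeometricClasses
import Cfsg.Prelude.Def_LieClassical
import Cfsg.Agent.Lib.Helper71.Asch0
import Cfsg.Agent.Lib.Helper71.Asch5
import Cfsg.Agent.Lib.Helper46.U9TSQU

/-!
# S5663 project SUG (helper49), piece TSQG

From a hermitian form `G₁ ⊗ₖ G₂` with `Aᵀ G₂ A^σ = c • G₁` to a unitary tensor square structure:
the proofs of `Helper33/O9TSQ.lean` and `Helper46/U9TSQU.lean` (size 3) verbatim in size `d`.
-/

set_option autoImplicit false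

namespace Cfsg.Agent.Lib.Helper49.SUG

open Matrix Cfsg.Geo Cfsg.Agent.Lib.Helper71.Asch
open scoped Kronecker
open Cfsg.Agent.Lib.Helper50.SUQTFS

variable {n : ℕ} {F : Type*} [Field F] [Fintype F] {q : ℕ}

/-- the Kronecker product `1 ⊗ A` as an invertible matrix -/
def sugtsqg_K {d : ℕ} (A : GL (Fin d) F) : GL (Fin d × Fin d) F :=
  ⟨(1 : Matrix (Fin d) (Fin d) F) ⊗ₖ A.1, (1 : Matrix (Fin d) (Fin d) F) ⊗ₖ (A⁻¹).1, by
    rw [← Matrix.mul_kronecker_mul, one_mul, ← Units.val_mul, mul_inv_cancel, Units.val_one,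
      Matrix.one_kronecker_one], by
    rw [← Matrix.mul_kronecker_mul, one_mul, ← Units.val_mul, inv_mul_cancel, Units.val_one,
      Matrix.one_kronecker_one]⟩

omit [Fintype F] in
theorem sugtsqg_pure {d : ℕ} (A : GL (Fin d) F) :
    glReindex (finTwoArrowEquiv (Fin d)).symm (sugtsqg_K A) ∈ tensorWreathStandard d 2 F := by
  apply Subgroup.subset_closure
  left
  refine ⟨![1, A], ?_⟩
  intro x y
  simp [glReindex, sugtsqg_K, Fin.prod_univ_two, Matrix.reindex_apply, Matrix.kroneckerMap_apply]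

omit [Fintype F] in
theorem sugtsqg_val {d : ℕ} (e : Fin n ≃ Fin d × Fin d) (A : GL (Fin d) F) :
    ((glReindex (e.trans (finTwoArrowEquiv (Fin d)).symm).symm
      (glReindex (finTwoArrowEquiv (Fin d)).symm (sugtsqg_K A)) : GL (Fin n) F) :
        Matrix (Fin n) (Fin n) F) =
      ((1 : Matrix (Fin d) (Fin d) F) ⊗ₖ A.1).submatrix e e := by
  ext i j
  simp [glReindex, sugtsqg_K, Matrix.reindex_apply]

theorem sugtsqg_kron (hF : Fintype.card F = q ^ 2) {d : ℕ} (G₁ G₂ : Matrix (Fin d) (Fin d) F)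
    (A : Matrix (Fin d) (Fin d) F) (c : F)
    (hA : Aᵀ * G₂ * A.map (fun x : F => x ^ q) = c • G₁) :
    ((1 : Matrix (Fin d) (Fin d) F) ⊗ₖ A)ᵀ * (G₁ ⊗ₖ G₂) *
        (((1 : Matrix (Fin d) (Fin d) F) ⊗ₖ A).map (fun x : F => x ^ q)) =
      G₁ ⊗ₖ (c • G₁) := by
  have hq := (suqtfs_q_pos hF).ne'
  have h1 : ((1 : Matrix (Fin d) (Fin d) F) ⊗ₖ A)ᵀ = (1 : Matrix (Fin d) (Fin d) F) ⊗ₖ Aᵀ := by
    ext ⟨i, j⟩ ⟨k, l⟩
    simp [Matrix.kroneckerMap_apply, Matrix.one_apply, eq_comm]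
  have h2 : (((1 : Matrix (Fin d) (Fin d) F) ⊗ₖ A).map (fun x : F => x ^ q)) =
      (1 : Matrix (Fin d) (Fin d) F) ⊗ₖ (A.map (fun x : F => x ^ q)) := by
    ext ⟨i, j⟩ ⟨k, l⟩
    simp only [Matrix.map_apply, Matrix.kroneckerMap_apply, Matrix.one_apply]
    by_cases h : i = k
    · simp [h]
    · simp [h, zero_pow hq]
  rw [h1, h2, ← Matrix.mul_kronecker_mul, ← Matrix.mul_kronecker_mul, one_mul, mul_one, hA]

theorem tsqg (hF : Fintype.card F = q ^ 2) {d : ℕ} (f : (Fin n → F) → (Fin n → F) → F)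
    (e : Fin n ≃ Fin d × Fin d) (P : GL (Fin n) F)
    (G₁ G₂ : Matrix (Fin d) (Fin d) F) (hh1 : ∀ a b, G₁ a b = (G₁ b a) ^ q) (hd1 : G₁.det ≠ 0)
    (hid : ∀ x y : Fin d × Fin d → F,
      f (P.1 *ᵥ (x ∘ e)) (P.1 *ᵥ (y ∘ e)) = formOfGram (fun c : F => c ^ q) (G₁ ⊗ₖ G₂) x y)
    (A : GL (Fin d) F) (c : F) (hc : c ≠ 0)
    (hA : A.1ᵀ * G₂ * A.1.map (fun x : F => x ^ q) = c • G₁) :
    ∃ (P' : GL (Fin n) F) (f₁ : (Fin d → F) → (Fin d → F) → F), IsUnitaryFormPow q f₁ ∧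
      IsTensorPowerFormStructure (fun x : F => x ^ q) f f₁
        (e.trans (finTwoArrowEquiv (Fin d)).symm) P' ∧
      tensorWreathSubgroup d 2 (e.trans (finTwoArrowEquiv (Fin d)).symm) P' =
        tensorWreathSubgroup d 2 (e.trans (finTwoArrowEquiv (Fin d)).symm) P := by
  classical
  refine ⟨P * glReindex (e.trans (finTwoArrowEquiv (Fin d)).symm).symm
      (glReindex (finTwoArrowEquiv (Fin d)).symm (sugtsqg_K A)), formOfGram (fun c : F => c ^ q) G₁,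
    suqtfs_unitary hF G₁ hd1 hh1, ⟨c, hc, ?_⟩, ?_⟩
  · intro x y
    have hmv : ∀ z : (Fin 2 → Fin d) → F,
        ((P * glReindex (e.trans (finTwoArrowEquiv (Fin d)).symm).symm
          (glReindex (finTwoArrowEquiv (Fin d)).symm (sugtsqg_K A)) : GL (Fin n) F) :
            Matrix (Fin n) (Fin n) F) *ᵥ (z ∘ (e.trans (finTwoArrowEquiv (Fin d)).symm)) =
          P.1 *ᵥ ((((1 : Matrix (Fin d) (Fin d) F) ⊗ₖ A.1) *ᵥ
            (z ∘ (finTwoArrowEquiv (Fin d)).symm)) ∘ e) := by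
      intro z
      rw [Units.val_mul, ← Matrix.mulVec_mulVec, sugtsqg_val]
      congr 1
      have : z ∘ (e.trans (finTwoArrowEquiv (Fin d)).symm) =
          (z ∘ (finTwoArrowEquiv (Fin d)).symm) ∘ e := rfl
      rw [this, Matrix.submatrix_mulVec_equiv]
      congr 2
      ext u
      simp
    rw [hmv x, hmv y, hid, Cfsg.Agent.Lib.Helper44.U9.TSQU_conj hF, sugtsqg_kron hF G₁ G₂ A.1 c hA, suqtfs_gram hF]
    unfold formOfGram
    rw [← Equiv.sum_comp (finTwoArrowEquiv (Fin d)), Finset.mul_sum]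
    apply Finset.sum_congr rfl
    intro a _
    rw [← Equiv.sum_comp (finTwoArrowEquiv (Fin d)), Finset.mul_sum]
    apply Finset.sum_congr rfl
    intro b _
    have hft : ∀ a : Fin 2 → Fin d, (finTwoArrowEquiv (Fin d)) a = (a 0, a 1) := fun a => rfl
    simp only [Function.comp_apply, Equiv.symm_apply_apply]
    simp only [hft, Fin.prod_univ_two, Matrix.kroneckerMap_apply, Matrix.smul_apply,
      smul_eq_mul]
    ring
  · unfold tensorWreathSubgroup
    exact Cfsg.Agent.Lib.Helper44.O9.TSQ_map_conj _ P _ (Subgroup.mem_map_of_mem _ (sugtsqg_pure A))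

end Cfsg.Agent.Lib.Helper49.SUG
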