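import Mathlib
import Cfsg.Agent.Lib.Helper47.FormConj
import Cfsg.Agent.Lib.Helper49.UBase
import Cfsg.Agent.Lib.Helper49.UArith
import Cfsg.Agent.Lib.Helper49.FFExt

set_option autoImplicit false
set_option linter.style.haveILetI false
set_option linter.unusedSectionVars false

/-!
The Coxeter element of `SU_n(q)`: a unitary matrix of determinant one whose powers are scalar
only for exponents divisible by `usum q n / gcd (usum q n) (q + 1)`.
-/

namespace Cfsg.Agent.Lib.Helper49

open Polynomial Cfsg.Agent.Lib.Helper47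

section transport

universe u v

/-- Transport of an isometry of a nondegenerate hermitian space to a unitary matrix. -/
theorem exists_unitary_model {F : Type u} [Field F] [Finite F] (σ : F →+* F)
    (hσσ : ∀ x, σ (σ x) = x) (hne : ∃ c, σ c ≠ c) {V : Type v} [AddCommGroup V] [Module F V]
    [FiniteDimensional F V] (n : ℕ) (hn : Module.finrank F V = n) (B : V → V → F)
    (hB : IsSForm σ 1 B) (hnd : Nondeg B) (g : Module.End F V)
    (hg : ∀ x y, B (g x) (g y) = B x y) :
    ∃ T : Matrix (Fin n) (Fin n) F, T.det = LinearMap.det g ∧ IsU σ T ∧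
      ∀ (j : ℕ) (c : F), T ^ j = c • 1 ↔ g ^ j = c • 1 := by
  classical
  let e₁ : ULift.{max u v} V ≃ₗ[F] V := ULift.moduleEquiv
  let e₂ : ULift.{max u v} (Fin n → F) ≃ₗ[F] (Fin n → F) := ULift.moduleEquiv
  have hfr1 : Module.finrank F (ULift.{max u v} V) = n := by
    rw [LinearEquiv.finrank_eq e₁, hn]
  have hfr2 : Module.finrank F (ULift.{max u v} (Fin n → F)) = n := by
    rw [LinearEquiv.finrank_eq e₂, Module.finrank_fin_fun]
  have hU := uForm_isSForm (ι := Fin n) σ hσσ
  have hσid : σ ≠ RingHom.id F := by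
    intro h
    obtain ⟨c, hc⟩ := hne
    exact hc (by rw [h]; rfl)
  obtain ⟨φ, -, hφ⟩ := exists_isometry_conj (ε := (1 : F)) hσσ (Or.inr hne) n
    (ULift.{max u v} V) (ULift.{max u v} (Fin n → F))
    (fun x y => B (e₁ x) (e₁ y)) (fun x y => uForm σ (e₂ x) (e₂ y))
    LinearMap.id LinearMap.id hfr1
    ⟨fun x y z => by simp only [map_add]; exact hB.add_left _ _ _,
      fun c x y => by simp only [map_smul]; exact hB.smul_left _ _ _,
      fun x y => hB.symm _ _⟩
    ⟨fun x y z => by simp only [map_add]; exact hU.add_left _ _ _,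
      fun c x y => by simp only [map_smul]; exact hU.smul_left _ _ _,
      fun x y => hU.symm _ _⟩
    (fun x hx => by
      have h1 : e₁ x = 0 := hnd _ (fun y => by simpa using hx (e₁.symm y))
      exact e₁.injective (by rw [h1, map_zero]))
    (fun x hx => by
      have h1 : e₂ x = 0 := uForm_nondeg σ _ (fun y => by simpa using hx (e₂.symm y))
      exact e₂.injective (by rw [h1, map_zero]))
    (fun h => absurd h hσid) (fun h => absurd h hσid)
    Module.End.isSemisimple_id Module.End.isSemisimple_id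
    (fun x y => rfl) (fun x y => rfl)
    (by
      have h1 : (LinearMap.id : Module.End F (ULift.{max u v} V)) = 1 := rfl
      have h2 : (LinearMap.id : Module.End F (ULift.{max u v} (Fin n → F))) = 1 := rfl
      rw [h1, h2, LinearMap.charpoly_one, LinearMap.charpoly_one, hfr1, hfr2])
  let ψ : V ≃ₗ[F] (Fin n → F) := e₁.symm.trans (φ.trans e₂)
  have hψ : ∀ x y, uForm σ (ψ x) (ψ y) = B x y := by
    intro x y
    have := hφ (e₁.symm x) (e₁.symm y)
    simpa [ψ] using this
  let b : Module.Basis (Fin n) F V := Module.Basis.ofEquivFun ψ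
  have hrepr : ∀ x : V, ((b.repr x : Fin n →₀ F) : Fin n → F) = ψ x := by
    intro x
    funext i
    exact Module.Basis.ofEquivFun_repr_apply ψ x i
  have hmv : ∀ x : V, (LinearMap.toMatrix b b g).mulVec (ψ x) = ψ (g x) := by
    intro x
    have := LinearMap.toMatrix_mulVec_repr b b g x
    rw [hrepr, hrepr] at this
    exact this
  refine ⟨LinearMap.toMatrix b b g, LinearMap.det_toMatrix b g, ?_, ?_⟩
  · rw [isU_iff σ hσσ]
    intro x y
    obtain ⟨x, rfl⟩ := ψ.surjective x
    obtain ⟨y, rfl⟩ := ψ.surjective y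
    rw [hmv, hmv, hψ, hψ, hg]
  · intro j c
    constructor
    · intro hj
      have h1 : LinearMap.toMatrixAlgEquiv b (g ^ j) = LinearMap.toMatrixAlgEquiv b (c • 1) := by
        rw [map_pow, map_smul, map_one]
        exact hj
      exact (LinearMap.toMatrixAlgEquiv b).injective h1
    · intro hj
      have h1 : LinearMap.toMatrixAlgEquiv b (g ^ j) = LinearMap.toMatrixAlgEquiv b (c • 1) := by
        rw [hj]
      rw [map_pow, map_smul, map_one] at h1
      exact h1

end transport

section coxeter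

variable {F : Type*} [Field F] [Fintype F]

/-- the common final step -/
theorem cox_finish {K : Type*} [Field K] [Algebra F K] (σ : F →+* F) (q n : ℕ)
    (hσq : ∀ x, σ x = x ^ q) [Nonempty (Fin n)] (T : Matrix (Fin n) (Fin n) F) (hU : IsU σ T)
    (θ : K) (hord : orderOf θ = usum q n) (hpos : 0 < usum q n)
    (h : ∀ (j : ℕ) (c : F), T ^ j = c • 1 → θ ^ j = algebraMap F K c) :
    ∀ (j : ℕ) (c : F), T ^ j = c • 1 → usum q n / Nat.gcd (usum q n) (q + 1) ∣ j := by
  intro j c hj
  have h1 := h j c hj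
  have hcU : σ c * c = 1 := by
    apply IsU.scalar_norm (ι := Fin n) σ
    rw [← hj]
    exact hU.pow σ j
  have hc : c ^ (q + 1) = 1 := by
    rw [pow_succ, ← hσq]
    exact hcU
  have h2 : θ ^ ((q + 1) * j) = 1 := by
    rw [mul_comm, pow_mul, h1, ← map_pow, hc, map_one]
  have h3 : usum q n ∣ (q + 1) * j := by
    rw [← hord]
    exact orderOf_dvd_of_pow_eq_one h2
  exact (dvd_mul_iff_div_gcd (usum q n) (q + 1) j hpos).mp h3

theorem sigma_ne (q : ℕ) (hF : Fintype.card F = q ^ 2) (σ : F →+* F) (hσq : ∀ x, σ x = x ^ q) :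
    ∃ c, σ c ≠ c := by
  obtain ⟨φ, hφq, -, -, -, x, -, -, -, hx⟩ := exists_unitary_data F q hF
  refine ⟨x, ?_⟩
  rw [hσq, ← hφq]
  exact hx

theorem sigma_sigma (q : ℕ) (hF : Fintype.card F = q ^ 2) (σ : F →+* F)
    (hσq : ∀ x, σ x = x ^ q) : ∀ x, σ (σ x) = x := by
  intro x
  rw [hσq, hσq, ← pow_mul, ← sq, ← hF, FiniteField.pow_card]

theorem one_lt_q (q : ℕ) (hF : Fintype.card F = q ^ 2) : 1 < q := by
  have h1 : 1 < Fintype.card F := Fintype.one_lt_card
  rw [hF] at h1
  by_contra hcon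
  have : q = 0 ∨ q = 1 := by omega
  rcases this with h | h <;> rw [h] at h1 <;> omega

/-- the Coxeter element, odd dimension -/
theorem exists_coxeter_odd (p a q : ℕ) [Fact p.Prime] [CharP F p] (hq : q = p ^ a)
    (hF : Fintype.card F = q ^ 2) (σ : F →+* F) (hσq : ∀ x, σ x = x ^ q) (n : ℕ)
    (hn : Odd n) :
    ∃ T : Matrix (Fin n) (Fin n) F, T.det = 1 ∧ IsU σ T ∧
      ∀ (j : ℕ) (c : F), T ^ j = c • 1 → usum q n / Nat.gcd (usum q n) (q + 1) ∣ j := by
  classical
  have hn0 : n ≠ 0 := by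
    rintro rfl
    simp at hn
  haveI : NeZero n := ⟨hn0⟩
  haveI : Nonempty (Fin n) := ⟨⟨0, Nat.pos_of_ne_zero hn0⟩⟩
  have hq1 : 1 < q := one_lt_q q hF
  have hσσ := sigma_sigma q hF σ hσq
  have hne := sigma_ne q hF σ hσq
  let K := FiniteField.Extension F p n
  have hfr : Module.finrank F K = n := FiniteField.finrank_extension F p n
  haveI : Fintype K := Fintype.ofFinite K
  have hcard : Fintype.card K = q ^ (2 * n) := by
    rw [← Nat.card_eq_fintype_card, FiniteField.natCard_extension, Nat.card_eq_fintype_card, hF,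
      ← pow_mul]
  haveI : CharP K p := charP_of_injective_algebraMap (algebraMap F K).injective p
  have hττ : ∀ x : K, (x ^ (q ^ n)) ^ (q ^ n) = x := by
    intro x
    rw [← pow_mul, ← pow_add, ← two_mul, ← hcard, FiniteField.pow_card]
  obtain ⟨k, hk⟩ := hn
  have hqn : q ^ n = q * (q ^ 2) ^ k := by
    rw [hk, pow_succ, pow_mul, mul_comm]
  have hτF : ∀ c : F, (algebraMap F K c) ^ (q ^ n) = algebraMap F K (σ c) := by
    intro c
    rw [← map_pow, hσq]
    congr 1
    rw [hqn, mul_comm, pow_mul, ← hF, FiniteField.pow_card_pow]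
  have htr : ∀ z : K, Algebra.trace F K (z ^ (q ^ n)) = σ (Algebra.trace F K z) := by
    intro z
    apply (algebraMap F K).injective
    rw [← hτF, FiniteField.algebraMap_trace_eq_sum_pow, FiniteField.algebraMap_trace_eq_sum_pow]
    rw [hq, ← pow_mul, sum_pow_char_pow]
    apply Finset.sum_congr rfl
    intro i _
    rw [← pow_mul, ← pow_mul, mul_comm]
  obtain ⟨B, hBdef⟩ : ∃ B : K → K → F, B = fun x y => Algebra.trace F K (x * y ^ (q ^ n)) :=
    ⟨_, rfl⟩
  have hB : IsSForm σ 1 B := by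
    refine ⟨fun x y z => ?_, fun c x y => ?_, fun x y => ?_⟩
    · rw [hBdef]
      simp only [add_mul, map_add]
    · rw [hBdef]
      simp only [smul_mul_assoc, map_smul, smul_eq_mul]
    · rw [hBdef]
      simp only
      rw [one_mul, ← htr, mul_pow, hττ, mul_comm]
  have hnd : Nondeg B := by
    intro x hx
    apply (traceForm_nondegenerate F K).1 x
    intro y
    have := hx (y ^ (q ^ n))
    rw [hBdef] at this
    simp only at this
    rw [hττ] at this
    exact this
  obtain ⟨ω, hω⟩ := IsCyclic.exists_generator (α := Kˣ)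
  have hordω : orderOf (ω : K) = q ^ (2 * n) - 1 := by
    rw [orderOf_units, orderOf_eq_card_of_forall_mem_zpowers hω, Nat.card_units,
      Nat.card_eq_fintype_card, hcard]
  have hus : (q + 1) * usum q n = q ^ n + 1 := usum_odd q n ⟨k, hk⟩
  have hpos : 0 < usum q n := by
    rcases Nat.eq_zero_or_pos (usum q n) with h0 | h0
    · rw [h0, mul_zero] at hus
      omega
    · exact h0
  obtain ⟨s, hs⟩ : ∃ s, q ^ n = s + 1 := ⟨q ^ n - 1, by
    have := Nat.one_le_pow n q (by omega)
    omega⟩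
  have hqn1 : q ^ n - 1 = s := by omega
  have hq2n : q ^ (2 * n) - 1 = s * (s + 2) := by
    have h1 : q ^ (2 * n) = (s + 1) * (s + 1) := by
      rw [two_mul, pow_add, hs]
    rw [h1]
    have h2 : (s + 1) * (s + 1) = s * (s + 2) + 1 := by ring
    omega
  obtain ⟨θ, hθ⟩ : ∃ θ : K, θ = (ω : K) ^ (s * (q + 1)) := ⟨_, rfl⟩
  have hω1 : (ω : K) ^ (s * (s + 2)) = 1 := by
    rw [← hq2n, ← hordω, pow_orderOf_eq_one]
  have hθ1 : θ ^ (q ^ n + 1) = 1 := by
    rw [hθ, ← pow_mul, hs]
    have h1 : s * (q + 1) * (s + 1 + 1) = s * (s + 2) * (q + 1) := by ring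
    rw [h1, pow_mul, hω1, one_pow]
  have hs0 : s ≠ 0 := by
    rintro rfl
    have h2 : 2 ≤ q ^ n := by
      calc 2 ≤ q := hq1
        _ = q ^ 1 := (pow_one q).symm
        _ ≤ q ^ n := Nat.pow_le_pow_right (by omega) (Nat.pos_of_ne_zero hn0)
    omega
  have hordθ : orderOf θ = usum q n := by
    have h1 : s * (s + 2) = s * (q + 1) * usum q n := by
      rw [mul_assoc, hus, hs]
    rw [hθ, orderOf_pow_of_dvd (Nat.mul_ne_zero hs0 (by omega)) (by
      rw [hordω, hq2n, h1]
      exact Dvd.intro _ rfl), hordω, hq2n, h1]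
    exact Nat.mul_div_cancel_left _ (Nat.pos_of_ne_zero (Nat.mul_ne_zero hs0 (by omega)))
  have hnorm : Algebra.norm F θ = 1 := by
    apply (algebraMap F K).injective
    rw [ff_norm_pow, hfr, map_one, hF, hθ, ← pow_mul]
    have h1 := geom_mul' (q ^ 2) n (Nat.one_le_pow _ _ (by omega))
    have h2 := geom_mul' q n (by omega)
    rw [hqn1] at h2
    rw [← pow_mul] at h1
    have h3 : q ^ 2 - 1 = (q - 1) * (q + 1) := by
      obtain ⟨t, rfl⟩ : ∃ t, q = t + 1 := ⟨q - 1, by omega⟩
      have : (t + 1) ^ 2 = t * (t + 1 + 1) + 1 := by ring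
      rw [this]
      simp
    have h4 : s * (q + 1) * ∑ i ∈ Finset.range n, (q ^ 2) ^ i =
        (s * (s + 2)) * ∑ i ∈ Finset.range n, q ^ i := by
      rw [← hq2n, ← h1, h3, ← h2]
      ring
    rw [h4, pow_mul, hω1, one_pow]
  obtain ⟨T, hdet, hTU, hpow⟩ := exists_unitary_model σ hσσ hne n hfr B hB hnd
    (Algebra.lmul F K θ) (by
      intro x y
      rw [hBdef]
      simp only
      have h1 : Algebra.lmul F K θ x = θ * x := rfl
      have h2 : Algebra.lmul F K θ y = θ * y := rfl
      rw [h1, h2, mul_pow]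
      have h3 : θ * x * (θ ^ (q ^ n) * y ^ (q ^ n)) = θ ^ (q ^ n + 1) * (x * y ^ (q ^ n)) := by
        ring
      rw [h3, hθ1, one_mul])
  refine ⟨T, ?_, hTU, ?_⟩
  · rw [hdet, ← Algebra.norm_apply]
    exact hnorm
  · apply cox_finish (K := K) σ q n hσq T hTU θ hordθ hpos
    intro j c hj
    have h1 := (hpow j c).mp hj
    rw [← map_pow] at h1
    have h2 : Algebra.lmul F K (θ ^ j) 1 = (c • (1 : Module.End F K)) 1 := by rw [h1]
    have h3 : Algebra.lmul F K (θ ^ j) 1 = θ ^ j * 1 := rfl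
    rw [h3, mul_one] at h2
    rw [h2, Algebra.algebraMap_eq_smul_one]
    rfl

/-- the Coxeter element, even dimension -/
theorem exists_coxeter_even (p a q : ℕ) [Fact p.Prime] [CharP F p] (hq : q = p ^ a)
    (hF : Fintype.card F = q ^ 2) (σ : F →+* F) (hσq : ∀ x, σ x = x ^ q) (n : ℕ)
    (hn : Even n) (hn0 : n ≠ 0) :
    ∃ T : Matrix (Fin n) (Fin n) F, T.det = 1 ∧ IsU σ T ∧
      ∀ (j : ℕ) (c : F), T ^ j = c • 1 → usum q n / Nat.gcd (usum q n) (q + 1) ∣ j := by
  classical
  obtain ⟨k, hk⟩ := hn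
  have hk0 : k ≠ 0 := by
    rintro rfl
    omega
  haveI : NeZero k := ⟨hk0⟩
  haveI : Nonempty (Fin n) := ⟨⟨0, Nat.pos_of_ne_zero hn0⟩⟩
  have hq1 : 1 < q := one_lt_q q hF
  have hσσ := sigma_sigma q hF σ hσq
  have hne := sigma_ne q hF σ hσq
  let K := FiniteField.Extension F p k
  have hfr : Module.finrank F K = k := FiniteField.finrank_extension F p k
  haveI : Fintype K := Fintype.ofFinite K
  have hcard : Fintype.card K = q ^ n := by
    rw [← Nat.card_eq_fintype_card, FiniteField.natCard_extension, Nat.card_eq_fintype_card, hF,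
      ← pow_mul, hk, two_mul]
  haveI : CharP K p := charP_of_injective_algebraMap (algebraMap F K).injective p
  have hfrV : Module.finrank F (K × K) = n := by rw [Module.finrank_prod, hfr, hk]
  have hKpow : ∀ x : K, x ^ (q ^ n) = x := by
    intro x
    rw [← hcard, FiniteField.pow_card]
  have hτadd : ∀ x y : K, (x + y) ^ q = x ^ q + y ^ q := by
    intro x y
    rw [hq]
    exact add_pow_char_pow x y p a
  have hτF : ∀ c : F, (algebraMap F K c) ^ q = algebraMap F K (σ c) := by
    intro c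
    rw [← map_pow, hσq]
  have htr : ∀ z : K, Algebra.trace F K (z ^ q) = σ (Algebra.trace F K z) := by
    intro z
    apply (algebraMap F K).injective
    rw [← hτF, FiniteField.algebraMap_trace_eq_sum_pow, FiniteField.algebraMap_trace_eq_sum_pow]
    rw [hq, ← pow_one (p ^ a), ← pow_mul, sum_pow_char_pow]
    apply Finset.sum_congr rfl
    intro i _
    rw [← pow_mul, ← pow_mul, mul_comm]
  obtain ⟨B, hBdef⟩ : ∃ B : K × K → K × K → F, B = fun x y =>
      Algebra.trace F K (x.1 * y.2 ^ q) + σ (Algebra.trace F K (y.1 * x.2 ^ q)) := ⟨_, rfl⟩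
  have hB : IsSForm σ 1 B := by
    refine ⟨fun x y z => ?_, fun c x y => ?_, fun x y => ?_⟩
    · rw [hBdef]
      simp only [Prod.fst_add, Prod.snd_add, add_mul, mul_add, hτadd, map_add]
      ring
    · rw [hBdef]
      simp only [Prod.smul_fst, Prod.smul_snd, smul_mul_assoc, map_smul, smul_eq_mul]
      have h1 : (c • x.2) ^ q = σ c • x.2 ^ q := by
        rw [Algebra.smul_def, mul_pow, hτF, ← Algebra.smul_def]
      rw [h1, mul_smul_comm, map_smul, smul_eq_mul, map_mul σ, hσσ, mul_add]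
    · rw [hBdef]
      simp only
      rw [one_mul, map_add, hσσ, add_comm]
  have hnd : Nondeg B := by
    intro x hx
    have h1 : x.1 = 0 := by
      apply (traceForm_nondegenerate F K).1 x.1
      intro w
      have := hx (0, w ^ (q ^ (n - 1)))
      rw [hBdef] at this
      simp only [zero_mul, map_zero, add_zero] at this
      rw [← pow_mul, ← pow_succ, Nat.sub_add_cancel (Nat.pos_of_ne_zero hn0), hKpow] at this
      exact this
    have h2 : x.2 = 0 := by
      have h3 : x.2 ^ q = 0 := by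
        apply (traceForm_nondegenerate F K).1 (x.2 ^ q)
        intro w
        have := hx (w, 0)
        rw [hBdef] at this
        simp only [zero_pow (by omega : q ≠ 0), mul_zero, map_zero, zero_add] at this
        have h4 : Algebra.trace F K (w * x.2 ^ q) = 0 := by
          have h5 := congrArg σ this
          rw [hσσ, map_zero] at h5
          exact h5
        rw [Algebra.traceForm_apply, mul_comm]
        exact h4
      exact (pow_eq_zero_iff (by omega)).mp h3
    exact Prod.ext h1 h2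
  obtain ⟨ω, hω⟩ := IsCyclic.exists_generator (α := Kˣ)
  have hordω : orderOf (ω : K) = q ^ n - 1 := by
    rw [orderOf_units, orderOf_eq_card_of_forall_mem_zpowers hω, Nat.card_units,
      Nat.card_eq_fintype_card, hcard]
  have hus : (q + 1) * usum q n = q ^ n - 1 := usum_even q n ⟨k, hk⟩ (by omega)
  have h2qn : 2 ≤ q ^ n := by
    calc 2 ≤ q := hq1
      _ = q ^ 1 := (pow_one q).symm
      _ ≤ q ^ n := Nat.pow_le_pow_right (by omega) (Nat.pos_of_ne_zero hn0)
  have hpos : 0 < usum q n := by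
    rcases Nat.eq_zero_or_pos (usum q n) with h0 | h0
    · rw [h0, mul_zero] at hus
      omega
    · exact h0
  obtain ⟨θ, hθ⟩ : ∃ θ : K, θ = (ω : K) ^ (q + 1) := ⟨_, rfl⟩
  have hθ0 : θ ≠ 0 := by
    rw [hθ]
    exact pow_ne_zero _ (Units.ne_zero ω)
  have hordθ : orderOf θ = usum q n := by
    rw [hθ, orderOf_pow_of_dvd (by omega) (by rw [hordω, ← hus]; exact Dvd.intro _ rfl), hordω,
      ← hus]
    exact Nat.mul_div_cancel_left _ (by omega)
  obtain ⟨θ', hθ'⟩ : ∃ θ' : K, θ' = (θ⁻¹) ^ (q ^ (n - 1)) := ⟨_, rfl⟩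
  have hθθ' : θ * θ' ^ q = 1 := by
    rw [hθ', ← pow_mul, ← pow_succ, Nat.sub_add_cancel (Nat.pos_of_ne_zero hn0), hKpow,
      mul_inv_cancel₀ hθ0]
  obtain ⟨N, hN⟩ : ∃ N : F, N = Algebra.norm F θ := ⟨_, rfl⟩
  have hN0 : N ≠ 0 := by
    rw [hN]
    intro h
    exact hθ0 (Algebra.norm_eq_zero_iff.mp h)
  have hNq : N ^ q = N := by
    have h1 : N ^ (q - 1) = 1 := by
      rw [hN, hθ, map_pow, ← pow_mul]
      have h3 : (q + 1) * (q - 1) = Fintype.card F - 1 := by
        rw [hF]
        obtain ⟨t, rfl⟩ : ∃ t, q = t + 1 := ⟨q - 1, by omega⟩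
        have : (t + 1) ^ 2 = (t + 1 + 1) * t + 1 := by ring
        rw [this]
        simp
      rw [h3]
      apply FiniteField.pow_card_sub_one_eq_one
      intro h0
      rw [Algebra.norm_eq_zero_iff] at h0
      exact Units.ne_zero ω h0
    calc N ^ q = N ^ (q - 1 + 1) := by rw [Nat.sub_add_cancel (by omega)]
      _ = N := by rw [pow_succ, h1, one_mul]
  have hNpow : ∀ i : ℕ, N ^ (q ^ i) = N := by
    intro i
    induction i with
    | zero => rw [pow_zero, pow_one]
    | succ i ih => rw [pow_succ, pow_mul, ih, hNq]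
  have hnorm' : Algebra.norm F θ' = N⁻¹ := by
    have h1 : Algebra.norm F θ⁻¹ = N⁻¹ := by
      apply eq_inv_of_mul_eq_one_left
      rw [hN, ← map_mul, inv_mul_cancel₀ hθ0, map_one]
    rw [hθ', map_pow, h1, inv_pow, hNpow]
  obtain ⟨g, hgdef⟩ : ∃ g : Module.End F (K × K),
      g = (Algebra.lmul F K θ).prodMap (Algebra.lmul F K θ') := ⟨_, rfl⟩
  have hgapp : ∀ x : K × K, g x = (θ * x.1, θ' * x.2) := by
    intro x
    rw [hgdef]
    rfl
  have hgpow : ∀ (j : ℕ) (x : K × K), (g ^ j) x = (θ ^ j * x.1, θ' ^ j * x.2) := by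
    intro j
    induction j with
    | zero =>
      intro x
      simp
    | succ j ih =>
      intro x
      rw [pow_succ, Module.End.mul_apply, hgapp, ih]
      simp only [pow_succ, mul_assoc]
  have hgB : ∀ x y, B (g x) (g y) = B x y := by
    intro x y
    rw [hBdef]
    simp only [hgapp]
    have h1 : θ * x.1 * (θ' * y.2) ^ q = (θ * θ' ^ q) * (x.1 * y.2 ^ q) := by ring
    have h2 : θ * y.1 * (θ' * x.2) ^ q = (θ * θ' ^ q) * (y.1 * x.2 ^ q) := by ring
    rw [h1, h2, hθθ', one_mul, one_mul]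
  obtain ⟨T, hdet, hTU, hpow⟩ := exists_unitary_model σ hσσ hne n hfrV B hB hnd g hgB
  refine ⟨T, ?_, hTU, ?_⟩
  · rw [hdet, hgdef, LinearMap.det_prodMap, ← Algebra.norm_apply, ← Algebra.norm_apply, hnorm',
      ← hN, mul_inv_cancel₀ hN0]
  · apply cox_finish (K := K) σ q n hσq T hTU θ hordθ hpos
    intro j c hj
    have h1 := (hpow j c).mp hj
    have h2 : (g ^ j) (1, 0) = (c • (1 : Module.End F (K × K))) (1, 0) := by rw [h1]
    rw [hgpow] at h2
    have h3 := congrArg Prod.fst h2
    simp only [mul_one] at h3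
    rw [h3, Algebra.algebraMap_eq_smul_one]
    rfl

/-- **The Coxeter element of `SU_n(q)`**: a unitary matrix of determinant one whose `j`-th power
is scalar only if `usum q n / gcd (usum q n) (q + 1)` divides `j`. -/
theorem exists_coxeter (p a q : ℕ) [Fact p.Prime] [CharP F p] (hq : q = p ^ a)
    (hF : Fintype.card F = q ^ 2) (σ : F →+* F) (hσq : ∀ x, σ x = x ^ q) (n : ℕ)
    (hn0 : n ≠ 0) :
    ∃ T : Matrix (Fin n) (Fin n) F, T.det = 1 ∧ IsU σ T ∧
      ∀ (j : ℕ) (c : F), T ^ j = c • 1 → usum q n / Nat.gcd (usum q n) (q + 1) ∣ j := by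
  rcases Nat.even_or_odd n with h | h
  · exact exists_coxeter_even p a q hq hF σ hσq n h hn0
  · exact exists_coxeter_odd p a q hq hF σ hσq n h

end coxeter

end Cfsg.Agent.Lib.Helper49
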