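import Mathlib
import Cfsg.Agent.Lib.Helper49.UPair

set_option autoImplicit false
set_option linter.style.haveILetI false
set_option linter.unusedSectionVars false

/-!
The dichotomy for semisimple unitary matrices of determinant one: either some non-scalar
unitary polynomial in the matrix has order `r`, or a fixed power of the matrix is scalar.
-/

namespace Cfsg.Agent.Lib.Helper49

open Polynomial Cfsg.Agent.Lib.Helper47

section dich

variable {F : Type*} [Field F] [Fintype F]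

/-- a nontrivial `r`-th root of unity of norm one, for a prime `r ∣ q + 1` -/
theorem exists_uzeta (q : ℕ) (hF : Fintype.card F = q ^ 2) (σ : F →+* F)
    (hσq : ∀ x, σ x = x ^ q) (r : ℕ) (hr : r.Prime) (hrq : r ∣ q + 1) :
    ∃ ζ : F, ζ ^ r = 1 ∧ ζ ≠ 1 ∧ σ ζ * ζ = 1 := by
  classical
  haveI : Fact r.Prime := ⟨hr⟩
  have hq1 : 1 ≤ q := by
    have h1 : 1 < Fintype.card F := Fintype.one_lt_card
    rw [hF] at h1
    by_contra hcon
    have : q = 0 := by omega
    rw [this] at h1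
    omega
  have hcard : r ∣ Fintype.card Fˣ := by
    rw [Fintype.card_units, hF]
    have h1 : q ^ 2 - 1 = (q + 1) * (q - 1) := by
      obtain ⟨t, rfl⟩ : ∃ t, q = t + 1 := ⟨q - 1, by omega⟩
      rw [Nat.add_sub_cancel]
      have : (t + 1) ^ 2 = (t + 1 + 1) * t + 1 := by ring
      rw [this, Nat.add_sub_cancel]
    rw [h1]
    exact Dvd.dvd.mul_right hrq _
  obtain ⟨u, hu⟩ := exists_prime_orderOf_dvd_card r hcard
  have h1 : (u : F) ^ r = 1 := by
    rw [← Units.val_pow_eq_pow_val, ← hu, pow_orderOf_eq_one, Units.val_one]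
  refine ⟨(u : F), h1, ?_, ?_⟩
  · intro h
    have h2 : u = 1 := Units.ext h
    rw [h2, orderOf_one] at hu
    exact hr.one_lt.ne hu
  · obtain ⟨k, hk⟩ := hrq
    rw [hσq, ← pow_succ, hk, pow_mul, h1, one_pow]

/-- a proper-degree factor of the minimal polynomial is singular at the matrix -/
theorem exists_ker_of_dvd_minpoly {n : ℕ} (z : Matrix (Fin n) (Fin n) F) (f : F[X])
    (hf0 : 0 < f.natDegree) (hf : f ∣ minpoly F z) :
    ∃ v : Fin n → F, v ≠ 0 ∧ (aeval z f).mulVec v = 0 := by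
  classical
  have hint : IsIntegral F z := Matrix.isIntegral z
  obtain ⟨c, hc'⟩ := hf
  have hc0 : c ≠ 0 := by
    rintro rfl
    rw [mul_zero] at hc'
    exact minpoly.ne_zero hint hc'
  have hf0' : f ≠ 0 := by
    rintro rfl
    simp at hf0
  have hcne : aeval z c ≠ 0 := by
    intro h0
    have h1 := minpoly.dvd F z h0
    rw [hc'] at h1
    have h2 := natDegree_le_of_dvd h1 hc0
    rw [natDegree_mul hf0' hc0] at h2
    omega
  obtain ⟨j, hj⟩ : ∃ j : Fin n, (aeval z c).mulVec (Pi.single j 1) ≠ 0 := by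
    by_contra hcon
    push Not at hcon
    apply hcne
    apply Matrix.toLin'.injective
    apply LinearMap.pi_ext'
    intro j
    apply LinearMap.ext_ring
    simp only [LinearMap.coe_comp, LinearMap.coe_single, Function.comp_apply,
      Matrix.toLin'_apply, map_zero, LinearMap.zero_apply]
    exact hcon j
  refine ⟨_, hj, ?_⟩
  rw [Matrix.mulVec_mulVec, ← map_mul, ← hc', minpoly.aeval, Matrix.zero_mulVec]

/-- Twisting from a polynomial `φ` in a unitary semisimple `h` with `φ(h)` singular and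
`φ(h) φ(h)^* ≠ 0`. -/
theorem twist_of_poly (p : ℕ) [Fact p.Prime] [CharP F p] (σ : F →+* F)
    (hσσ : ∀ x, σ (σ x) = x) {n : ℕ} (h : Matrix (Fin n) (Fin n) F) (hU : IsU σ h) (m : ℕ)
    (hm : ¬ p ∣ m) (hh : h ^ m = 1) (ζ : F) (r : ℕ) (hζr : ζ ^ r = 1) (hζ1 : ζ ≠ 1)
    (hζσ : σ ζ * ζ = 1) (φ : F[X])
    (hS0 : aeval h φ * adjM σ (aeval h φ) ≠ 0) (v : Fin n → F) (hv : v ≠ 0)
    (hTv : (aeval h φ).mulVec v = 0) :
    ∃ ψ : F[X], IsU σ (aeval h ψ) ∧ (aeval h ψ) ^ r = 1 ∧ ¬ ∃ c : F, aeval h ψ = c • 1 := by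
  have hm0 : m ≠ 0 := by
    rintro rfl
    exact hm (dvd_zero p)
  have hc : ∀ a b : F[X], aeval h a * aeval h b = aeval h b * aeval h a := fun a b => by
    rw [← map_mul, ← map_mul, mul_comm]
  have hTa : adjM σ (aeval h φ) = aeval h (adjP σ m φ) := hU.adjM_aeval σ hm0 hh φ
  obtain ⟨S, hS⟩ : ∃ S : Matrix (Fin n) (Fin n) F, S = aeval h (φ * adjP σ m φ) := ⟨_, rfl⟩
  have hS' : S = aeval h φ * adjM σ (aeval h φ) := by rw [hS, map_mul, hTa]
  have hadj : adjM σ S = S := by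
    rw [hS', adjM_mul, adjM_adjM σ hσσ]
  have hSv : S.mulVec v = 0 := by
    rw [hS, map_mul, hc, ← Matrix.mulVec_mulVec, hTv, Matrix.mulVec_zero]
  have hsq : Squarefree (minpoly F S) := by
    rw [hS]
    exact squarefree_minpoly_aeval p h m hm hh _
  obtain ⟨ψ, h1, h2, h3⟩ := exists_unitary_twist σ ζ r hζr hζ1 hζσ S hadj hsq
    (by rw [hS']; exact hS0) v hv hSv
  refine ⟨ψ.comp (φ * adjP σ m φ), ?_, ?_, ?_⟩
  · rw [aeval_comp, ← hS]; exact h1
  · rw [aeval_comp, ← hS]; exact h2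
  · rw [aeval_comp, ← hS]; exact h3

/-- **Dichotomy** for semisimple unitary matrices of determinant one. -/
theorem unitary_dichotomy (p a q : ℕ) [Fact p.Prime] [CharP F p] (hq : q = p ^ a)
    (hF : Fintype.card F = q ^ 2) (σ : F →+* F) (hσq : ∀ x, σ x = x ^ q) {n : ℕ}
    (h : Matrix (Fin n) (Fin n) F) (hU : IsU σ h) (hdet : h.det = 1) (m : ℕ) (hm : ¬ p ∣ m)
    (hh : h ^ m = 1) (r : ℕ) (hr : r.Prime) (hrq : r ∣ q + 1) :
    (∃ ψ : F[X], IsU σ (aeval h ψ) ∧ (aeval h ψ) ^ r = 1 ∧ ¬ ∃ c : F, aeval h ψ = c • 1) ∨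
      ∃ c : F, h ^ (usum q n / Nat.gcd (usum q n) (q + 1)) = c • 1 := by
  classical
  rcases Nat.eq_zero_or_pos n with rfl | hnpos
  · right
    exact ⟨1, Subsingleton.elim _ _⟩
  haveI : Nonempty (Fin n) := ⟨⟨0, hnpos⟩⟩
  have hσσ : ∀ x, σ (σ x) = x := by
    intro x
    rw [hσq, hσq, ← pow_mul, ← sq, ← hF, FiniteField.pow_card]
  have hm0 : m ≠ 0 := by
    rintro rfl
    exact hm (dvd_zero p)
  have hc : ∀ a b : F[X], aeval h a * aeval h b = aeval h b * aeval h a := fun a b => by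
    rw [← map_mul, ← map_mul, mul_comm]
  obtain ⟨ζ, hζr, hζ1, hζσ⟩ := exists_uzeta q hF σ hσq r hr hrq
  have hint : IsIntegral F h := Matrix.isIntegral h
  -- first step: the order divides `usum q n`, or a twist exists
  have step1 : (∃ ψ : F[X], IsU σ (aeval h ψ) ∧ (aeval h ψ) ^ r = 1 ∧
      ¬ ∃ c : F, aeval h ψ = c • 1) ∨ h ^ usum q n = 1 := by
    by_cases hirr : Irreducible (minpoly F h)
    · exact Or.inr (pow_usum_of_irr p a q hq hF σ hσq h hU hdet hirr)
    · obtain ⟨f, hfirr, hfdvd⟩ := WfDvdMonoid.exists_irreducible_factor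
        (minpoly.not_isUnit F h) (minpoly.ne_zero hint)
      obtain ⟨c, hc'⟩ := hfdvd
      have hc0 : c ≠ 0 := by
        rintro rfl
        rw [mul_zero] at hc'
        exact minpoly.ne_zero hint hc'
      have hT : aeval h f ≠ 0 := by
        intro h0
        have h1 := minpoly.dvd F h h0
        apply hirr
        have h2 : Associated (minpoly F h) f := associated_of_dvd_dvd h1 ⟨c, hc'⟩
        exact h2.symm.irreducible hfirr
      by_cases hS : aeval h f * adjM σ (aeval h f) = 0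
      · exact Or.inr (pow_usum_of_pair p a q hq hF σ hσq h hU hdet m hm hh f hfirr hS hT)
      · left
        obtain ⟨v, hv, hTv⟩ := exists_ker_of_dvd_minpoly h f hfirr.natDegree_pos ⟨c, hc'⟩
        exact twist_of_poly p σ hσσ h hU m hm hh ζ r hζr hζ1 hζσ f hS v hv hTv
  rcases step1 with htw | hpow
  · exact Or.inl htw
  -- second step
  obtain ⟨M', hM'⟩ : ∃ M', M' = usum q n := ⟨_, rfl⟩
  rw [← hM'] at hpow ⊢
  obtain ⟨G, hG⟩ : ∃ G, G = Nat.gcd M' (q + 1) := ⟨_, rfl⟩
  rw [← hG]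
  have hGM : G ∣ M' := hG ▸ Nat.gcd_dvd_left _ _
  obtain ⟨k, hk⟩ : G ∣ q + 1 := hG ▸ Nat.gcd_dvd_right _ _
  obtain ⟨z, hz⟩ : ∃ z : Matrix (Fin n) (Fin n) F, z = h ^ (M' / G) := ⟨_, rfl⟩
  rw [← hz]
  by_cases hsc : ∃ c : F, z = c • 1
  · exact Or.inr hsc
  left
  have hzq : z ^ (q + 1) = 1 := by
    rw [hz, ← pow_mul, hk, ← mul_assoc, Nat.div_mul_cancel hGM, pow_mul, hpow, one_pow]
  have hzU : IsU σ z := by rw [hz]; exact hU.pow σ _
  -- an eigenvalue of `z` in `F`
  obtain ⟨c, hcroot⟩ : ∃ c : F, (minpoly F z).eval c = 0 := by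
    have hsplit : (X ^ Fintype.card F - X : F[X]).Splits := by
      rw [splits_iff_card_roots, FiniteField.roots_X_pow_card_sub_X,
        FiniteField.X_pow_card_sub_X_natDegree_eq F Fintype.one_lt_card]
      rfl
    have hdvd : minpoly F z ∣ (X ^ Fintype.card F - X : F[X]) := by
      apply minpoly.dvd
      rw [map_sub, map_pow, aeval_X, hF]
      have h2 : q ^ 2 = (q + 1) * (q - 1) + 1 := by
        have hq1 : 1 ≤ q := by
          have h1 : 1 < Fintype.card F := Fintype.one_lt_card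
          rw [hF] at h1
          by_contra hcon
          have : q = 0 := by omega
          rw [this] at h1
          omega
        obtain ⟨t, rfl⟩ : ∃ t, q = t + 1 := ⟨q - 1, by omega⟩
        rw [Nat.add_sub_cancel]
        ring
      rw [h2, pow_succ, pow_mul, hzq, one_pow, one_mul, sub_self]
    have h3 := Splits.of_dvd hsplit
      (FiniteField.X_pow_card_sub_X_ne_zero F Fintype.one_lt_card) hdvd
    apply h3.exists_eval_eq_zero
    intro hdeg
    exact minpoly.not_isUnit F z (Polynomial.isUnit_iff_degree_eq_zero.mpr hdeg)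
  have hXc : (X - C c : F[X]) ∣ minpoly F z := Polynomial.dvd_iff_isRoot.mpr hcroot
  obtain ⟨v, hv, hvz'⟩ := exists_ker_of_dvd_minpoly z (X - C c)
    (by rw [natDegree_X_sub_C]; exact Nat.one_pos) hXc
  have hvz : (z - c • (1 : Matrix (Fin n) (Fin n) F)).mulVec v = 0 := by
    rw [map_sub, aeval_X, aeval_C, Algebra.algebraMap_eq_smul_one] at hvz'
    exact hvz'
  have hzv : z.mulVec v = c • v := by
    rw [Matrix.sub_mulVec, Matrix.smul_mulVec, Matrix.one_mulVec] at hvz
    exact sub_eq_zero.mp hvz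
  have hcq : c ^ (q + 1) = 1 := by
    have h1 : ∀ k : ℕ, (z ^ k).mulVec v = c ^ k • v := by
      intro k
      induction k with
      | zero => simp
      | succ k ih =>
        rw [pow_succ, ← Matrix.mulVec_mulVec, hzv, Matrix.mulVec_smul, ih, smul_smul, pow_succ,
          mul_comm]
    have h2 := h1 (q + 1)
    rw [hzq, Matrix.one_mulVec] at h2
    have h3 : (c ^ (q + 1) - 1) • v = 0 := by rw [sub_smul, one_smul, ← h2, sub_self]
    rcases smul_eq_zero.mp h3 with h4 | h4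
    · exact sub_eq_zero.mp h4
    · exact absurd h4 hv
  have hσc : σ c * c = 1 := by rw [hσq, ← pow_succ, hcq]
  have hσc0 : σ c ≠ 0 := by
    intro h0
    rw [h0, zero_mul] at hσc
    exact zero_ne_one hσc
  obtain ⟨φ, hφ⟩ : ∃ φ : F[X], φ = X ^ (M' / G) - C c := ⟨_, rfl⟩
  have hφz : aeval h φ = z - c • 1 := by
    rw [hφ, map_sub, map_pow, aeval_X, aeval_C, Algebra.algebraMap_eq_smul_one, hz]
  refine twist_of_poly p σ hσσ h hU m hm hh ζ r hζr hζ1 hζσ φ ?_ v hv (by rw [hφz]; exact hvz)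
  intro hS
  apply hsc
  refine ⟨c, ?_⟩
  obtain ⟨T, hT⟩ : ∃ T : Matrix (Fin n) (Fin n) F, T = z - c • 1 := ⟨_, rfl⟩
  rw [hφz, ← hT] at hS
  have hTz : adjM σ T * z = -(σ c) • T := by
    rw [hT, adjM_sub, adjM_smul, adjM_one, sub_mul, hzU, smul_mul_assoc, one_mul, smul_sub,
      smul_smul, neg_mul, hσc, neg_smul, neg_smul, one_smul]
    abel
  have hTT : T * T = 0 := by
    have h1 : T * adjM σ T * z = 0 := by rw [hS, zero_mul]
    rw [mul_assoc, hTz, mul_smul_comm] at h1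
    have h2 := congrArg (fun M => (-(σ c))⁻¹ • M) h1
    simp only [smul_smul, inv_mul_cancel₀ (neg_ne_zero.mpr hσc0), one_smul, smul_zero] at h2
    exact h2
  obtain ⟨u, hu⟩ := exists_ginv T (by
    rw [hT, ← hφz]
    exact squarefree_minpoly_aeval p h m hm hh φ)
  rw [mul_assoc, hTT, mul_zero] at hu
  rw [← hu] at hT
  exact (sub_eq_zero.mp hT.symm)

end dich

end Cfsg.Agent.Lib.Helper49
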