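import Mathlib
import Cfsg.Agent.Lib.Helper7.SUCenter
import Cfsg.Agent.Lib.Helper49.UBase

set_option autoImplicit false
set_option linter.style.haveILetI false
set_option linter.unusedSectionVars false

/-!
`SU_n(q)` and `PSU_n(q)`: membership via `IsU`, the power criterion in `PSU_n(q)`, and twisting
by a non-scalar unitary matrix of prime order `r ∣ q + 1`, `r ∤ n`, in the centraliser.
-/

namespace Cfsg.Agent.Lib.Helper49

open Cfsg.Agent.Lib.Helper47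

section su

variable {F : Type*} [Field F] {q : ℕ}

/-- the matrix of an element of `SU_n(q)` -/
abbrev suMat {n : ℕ} (g : Cfsg.SU n F q) : Matrix (Fin n) (Fin n) F :=
  ((g : Matrix.SpecialLinearGroup (Fin n) F) : Matrix (Fin n) (Fin n) F)

theorem suMat_mul {n : ℕ} (g h : Cfsg.SU n F q) : suMat (g * h) = suMat g * suMat h := rfl

theorem suMat_one {n : ℕ} : suMat (1 : Cfsg.SU n F q) = 1 := rfl

theorem suMat_pow {n : ℕ} (g : Cfsg.SU n F q) (k : ℕ) : suMat (g ^ k) = suMat g ^ k := by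
  induction k with
  | zero => rw [pow_zero, pow_zero, suMat_one]
  | succ k ih => rw [pow_succ, pow_succ, suMat_mul, ih]

theorem su_ext {n : ℕ} {g h : Cfsg.SU n F q} (H : suMat g = suMat h) : g = h :=
  Subtype.ext (Subtype.ext H)

theorem mem_SU_iff_isU (σ : F →+* F) (hσq : ∀ x, σ x = x ^ q) (hσσ : ∀ x, σ (σ x) = x) {n : ℕ}
    (g : Matrix.SpecialLinearGroup (Fin n) F) :
    g ∈ Cfsg.SU n F q ↔ IsU σ (g : Matrix (Fin n) (Fin n) F) := by
  rw [Cfsg.Agent.Lib.Helper47.mem_SU_iff, isU_iff σ hσσ]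
  constructor
  · intro h x y
    have := h x y
    rw [hermForm_eq q σ hσq, hermForm_eq q σ hσq] at this
    exact this
  · intro h x y
    rw [hermForm_eq q σ hσq, hermForm_eq q σ hσq]
    exact h x y

theorem suMat_isU (σ : F →+* F) (hσq : ∀ x, σ x = x ^ q) (hσσ : ∀ x, σ (σ x) = x) {n : ℕ}
    (g : Cfsg.SU n F q) : IsU σ (suMat g) :=
  (mem_SU_iff_isU σ hσq hσσ g.1).mp g.2

theorem exists_su_of_isU (σ : F →+* F) (hσq : ∀ x, σ x = x ^ q) (hσσ : ∀ x, σ (σ x) = x)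
    {n : ℕ} (A : Matrix (Fin n) (Fin n) F) (hdet : A.det = 1) (hA : IsU σ A) :
    ∃ g : Cfsg.SU n F q, suMat g = A :=
  ⟨⟨⟨A, hdet⟩, (mem_SU_iff_isU σ hσq hσσ _).mpr hA⟩, rfl⟩

variable [Fintype F]

/-- The power criterion in `PSU_n(q)`. -/
theorem psu_pow_eq_one_iff (hF : Fintype.card F = q ^ 2) {n : ℕ} (g : Cfsg.SU n F q) (k : ℕ) :
    (QuotientGroup.mk g : Cfsg.PSU n F q) ^ k = 1 ↔
      ∃ c : F, suMat g ^ k = c • (1 : Matrix (Fin n) (Fin n) F) := by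
  rw [← QuotientGroup.mk_pow, QuotientGroup.eq_one_iff, ← suMat_pow]
  generalize g ^ k = z
  constructor
  · intro hz
    rcases Nat.eq_zero_or_pos n with rfl | hn
    · exact ⟨1, Subsingleton.elim _ _⟩
    refine ⟨suMat z ⟨0, hn⟩ ⟨0, hn⟩, ?_⟩
    ext a b
    rw [Matrix.smul_apply, Matrix.one_apply]
    by_cases hab : a = b
    · subst hab
      rw [if_pos rfl, smul_eq_mul, mul_one]
      by_cases ha : a = ⟨0, hn⟩
      · rw [ha]
      · exact Cfsg.Agent.Lib.Helper7.su_center_diag_eq hF z hz a ⟨0, hn⟩ ha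
    · rw [if_neg hab, smul_zero]
      exact Cfsg.Agent.Lib.Helper7.su_center_offdiag hF z hz a b hab
  · rintro ⟨c, hc⟩
    rw [Subgroup.mem_center_iff]
    intro x
    apply su_ext
    rw [suMat_mul, suMat_mul, hc, Matrix.mul_smul, Matrix.smul_mul, mul_one, one_mul]

/-- Twisting by a non-scalar unitary matrix `z₀` with `z₀ ^ r = 1` in the centraliser of `g`:
an element of `PSU_n(q)` whose order is divisible by `r * orderOf (mk g)`. -/
theorem su_twist_order (hF : Fintype.card F = q ^ 2) (σ : F →+* F) (hσq : ∀ x, σ x = x ^ q)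
    {n : ℕ} (r : ℕ) (hr : r.Prime) (hrn : ¬ r ∣ n) (hrq : r ∣ q + 1)
    (g : Cfsg.SU n F q) (z₀ : Matrix (Fin n) (Fin n) F)
    (hcomm : z₀ * suMat g = suMat g * z₀) (hz : z₀ ^ r = 1) (hzU : IsU σ z₀)
    (hns : ¬ ∃ c : F, z₀ = c • 1)
    (hrg : ¬ r ∣ orderOf (QuotientGroup.mk g : Cfsg.PSU n F q)) :
    ∃ y : Cfsg.PSU n F q, r * orderOf (QuotientGroup.mk g : Cfsg.PSU n F q) ∣ orderOf y := by
  classical
  have hσσ : ∀ x, σ (σ x) = x := by
    intro x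
    rw [hσq, hσq, ← pow_mul, ← sq, ← hF, FiniteField.pow_card]
  obtain ⟨δ, hδ⟩ : ∃ δ : F, δ = z₀.det := ⟨_, rfl⟩
  have hδr : δ ^ r = 1 := by rw [hδ, ← Matrix.det_pow, hz, Matrix.det_one]
  have hcop : Nat.Coprime n r := ((Nat.Prime.coprime_iff_not_dvd hr).mpr hrn).symm
  obtain ⟨a', -, ha'⟩ := Nat.exists_mul_mod_eq_one_of_coprime hcop hr.one_lt
  obtain ⟨a, b, hab⟩ : ∃ a b : ℕ, a * n + 1 = r * b := by
    refine ⟨(r - 1) * a', (r - 1) * (n * a' / r) + 1, ?_⟩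
    have h1 := Nat.div_add_mod (n * a') r
    rw [ha'] at h1
    obtain ⟨s, rfl⟩ : ∃ s, r = s + 1 := ⟨r - 1, by have := hr.one_lt; omega⟩
    rw [Nat.add_sub_cancel]
    generalize n * a' / (s + 1) = c at h1
    have h2 : s * a' * n = s * (n * a') := by ring
    rw [h2, ← h1]
    ring
  obtain ⟨lam, hlam⟩ : ∃ lam : F, lam = δ ^ a := ⟨_, rfl⟩
  have hlamr : lam ^ r = 1 := by rw [hlam, ← pow_mul, mul_comm, pow_mul, hδr, one_pow]
  have hlam0 : lam ≠ 0 := by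
    rintro rfl
    rw [zero_pow hr.ne_zero] at hlamr
    exact zero_ne_one hlamr
  have hlamn : lam ^ n * δ = 1 := by
    rw [hlam, ← pow_mul, ← pow_succ, hab, pow_mul, hδr, one_pow]
  have hlamσ : σ lam * lam = 1 := by
    obtain ⟨k, hk⟩ := hrq
    rw [hσq, ← pow_succ, hk, pow_mul, hlamr, one_pow]
  obtain ⟨z, hzdef⟩ : ∃ z : Matrix (Fin n) (Fin n) F, z = lam • z₀ := ⟨_, rfl⟩
  have hzdet : z.det = 1 := by
    rw [hzdef, Matrix.det_smul, Fintype.card_fin, ← hδ, hlamn]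
  have hzr : z ^ r = 1 := by rw [hzdef, smul_pow, hlamr, hz, one_smul]
  have hzU' : IsU σ z := by
    rw [hzdef]
    exact IsU.smul σ hlamσ hzU
  have hzns : ¬ ∃ c : F, z = c • 1 := by
    rintro ⟨c, hc⟩
    apply hns
    refine ⟨lam⁻¹ * c, ?_⟩
    rw [hzdef] at hc
    have h1 := congrArg (fun X => lam⁻¹ • X) hc
    simp only [smul_smul, inv_mul_cancel₀ hlam0, one_smul] at h1
    exact h1
  have hzcomm : z * suMat g = suMat g * z := by
    rw [hzdef, smul_mul_assoc, hcomm, mul_smul_comm]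
  have hzscalar : ∀ i : ℕ, (∃ c : F, z ^ i = c • 1) → r ∣ i := by
    rintro i ⟨c, hc⟩
    by_contra hri
    have hcop' : Nat.Coprime i r := ((Nat.Prime.coprime_iff_not_dvd hr).mpr hri).symm
    obtain ⟨i', -, hi'⟩ := Nat.exists_mul_mod_eq_one_of_coprime hcop' hr.one_lt
    apply hzns
    refine ⟨c ^ i', ?_⟩
    have h1 := Nat.div_add_mod (i * i') r
    rw [hi'] at h1
    have h2 : z ^ (i * i') = z := by
      rw [← h1, pow_add, pow_mul, hzr, one_pow, one_mul, pow_one]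
    rw [← h2, pow_mul, hc, smul_pow, one_pow]
  obtain ⟨zs, hzs⟩ := exists_su_of_isU (q := q) σ hσq hσσ z hzdet hzU'
  have hk0 : orderOf g ≠ 0 := (orderOf_pos g).ne'
  obtain ⟨t, m₀, hm₀, hkt⟩ := Nat.exists_eq_pow_mul_and_not_dvd hk0 r hr.ne_one
  obtain ⟨a₀, ha₀⟩ : ∃ a₀, a₀ = orderOf (QuotientGroup.mk g : Cfsg.PSU n F q) := ⟨_, rfl⟩
  rw [← ha₀] at hrg ⊢
  have hcop0 : Nat.Coprime r a₀ := (Nat.Prime.coprime_iff_not_dvd hr).mpr hrg
  have hg1 : (g ^ (r ^ t)) ^ m₀ = 1 := by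
    rw [← pow_mul, ← hkt, pow_orderOf_eq_one]
  have hg1ord : orderOf (QuotientGroup.mk (g ^ (r ^ t)) : Cfsg.PSU n F q) = a₀ := by
    rw [QuotientGroup.mk_pow, ha₀]
    apply Nat.Coprime.orderOf_pow
    rw [← ha₀]
    exact (Nat.Coprime.pow_left t hcop0).symm
  obtain ⟨G₁, hG₁⟩ : ∃ G₁ : Matrix (Fin n) (Fin n) F, G₁ = suMat (g ^ (r ^ t)) := ⟨_, rfl⟩
  have hG₁m : G₁ ^ m₀ = 1 := by
    rw [hG₁, ← suMat_pow, hg1, suMat_one]
  have hG₁z : Commute G₁ z := by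
    rw [hG₁, suMat_pow]
    exact (Commute.pow_left (show Commute (suMat g) z from hzcomm.symm) _)
  refine ⟨QuotientGroup.mk (g ^ (r ^ t) * zs), ?_⟩
  obtain ⟨j, hj⟩ : ∃ j, j = orderOf (QuotientGroup.mk (g ^ (r ^ t) * zs) : Cfsg.PSU n F q) :=
    ⟨_, rfl⟩
  rw [← hj]
  have hpj := pow_orderOf_eq_one (QuotientGroup.mk (g ^ (r ^ t) * zs) : Cfsg.PSU n F q)
  rw [← hj, psu_pow_eq_one_iff hF, suMat_mul, ← hG₁, hzs, hG₁z.mul_pow] at hpj
  obtain ⟨ν, hν⟩ := hpj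
  have hrj : r ∣ j := by
    have h1 : z ^ (j * m₀) = ν ^ m₀ • 1 := by
      have h2 : (G₁ ^ j * z ^ j) ^ m₀ = (ν • (1 : Matrix (Fin n) (Fin n) F)) ^ m₀ := by rw [hν]
      rw [(hG₁z.pow_pow j j).mul_pow, ← pow_mul, ← pow_mul, mul_comm j m₀, pow_mul G₁, hG₁m,
        one_pow, one_mul, smul_pow, one_pow, mul_comm m₀ j] at h2
      exact h2
    have h3 := hzscalar _ ⟨_, h1⟩
    exact ((Nat.Prime.dvd_mul hr).mp h3).resolve_right hm₀
  have hzj : z ^ j = 1 := by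
    obtain ⟨j', rfl⟩ := hrj
    rw [pow_mul, hzr, one_pow]
  rw [hzj, mul_one] at hν
  have haj : a₀ ∣ j := by
    rw [← hg1ord, orderOf_dvd_iff_pow_eq_one, psu_pow_eq_one_iff hF, ← hG₁]
    exact ⟨ν, hν⟩
  exact hcop0.mul_dvd_of_dvd_of_dvd hrj haj

end su

end Cfsg.Agent.Lib.Helper49
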