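import Mathlib
import Cfsg.Agent.Lib.Helper49.UCox
import Cfsg.Agent.Lib.Helper49.PSLn

set_option autoImplicit false
set_option linter.style.haveILetI false
set_option linter.unusedSectionVars false

/-!
A regular unipotent element of the unitary group, and block diagonal unitary matrices.
-/

namespace Cfsg.Agent.Lib.Helper49

open Polynomial Cfsg.Agent.Lib.Helper47

section rev

variable {F : Type*} [Field F]

/-- the reversal permutation matrix -/
def revM (F : Type*) [Field F] (k : ℕ) : Matrix (Fin k) (Fin k) F :=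
  Matrix.of fun i j => if (i : ℕ) + j + 1 = k then 1 else 0

theorem revM_apply (k : ℕ) (i j : Fin k) :
    revM F k i j = if (i : ℕ) + j + 1 = k then 1 else 0 := rfl

theorem revM_mul_self (k : ℕ) : revM F k * revM F k = 1 := by
  ext i j
  rw [Matrix.mul_apply, Matrix.one_apply]
  simp only [revM_apply]
  rw [Finset.sum_eq_single ⟨k - 1 - i, by have := i.2; omega⟩]
  · have hi := i.2
    have hj := j.2
    rw [if_pos (by simp only; omega), one_mul]
    by_cases h : i = j
    · rw [if_pos h, if_pos]
      simp only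
      rw [← h]
      omega
    · rw [if_neg h, if_neg]
      simp only
      intro h'
      apply h
      apply Fin.ext
      omega
  · intro l _ hl
    rw [if_neg, zero_mul]
    intro h'
    apply hl
    apply Fin.ext
    simp only
    omega
  · intro h'
    exact absurd (Finset.mem_univ _) h'

theorem adjM_revM (σ : F →+* F) (k : ℕ) : adjM σ (revM F k) = revM F k := by
  ext i j
  rw [adjM_apply, revM_apply, revM_apply]
  by_cases h : (i : ℕ) + j + 1 = k
  · rw [if_pos h, if_pos (by omega), map_one]
  · rw [if_neg h, if_neg (by omega), map_zero]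

theorem adjM_shiftM_mul_revM (σ : F →+* F) (k : ℕ) :
    adjM σ (shiftM F k 1) * revM F k = revM F k * shiftM F k 1 := by
  ext i j
  rw [Matrix.mul_apply, Matrix.mul_apply]
  simp only [adjM_apply, shiftM_apply, revM_apply]
  have hi := i.2
  have hj := j.2
  by_cases h : (i : ℕ) + j = k
  · rw [Finset.sum_eq_single ⟨i - 1, by omega⟩, Finset.sum_eq_single ⟨j - 1, by omega⟩]
    · rw [if_pos (by simp only; omega), if_pos (by simp only; omega), if_pos (by simp only; omega),
        if_pos (by simp only; omega), map_one]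
    · intro l _ hl
      rw [if_neg, zero_mul]
      intro h'
      apply hl
      apply Fin.ext
      simp only
      omega
    · intro h'
      exact absurd (Finset.mem_univ _) h'
    · intro l _ hl
      rw [if_neg, map_zero, zero_mul]
      intro h'
      apply hl
      apply Fin.ext
      simp only
      omega
    · intro h'
      exact absurd (Finset.mem_univ _) h'
  · rw [Finset.sum_eq_zero, Finset.sum_eq_zero]
    · intro l _
      by_cases h1 : (i : ℕ) + l + 1 = k
      · rw [if_pos h1, if_neg (by omega), mul_zero]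
      · rw [if_neg h1, zero_mul]
    · intro l _
      by_cases h1 : (i : ℕ) = l + 1
      · rw [if_pos h1, if_neg (by omega), map_one, mul_zero]
      · rw [if_neg h1, map_zero, zero_mul]

theorem det_one_add_smul_shiftM (k : ℕ) (c : F) : (1 + c • shiftM F k 1).det = 1 := by
  rw [Matrix.det_of_isUpperTriangular]
  · apply Finset.prod_eq_one
    intro i _
    simp [shiftM_apply]
  · intro i j hij
    have hij' : (j : ℕ) < i := hij
    rw [Matrix.add_apply, Matrix.one_apply, Matrix.smul_apply, shiftM_apply, if_neg, if_neg,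
      smul_zero, add_zero]
    · omega
    · intro h
      rw [h] at hij'
      omega

end rev

section blocks

variable {F : Type*} [Field F]

theorem bdiag_mul' {a b : ℕ} (A A' : Matrix (Fin a) (Fin a) F) (B B' : Matrix (Fin b) (Fin b) F) :
    bdiag A B * bdiag A' B' = bdiag (A * A') (B * B') := by
  unfold bdiag
  rw [← map_mul, Matrix.fromBlocks_multiply]
  simp

theorem adjM_bdiag (σ : F →+* F) {a b : ℕ} (A : Matrix (Fin a) (Fin a) F)
    (B : Matrix (Fin b) (Fin b) F) : adjM σ (bdiag A B) = bdiag (adjM σ A) (adjM σ B) := by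
  ext i j
  unfold bdiag
  rw [adjM_apply]
  simp only [Matrix.coe_reindexAlgEquiv, Matrix.reindex_apply, Matrix.submatrix_apply]
  rcases finSumFinEquiv.symm i with i' | i' <;> rcases finSumFinEquiv.symm j with j' | j' <;>
    simp [adjM_apply]

theorem IsU.bdiag (σ : F →+* F) {a b : ℕ} {A : Matrix (Fin a) (Fin a) F}
    {B : Matrix (Fin b) (Fin b) F} (hA : IsU σ A) (hB : IsU σ B) : IsU σ (bdiag A B) := by
  unfold IsU at *
  rw [adjM_bdiag, bdiag_mul', hA, hB, bdiag_one]

end blocks

section unip

variable {F : Type*} [Field F] [Fintype F]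

omit [Fintype F] in
theorem comm_of_inv {k : ℕ} {X A D : Matrix (Fin k) (Fin k) F} (h1 : A * D = 1) (h2 : D * A = 1)
    (hc : X * A = A * X) : X * D = D * X := by
  calc X * D = (D * A) * X * D := by rw [h2, one_mul]
    _ = D * (A * X) * D := by simp only [mul_assoc]
    _ = D * (X * A) * D := by rw [hc]
    _ = D * X * (A * D) := by simp only [mul_assoc]
    _ = D * X := by rw [h1, mul_one]

/-- A regular unipotent element of the unitary group: `J ^ (p ^ s) = 1` iff `k ≤ p ^ s`. -/
theorem exists_unitary_jordan (p : ℕ) [Fact p.Prime] [CharP F p] (q : ℕ)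
    (hF : Fintype.card F = q ^ 2) (σ : F →+* F) (hσq : ∀ x, σ x = x ^ q) (k : ℕ) :
    ∃ J : Matrix (Fin k) (Fin k) F, J.det = 1 ∧ IsU σ J ∧
      ∀ s : ℕ, J ^ (p ^ s) = 1 ↔ k ≤ p ^ s := by
  classical
  rcases Nat.eq_zero_or_pos k with rfl | hk
  · exact ⟨1, Matrix.det_one, IsU.one σ,
      fun s => ⟨fun _ => Nat.zero_le _, fun _ => Subsingleton.elim _ _⟩⟩
  haveI : Nonempty (Fin k) := ⟨⟨0, hk⟩⟩
  have hσσ := sigma_sigma q hF σ hσq
  obtain ⟨x, hx⟩ := sigma_ne q hF σ hσq
  obtain ⟨N, hN⟩ : ∃ N : Matrix (Fin k) (Fin k) F, N = shiftM F k 1 := ⟨_, rfl⟩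
  obtain ⟨H, hH⟩ : ∃ H : Matrix (Fin k) (Fin k) F, H = revM F k := ⟨_, rfl⟩
  have hHH : H * H = 1 := by
    rw [hH]
    exact revM_mul_self k
  have hHadj : adjM σ H = H := by
    rw [hH]
    exact adjM_revM σ k
  have hNH : adjM σ N * H = H * N := by
    rw [hN, hH]
    exact adjM_shiftM_mul_revM σ k
  have hNpow : ∀ j : ℕ, N ^ j = 0 ↔ k ≤ j := by
    intro j
    rw [hN, shiftM_pow, shiftM_eq_zero_iff]
  have hNk : N ^ k = 0 := (hNpow k).mpr le_rfl
  obtain ⟨A, hA⟩ : ∃ A : Matrix (Fin k) (Fin k) F, A = 1 + x • N := ⟨_, rfl⟩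
  obtain ⟨A', hA'⟩ : ∃ A' : Matrix (Fin k) (Fin k) F, A' = 1 + σ x • N := ⟨_, rfl⟩
  obtain ⟨D, hD⟩ : ∃ D : Matrix (Fin k) (Fin k) F,
      D = ∑ i ∈ Finset.range k, (-(σ x • N)) ^ i := ⟨_, rfl⟩
  have hpk : (-(σ x • N)) ^ k = 0 := by
    rw [neg_pow, _root_.smul_pow, hNk, smul_zero, mul_zero]
  have hAD : A' * D = 1 := by
    have h1 := mul_neg_geom_sum (-(σ x • N)) k
    rw [sub_neg_eq_add, ← hA', ← hD, hpk, sub_zero] at h1
    exact h1
  have hDA : D * A' = 1 := by
    have h1 := geom_sum_mul_neg (-(σ x • N)) k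
    rw [sub_neg_eq_add, ← hA', ← hD, hpk, sub_zero] at h1
    exact h1
  have hcN : ∀ c d : F, (1 + c • N) * (1 + d • N) = (1 + d • N) * (1 + c • N) := by
    intro c d
    have h1 : Commute (c • N) (d • N) := ((Commute.refl N).smul_left c).smul_right d
    exact ((Commute.one_left _).add_left ((Commute.one_right _).add_right h1)).eq
  have hAA' : A' * A = A * A' := by
    rw [hA, hA']
    exact hcN _ _
  have hNA' : N * A' = A' * N := by
    rw [hA']
    simp only [add_mul, mul_add, one_mul, mul_one, smul_mul_assoc, mul_smul_comm]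
  have hND : N * D = D * N := comm_of_inv hAD hDA hNA'
  have hadjA : adjM σ A = 1 + σ x • adjM σ N := by
    rw [hA, adjM_add, adjM_one, adjM_smul]
  have hadjA' : adjM σ A' = 1 + x • adjM σ N := by
    rw [hA', adjM_add, adjM_one, adjM_smul, hσσ]
  have hAH : adjM σ A * H = H * A' := by
    rw [hadjA, add_mul, one_mul, smul_mul_assoc, hNH, hA', mul_add, mul_one, mul_smul_comm]
  have hA'H : adjM σ A' * H = H * A := by
    rw [hadjA', add_mul, one_mul, smul_mul_assoc, hNH, hA, mul_add, mul_one, mul_smul_comm]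
  have hadjD : adjM σ D * adjM σ A' = 1 := by
    rw [← adjM_mul, hAD, adjM_one]
  obtain ⟨u, hu⟩ : ∃ u : Matrix (Fin k) (Fin k) F, u = A * D := ⟨_, rfl⟩
  have huH : adjM σ u * (H * u) = H := by
    calc adjM σ u * (H * u) = adjM σ D * (adjM σ A * H) * (A * D) := by
          rw [hu, adjM_mul]
          simp only [mul_assoc]
      _ = adjM σ D * H * (A' * A * D) := by
          rw [hAH]
          simp only [mul_assoc]
      _ = adjM σ D * H * (A * (A' * D)) := by
          rw [hAA']
          simp only [mul_assoc]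
      _ = adjM σ D * (adjM σ A' * H) := by rw [hAD, mul_one, hA'H, mul_assoc]
      _ = H := by rw [← mul_assoc, hadjD, one_mul]
  have hudet : u.det = 1 := by
    have h1 : A.det = 1 := by
      rw [hA, hN]
      exact det_one_add_smul_shiftM k x
    have h2 : A'.det = 1 := by
      rw [hA', hN]
      exact det_one_add_smul_shiftM k (σ x)
    have h3 : A'.det * D.det = 1 := by rw [← Matrix.det_mul, hAD, Matrix.det_one]
    rw [h2, one_mul] at h3
    rw [hu, Matrix.det_mul, h1, h3, one_mul]
  have hc0 : x - σ x ≠ 0 := by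
    intro h
    exact hx (sub_eq_zero.mp h).symm
  have hsub : u - 1 = (x - σ x) • (N * D) := by
    rw [hu, ← hAD, ← sub_mul, hA, hA', add_sub_add_left_eq_sub, ← sub_smul, smul_mul_assoc]
  have hord : ∀ j : ℕ, (u - 1) ^ j = 0 ↔ k ≤ j := by
    intro j
    rw [hsub, _root_.smul_pow, (show Commute N D from hND).mul_pow, ← hNpow j]
    constructor
    · intro h
      have h1 : N ^ j * D ^ j = 0 := by
        rcases smul_eq_zero.mp h with h' | h'
        · exact absurd h' (pow_ne_zero j hc0)
        · exact h'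
      have h2 : D ^ j * A' ^ j = 1 := by
        have hc : Commute D A' := by
          unfold Commute SemiconjBy
          rw [hDA, hAD]
        rw [← hc.mul_pow, hDA, one_pow]
      calc N ^ j = N ^ j * (D ^ j * A' ^ j) := by rw [h2, mul_one]
        _ = 0 := by rw [← mul_assoc, h1, zero_mul]
    · intro h
      rw [h, zero_mul, smul_zero]
  have hupow : ∀ s : ℕ, u ^ (p ^ s) = 1 ↔ k ≤ p ^ s := by
    intro s
    rw [← hord, sub_pow_char_pow_of_commute p s (Commute.one_right u), one_pow, sub_eq_zero]
  have hU := uForm_isSForm (ι := Fin k) σ hσσ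
  obtain ⟨T, hdet, hTU, hpow⟩ := exists_unitary_model σ hσσ ⟨x, hx⟩ k (Module.finrank_fin_fun F)
    (fun v w => uForm σ v (H.mulVec w))
    ⟨fun v w z => hU.add_left _ _ _, fun c v w => hU.smul_left _ _ _, fun v w => by
      rw [← hU.symm v (H.mulVec w), uForm_star hσσ H w v]
      have h1 : (H.map σ).transpose = H := hHadj
      rw [h1]⟩
    (fun v hv => by
      apply uForm_nondeg σ v
      intro w
      have h1 : uForm σ v (H.mulVec (H.mulVec w)) = 0 := hv (H.mulVec w)
      rw [Matrix.mulVec_mulVec, hHH, Matrix.one_mulVec] at h1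
      exact h1)
    (Matrix.toLinAlgEquiv' u) (by
      intro v w
      simp only [Matrix.toLinAlgEquiv'_apply]
      rw [uForm_star hσσ u v, Matrix.mulVec_mulVec, Matrix.mulVec_mulVec]
      have h1 : (u.map σ).transpose * H * u = H := by
        rw [mul_assoc]
        exact huH
      rw [h1])
  refine ⟨T, ?_, hTU, ?_⟩
  · rw [hdet]
    have h1 : LinearMap.det (Matrix.toLin' u) = u.det := LinearMap.det_toLin' u
    rw [← hudet, ← h1]
    rfl
  · intro s
    have h1 : T ^ (p ^ s) = 1 ↔ (Matrix.toLinAlgEquiv' u) ^ (p ^ s) = 1 := by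
      have h2 := hpow (p ^ s) 1
      rwa [one_smul, one_smul] at h2
    rw [h1, ← map_pow, ← hupow s]
    constructor
    · intro h
      exact Matrix.toLinAlgEquiv'.injective (by rw [h, map_one])
    · intro h
      rw [h, map_one]

end unip

end Cfsg.Agent.Lib.Helper49
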